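import Cfsg.Agent.Lib.Fusion.TwoEssential.Flag

/-!
# A `p`-group acting on an abelian group of order at most `p³`

It stabilizes a series of length three, so double commutators act trivially.
-/

set_option autoImplicit false

namespace CfsgLib.Fusion.TwoEssential

open scoped commutatorElement

variable {p : ℕ} [hp : Fact p.Prime] {G V : Type*} [Group G] [CommGroup V] [Finite V]
  {f : G →* MulAut V}

omit hp [Finite V] in
/-- Automorphisms stabilizing a series of length two commute. -/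
theorem comm_of_two_step {K : Subgroup V} (h₁ : ∀ (g : G), ∀ x ∈ K, f g x = x)
    (h₂ : ∀ (g : G) (x : V), x⁻¹ * f g x ∈ K) (g h : G) : f ⁅g, h⁆ = 1 := by
  have key : ∀ (a b : G) (x : V), f (a * b) x = x * (x⁻¹ * f a x) * (x⁻¹ * f b x) := fun a b x => by
    rw [map_mul, MulAut.mul_apply]
    conv_lhs => rw [show f b x = x * (x⁻¹ * f b x) from (mul_inv_cancel_left _ _).symm, map_mul,
      h₁ a _ (h₂ b x)]
    rw [mul_inv_cancel_left]
  have hc : f (g * h) = f (h * g) := MulEquiv.ext fun x => by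
    rw [key, key, mul_right_comm]
  rw [commutatorElement_def, mul_assoc (g * h), ← mul_inv_rev, map_mul, map_inv f, hc, mul_inv_cancel]

/-- One step of a series on whose factors the group acts trivially. -/
theorem exists_step [Finite G] (hG : IsPGroup p G) (hV : IsPGroup p V) {N : Subgroup V} (hN : N ≠ ⊤)
    (hinv : ∀ (g : G), ∀ x ∈ N, f g x ∈ N) :
    ∃ N' : Subgroup V, N ≤ N' ∧ Nat.card N' = p * Nat.card N ∧
      ∀ (g : G), ∀ x ∈ N', x⁻¹ * f g x ∈ N := by
  have hp' := hp.out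
  have hmap : ∀ g, N ≤ N.comap (f g).toMonoidHom := fun g x hx => hinv g x hx
  letI : MulAction G (V ⧸ N) :=
    { smul := fun g v => QuotientGroup.map N N (f g).toMonoidHom (hmap g) v
      one_smul := fun v => by
        obtain ⟨x, rfl⟩ := QuotientGroup.mk'_surjective _ v
        show QuotientGroup.mk' N (f 1 x) = _
        rw [map_one, MulAut.one_apply]
      mul_smul := fun g h v => by
        obtain ⟨x, rfl⟩ := QuotientGroup.mk'_surjective _ v
        show QuotientGroup.mk' N (f (g * h) x) = QuotientGroup.mk' N (f g (f h x))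
        rw [map_mul, MulAut.mul_apply] }
  have hne : Nontrivial (V ⧸ N) := by
    obtain ⟨x, hx⟩ : ∃ x, x ∉ N := by
      by_contra h
      push Not at h
      exact hN (eq_top_iff.2 fun x _ => h x)
    exact ⟨QuotientGroup.mk' N x, 1, fun h => hx ((QuotientGroup.eq_one_iff _).1 h)⟩
  haveI : Finite (V ⧸ N) := inferInstance
  obtain ⟨k, hk⟩ := (hV.to_quotient N).exists_card_eq
  have hdvd : p ∣ Nat.card (V ⧸ N) := by
    rcases k with _ | k
    · rw [pow_zero] at hk
      exact absurd hk (Finite.one_lt_card).ne'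
    · rw [hk]; exact dvd_pow_self p (Nat.succ_ne_zero k)
  obtain ⟨F', hF'⟩ : ∃ F' : Subgroup (V ⧸ N), ∀ v, v ∈ F' ↔ v ∈ MulAction.fixedPoints G (V ⧸ N) :=
    ⟨{ carrier := MulAction.fixedPoints G (V ⧸ N)
       one_mem' := fun g => map_one (QuotientGroup.map N N (f g).toMonoidHom (hmap g))
       mul_mem' := fun {a b} ha hb g => by
         show QuotientGroup.map N N (f g).toMonoidHom (hmap g) (a * b) = a * b
         rw [map_mul]
         exact congrArg₂ (· * ·) (ha g) (hb g)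
       inv_mem' := fun {a} ha g => by
         show QuotientGroup.map N N (f g).toMonoidHom (hmap g) a⁻¹ = a⁻¹
         rw [map_inv]
         exact congrArg (·⁻¹) (ha g) }, fun v => Iff.rfl⟩
  obtain ⟨v, hv, hv1⟩ := hG.exists_fixed_point_of_prime_dvd_card_of_fixed_point (V ⧸ N) hdvd
    (a := 1) ((hF' 1).1 (one_mem F'))
  obtain ⟨j, hj⟩ := ((hV.to_quotient N).to_subgroup F').exists_card_eq
  have hpF : p ∣ Nat.card F' := by
    rcases j with _ | j
    · rw [pow_zero] at hj
      have := (Nat.card_eq_one_iff_unique.1 hj).1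
      exact absurd (congrArg Subtype.val (Subsingleton.elim (⟨1, one_mem F'⟩ : F') ⟨v, (hF' v).2 hv⟩)) hv1
    · rw [hj]; exact dvd_pow_self p (Nat.succ_ne_zero j)
  obtain ⟨w, hw⟩ := exists_prime_orderOf_dvd_card' p hpF
  refine ⟨(Subgroup.zpowers (w : V ⧸ N)).comap (QuotientGroup.mk' N), fun x hx => ?_, ?_,
    fun g x hx => ?_⟩
  · show QuotientGroup.mk' N x ∈ Subgroup.zpowers (w : V ⧸ N)
    rw [show QuotientGroup.mk' N x = 1 from (QuotientGroup.eq_one_iff _).2 hx]
    exact one_mem _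
  · let π := (QuotientGroup.mk' N).comp
      ((Subgroup.zpowers (w : V ⧸ N)).comap (QuotientGroup.mk' N)).subtype
    have hr : π.range = Subgroup.zpowers (w : V ⧸ N) := by
      rw [MonoidHom.range_comp, Subgroup.range_subtype,
        Subgroup.map_comap_eq_self_of_surjective (QuotientGroup.mk'_surjective _)]
    have hk : π.ker = N.subgroupOf _ := by
      ext x
      rw [MonoidHom.mem_ker, Subgroup.mem_subgroupOf]
      exact QuotientGroup.eq_one_iff _
    rw [π.ker.card_eq_card_quotient_mul_card_subgroup,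
      Nat.card_congr (QuotientGroup.quotientKerEquivRange π).toEquiv, hr, Nat.card_zpowers,
      Subgroup.orderOf_coe, hw, hk, Nat.card_congr (Subgroup.subgroupOfEquivOfLe (fun x hx => by
        show QuotientGroup.mk' N x ∈ Subgroup.zpowers (w : V ⧸ N)
        rw [show QuotientGroup.mk' N x = 1 from (QuotientGroup.eq_one_iff _).2 hx]
        exact one_mem _)).toEquiv]
  · obtain ⟨i, hi⟩ := Subgroup.mem_zpowers_iff.1 hx
    have hfix : QuotientGroup.mk' N (f g x) = QuotientGroup.mk' N x := by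
      have hm : QuotientGroup.mk' N x ∈ F' := hi ▸ zpow_mem w.2 i
      have h := (hF' _).1 hm g
      exact h
    exact QuotientGroup.eq.1 hfix.symm

/-- A series `L ≤ P ≤ V` of length three. -/
theorem exists_chain [Finite G] (hG : IsPGroup p G) (hV : IsPGroup p V)
    (hc : Nat.card V ≤ p ^ 3) :
    ∃ L P : Subgroup V, L ≤ P ∧ (∀ (g : G), ∀ x ∈ L, f g x = x) ∧
      (∀ (g : G), ∀ x ∈ P, x⁻¹ * f g x ∈ L) ∧ (∀ (g : G) (x : V), x⁻¹ * f g x ∈ P) ∧
      (Nat.card V ≤ p ^ 2 → P = L ∨ P = ⊤) ∧ (Nontrivial V → L ≠ ⊥) := by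
  have hp' := hp.out
  by_cases hV1 : Subsingleton V
  · refine ⟨⊤, ⊤, le_rfl, fun g x _ => Subsingleton.elim _ _, fun _ _ _ => trivial,
      fun _ _ => trivial, fun _ => Or.inl rfl, fun h => absurd hV1 (not_subsingleton V)⟩
  have hbot : (⊥ : Subgroup V) ≠ ⊤ := fun h => hV1 ⟨fun a b => by
    have ha : a ∈ (⊥ : Subgroup V) := h ▸ Subgroup.mem_top a
    have hb : b ∈ (⊥ : Subgroup V) := h ▸ Subgroup.mem_top b
    rw [Subgroup.mem_bot] at ha hb
    rw [ha, hb]⟩
  obtain ⟨L, -, hL, hLf⟩ := exists_step (f := f) hG hV hbot (fun g x hx => by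
    rw [Subgroup.mem_bot] at hx ⊢
    rw [hx, map_one])
  rw [Subgroup.card_bot, mul_one] at hL
  have hLfix : ∀ (g : G), ∀ x ∈ L, f g x = x := fun g x hx =>
    (inv_mul_eq_one.1 (Subgroup.mem_bot.1 (hLf g x hx))).symm
  have hL1 : L ≠ ⊥ := fun h => by
    rw [h, Subgroup.card_bot] at hL
    exact hp'.one_lt.ne hL
  by_cases hLt : L = ⊤
  · exact ⟨L, L, le_rfl, hLfix, fun g x hx => by rw [hLfix g x hx, inv_mul_cancel]; exact one_mem _,
      fun g x => hLt ▸ trivial, fun _ => Or.inl rfl, fun _ => hL1⟩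
  obtain ⟨P, hLP, hP, hPf⟩ := exists_step (f := f) hG hV hLt (fun g x hx => by rwa [hLfix g x hx])
  rw [hL] at hP
  by_cases hPt : P = ⊤
  · exact ⟨L, P, hLP, hLfix, hPf, fun g x => hPt ▸ trivial, fun _ => Or.inr hPt, fun _ => hL1⟩
  have hPinv : ∀ (g : G), ∀ x ∈ P, f g x ∈ P := fun g x hx => by
    rw [← mul_inv_cancel_left x (f g x)]
    exact mul_mem hx (hLP (hPf g x hx))
  obtain ⟨Q, hPQ, hQ, hQf⟩ := exists_step (f := f) hG hV hPt hPinv
  have hQc : Nat.card Q ≤ Nat.card V := Subgroup.card_le_card_group Q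
  rw [hP] at hQ
  have hQt : Q = ⊤ := Subgroup.eq_top_of_le_card Q (by
    rw [hQ, show p * (p * p) = p ^ 3 by ring]; exact hc)
  refine ⟨L, P, hLP, hLfix, hPf, fun g x => hQf g x (hQt ▸ trivial), fun h => ?_, fun _ => hL1⟩
  exfalso
  have h2 : p * (p * p) ≤ p * p := by rw [← hQ, ← pow_two]; exact hQc.trans h
  have h3 : 1 * (p * p) < p * (p * p) :=
    (Nat.mul_lt_mul_right (Nat.mul_pos hp'.pos hp'.pos)).2 hp'.one_lt
  omega

omit hp [Finite V] in
/-- Commutators move the group into the bottom of a series of length three. -/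
theorem comm_shift {L P : Subgroup V} (hLf : ∀ (g : G), ∀ x ∈ L, f g x = x)
    (hPf : ∀ (g : G), ∀ x ∈ P, x⁻¹ * f g x ∈ L) (hf : ∀ (g : G) (x : V), x⁻¹ * f g x ∈ P) (g h : G) :
    (∀ x ∈ P, f ⁅g, h⁆ x = x) ∧ ∀ x, x⁻¹ * f ⁅g, h⁆ x ∈ L := by
  have key : ∀ (a b : G) (x : V),
      f (a * b) x = x * (x⁻¹ * f a x) * (x⁻¹ * f b x) * ((x⁻¹ * f b x)⁻¹ * f a (x⁻¹ * f b x)) :=
    fun a b x => by
    rw [map_mul, MulAut.mul_apply, mul_assoc (x * (x⁻¹ * f a x)), mul_inv_cancel_left,
      mul_inv_cancel_left, ← map_mul (f a), mul_inv_cancel_left]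
  have hsplit : ∀ x, f ⁅g, h⁆ (f (h * g) x) = f (g * h) x := fun x => by
    rw [← MulAut.mul_apply, ← map_mul, commutatorElement_def,
      show g * h * g⁻¹ * h⁻¹ * (h * g) = g * h by group]
  have hall : ∀ x, (f (h * g) x)⁻¹ * f ⁅g, h⁆ (f (h * g) x) =
      ((x⁻¹ * f g x)⁻¹ * f h (x⁻¹ * f g x))⁻¹ * ((x⁻¹ * f h x)⁻¹ * f g (x⁻¹ * f h x)) := fun x => by
    rw [hsplit, key g h, key h g, mul_right_comm x (x⁻¹ * f g x)]
    rw [mul_inv_rev, mul_assoc, inv_mul_cancel_left]
  refine ⟨fun y hy => ?_, fun y => ?_⟩ <;> obtain ⟨x, rfl⟩ := (f (h * g)).surjective y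
  · have hx : x ∈ P := by
      have := mul_mem hy (inv_mem (hf (h * g) x))
      rwa [mul_inv_rev, inv_inv, mul_inv_cancel_left] at this
    refine (inv_mul_eq_one.1 ?_).symm
    rw [hall, hLf h _ (hPf g x hx), hLf g _ (hPf h x hx), inv_mul_cancel, inv_mul_cancel, inv_one,
      one_mul]
  · rw [hall]
    exact mul_mem (inv_mem (hPf h _ (hf g x))) (hPf g _ (hf h x))

/-- Double commutators act trivially, and commutators do when the order is at most `p²`. -/
theorem double_comm [Finite G] (hG : IsPGroup p G) (hV : IsPGroup p V) (hc : Nat.card V ≤ p ^ 3)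
    (g h k : G) : f ⁅g, ⁅h, k⁆⁆ = 1 ∧ (Nat.card V ≤ p ^ 2 → f ⁅h, k⁆ = 1) := by
  obtain ⟨L, P, hLP, hLf, hPf, hf, hsmall, -⟩ := exists_chain (f := f) hG hV hc
  obtain ⟨hP1, hV1⟩ := comm_shift hLf hPf hf h k
  constructor
  · obtain ⟨c, hcdef⟩ : ∃ c, c = ⁅h, k⁆ := ⟨_, rfl⟩
    rw [← hcdef] at hP1 hV1 ⊢
    have e : f (g * c) = f (c * g) := MulEquiv.ext fun x => by
      rw [map_mul, map_mul, MulAut.mul_apply, MulAut.mul_apply]
      conv_lhs => rw [← mul_inv_cancel_left x (f c x), map_mul, hLf g _ (hV1 x)]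
      conv_rhs => rw [← mul_inv_cancel_left x (f g x), map_mul, hP1 _ (hf g x)]
      simp only [mul_left_comm (f g x), mul_left_comm (f c x), mul_comm (f g x) (f c x)]
    rw [commutatorElement_def, mul_assoc (g * c), ← mul_inv_rev, map_mul, map_inv f, e, mul_inv_cancel]
  · intro h2
    rcases hsmall h2 with e | e
    · exact comm_of_two_step (K := P) (fun g x hx => hLf g x (e ▸ hx)) hf h k
    · exact comm_of_two_step (K := L) hLf (fun g x => hPf g x (e ▸ trivial)) h k

end CfsgLib.Fusion.TwoEssential
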