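import Cfsg.Agent.Lib.Fusion.NormalEssential.Main

/-!
# Invariant series of a normal essential subgroup

The automizer of a normal essential subgroup `E` stabilizes no series from `Φ(E)` to `E` on whose
factors `S` acts trivially.
-/

set_option autoImplicit false

namespace CfsgLib.Fusion.TwoEssential

open Cfsg Cfsg.FusionSystem CfsgLib CfsgLib.Fusion CfsgLib.Fusion.RankThree CfsgLib.Fusion.NormalEssential

variable {p : ℕ} [hp : Fact p.Prime] {Ω : Type*} [Group Ω] {S : Subgroup Ω}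
  {F : FusionSystem S} {E P K W : Subgroup Ω}

/-- `K` is preserved by the automorphisms of `P` in `F`. -/
def Inv (F : FusionSystem S) (P K : Subgroup Ω) : Prop :=
  ∀ α ∈ F.autGroup P, ∀ x : P, (x : Ω) ∈ K → (((α : MulAut P) x : P) : Ω) ∈ K

/-- The Frattini subgroup, inside the ambient group. -/
def phi (E : Subgroup Ω) : Subgroup Ω := (frattini E).map E.subtype

omit hp in
theorem phi_le : phi E ≤ E := Subgroup.map_subtype_le _

omit hp in
theorem mem_phi {x : E} : (x : Ω) ∈ phi E ↔ x ∈ frattini E :=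
  Subgroup.mem_map_iff_mem E.subtype_injective

omit hp in
theorem phi_inv : Inv F E (phi E) := fun α _ _ hx =>
  mem_phi.2 (Subgroup.characteristic_iff_map_le.1 inferInstance α ⟨_, mem_phi.1 hx, rfl⟩)

omit hp in
theorem Inv.sup {K' : Subgroup Ω} (hK : Inv F P K) (hK' : Inv F P K') (hle : K ≤ P) (hle' : K' ≤ P) :
    Inv F P (K ⊔ K') := by
  intro α hα x hx
  have h : K ⊔ K' ≤ (((K ⊔ K').comap P.subtype).comap (α : MulAut P).toMonoidHom).map P.subtype :=
    sup_le (fun y hy => ⟨⟨y, hle hy⟩, Subgroup.mem_sup_left (hK α hα ⟨y, hle hy⟩ hy), rfl⟩)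
      (fun y hy => ⟨⟨y, hle' hy⟩, Subgroup.mem_sup_right (hK' α hα ⟨y, hle' hy⟩ hy), rfl⟩)
  obtain ⟨z, hz, hzx⟩ := h hx
  obtain rfl : z = x := Subtype.ext hzx
  exact hz

omit hp in
theorem Inv.inf {K' : Subgroup Ω} (hK : Inv F P K) (hK' : Inv F P K') : Inv F P (K ⊓ K') :=
  fun α hα x hx => ⟨hK α hα x hx.1, hK' α hα x hx.2⟩

omit hp in
/-- A subgroup invariant in the automizer of a normal subgroup is normal. -/
theorem Inv.conj (hK : Inv F E K) (hES : E ≤ S) (hn : S ≤ Subgroup.normalizer (E : Set Ω))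
    (hKE : K ≤ E) {s : Ω} (hs : s ∈ S) {x : Ω} (hx : x ∈ K) : s * x * s⁻¹ ∈ K :=
  hK _ (toAut F hES hn ⟨s, hs⟩).2 ⟨x, hKE hx⟩ hx

omit hp in
theorem Inv.normalizer (hK : Inv F E K) (hES : E ≤ S) (hn : S ≤ Subgroup.normalizer (E : Set Ω))
    (hKE : K ≤ E) : S ≤ Subgroup.normalizer (K : Set Ω) :=
  le_normalizer_of_conj fun _ hs _ hx => hK.conj hES hn hKE hs hx

variable [Finite S]

/-- The kernel of the series `Φ(E) ≤ K ≤ W ≤ E`. -/
theorem false_of_flag (hS : IsPGroup p S) (hE : F.IsEssential p E) (hd : Step p S E)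
    (hΦ : phi E ≤ K) (hKW : K ≤ W) (hWE : W ≤ E) (hK : Inv F E K) (hW : Inv F E W)
    (h₁ : ∀ s ∈ S, ∀ x ∈ K, s * x * s⁻¹ * x⁻¹ ∈ phi E)
    (h₂ : ∀ s ∈ S, ∀ x ∈ W, s * x * s⁻¹ * x⁻¹ ∈ K)
    (h₃ : ∀ s ∈ S, ∀ x ∈ E, s * x * s⁻¹ * x⁻¹ ∈ W) : False := by
  have hES := hd.le
  have := finite_le hES
  have := finite_mulAut_of_le (S := S) hES
  have hEp : IsPGroup p E := hS.to_le hES
  let π : E →* E ⧸ frattini E := QuotientGroup.mk' _
  haveI : Finite (E ⧸ frattini E) := inferInstance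
  haveI : Finite (MulAut (E ⧸ frattini E)) :=
    Finite.of_injective (fun e : MulAut (E ⧸ frattini E) => e.toEquiv)
      fun a b h => MulEquiv.ext fun x => Equiv.congr_fun h x
  obtain ⟨N', hN'⟩ : ∃ N', N' = (K.subgroupOf E).map π := ⟨_, rfl⟩
  obtain ⟨K', hK'⟩ : ∃ K', K' = (W.subgroupOf E).map π := ⟨_, rfl⟩
  have hle : N' ≤ K' := hN' ▸ hK' ▸ Subgroup.map_mono fun x hx => hKW hx
  obtain ⟨M, hM⟩ : ∃ M, M = (CentralTorus.stab (outAut F E).range N' K' hle).comap (outAut F E) :=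
    ⟨_, rfl⟩
  have hMp : IsPGroup p M := by
    rw [hM]
    refine (CentralTorus.isPGroup_of_chain (hEp.to_quotient _) (N := N') (K := K')
      (CentralTorus.stab (outAut F E).range N' K' hle)
      (fun β hβ => hβ.2.1) (fun β hβ => hβ.2.2.1) (fun β hβ => hβ.2.2.2)).comap_of_ker_isPGroup _ ?_
    have hinn : IsPGroup p ((Inn E).subgroupOf (F.autGroup E)) :=
      ((hEp.of_surjective _ (MulAut.conj : E →* MulAut E).rangeRestrict_surjective).comap_of_injective
        (F.autGroup E).subtype Subtype.coe_injective)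
    exact hinn.to_le fun σ hσ => outAut_ker hS hE hσ
  have hinv : ∀ {L : Subgroup Ω}, Inv F E L → ∀ (σ : F.autGroup E) (v : E ⧸ frattini E),
      v ∈ (L.subgroupOf E).map π → outAut F E σ v ∈ (L.subgroupOf E).map π := by
    rintro L hL σ _ ⟨x, hx, rfl⟩
    exact ⟨(σ : MulAut E) x, hL _ σ.2 x hx, rfl⟩
  have hMn : M.Normal := by
    rw [hM]
    refine ⟨fun τ hτ σ => ?_⟩
    rw [Subgroup.mem_comap] at hτ ⊢
    obtain ⟨-, t1, t2, t3⟩ := hτ
    have hback : ∀ v, outAut F E σ (outAut F E σ⁻¹ v) = v := fun v => by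
      rw [← MulAut.mul_apply, ← map_mul, mul_inv_cancel, map_one, MulAut.one_apply]
    have hkey : ∀ v, v⁻¹ * outAut F E (σ * τ * σ⁻¹) v =
        outAut F E σ ((outAut F E σ⁻¹ v)⁻¹ * outAut F E τ (outAut F E σ⁻¹ v)) := fun v => by
      rw [map_mul (outAut F E σ), map_inv (outAut F E σ), hback, map_mul (outAut F E) (σ * τ),
        map_mul (outAut F E) σ, MulAut.mul_apply, MulAut.mul_apply]
    refine ⟨⟨_, rfl⟩, fun v hv => ?_, fun v hv => ?_, fun v => ?_⟩
    · refine (inv_mul_eq_one.1 ?_).symm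
      rw [hkey, t1 _ (hN' ▸ hinv hK σ⁻¹ v (hN' ▸ hv)), inv_mul_cancel, map_one]
    · rw [hkey, hN']
      exact hinv hK σ _ (hN' ▸ t2 _ (hK' ▸ hinv hW σ⁻¹ v (hK' ▸ hv)))
    · rw [hkey, hK']
      exact hinv hW σ _ (hK' ▸ t3 _)
  refine isEssential_ne_self' hd fun s hs => (toAut_inn_iff hE hd.norm ⟨s, hs⟩).1
    (inn_of_normal hS hE hMn hMp ?_)
  rw [hM]
  have hkey : ∀ x : E, (π x)⁻¹ * outAut F E (toAut F hES hd.norm ⟨s, hs⟩) (π x) =
      π (x⁻¹ * ((toAut F hES hd.norm ⟨s, hs⟩ : F.autGroup E) : MulAut E) x) := fun x => by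
    rw [map_mul, map_inv]; rfl
  have hval : ∀ x : E, ((x⁻¹ * ((toAut F hES hd.norm ⟨s, hs⟩ : F.autGroup E) : MulAut E) x : E) : Ω) =
      (x : Ω)⁻¹ * (s * x * s⁻¹ * (x : Ω)⁻¹) * x := fun x => by
    rw [Subgroup.coe_mul, Subgroup.coe_inv, toAut_apply]; group
  have hmem : ∀ {L : Subgroup Ω}, Inv F E L → L ≤ E → ∀ x : E, s * x * s⁻¹ * (x : Ω)⁻¹ ∈ L →
      ((x⁻¹ * ((toAut F hES hd.norm ⟨s, hs⟩ : F.autGroup E) : MulAut E) x : E) : Ω) ∈ L :=
    fun hL hLE x hx => by
      rw [hval]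
      have := hL.conj hES hd.norm hLE (inv_mem (hES x.2)) hx
      rwa [inv_inv] at this
  refine ⟨⟨_, rfl⟩, fun v hv => ?_, fun v hv => ?_, fun v => ?_⟩
  · rw [hN'] at hv
    obtain ⟨x, hx, rfl⟩ := hv
    refine (inv_mul_eq_one.1 ?_).symm
    rw [hkey]
    exact (QuotientGroup.eq_one_iff _).2 (mem_phi.1 (hmem phi_inv phi_le x (h₁ s hs x hx)))
  · rw [hK'] at hv
    obtain ⟨x, hx, rfl⟩ := hv
    rw [hN', hkey]
    exact ⟨_, hmem hK (hKW.trans hWE) x (h₂ s hs x hx), rfl⟩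
  · obtain ⟨x, rfl⟩ := QuotientGroup.mk'_surjective _ v
    rw [hK', hkey]
    exact ⟨_, hmem hW hWE x (h₃ s hs x x.2), rfl⟩
where
  isEssential_ne_self' {E : Subgroup Ω} (hd : Step p S E) (h : ∀ s ∈ S, s ∈ E) : False := by
    have h1 : Nat.card S ≤ Nat.card E := by
      have := finite_le hd.le
      exact Subgroup.card_le_of_le h
    rw [hd.card] at h1
    have h2 : 1 * Nat.card E < p * Nat.card E := by
      have := finite_le hd.le
      exact (Nat.mul_lt_mul_right Nat.card_pos).2 hp.out.one_lt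
    omega

/-- `S` acts nontrivially above invariant subgroups of index at least `p²`. -/
theorem card_le_of_comm (hS : IsPGroup p S) (hsr : SecLE p S) (hE : F.IsEssential p E)
    (hd : Step p S E) (hΦ : phi E ≤ K) (hKE : K ≤ E) (hK : Inv F E K)
    (h : ∀ s ∈ S, ∀ x ∈ E, s * x * s⁻¹ * x⁻¹ ∈ K) : Nat.card E ≤ p * Nat.card K := by
  have hp' := hp.out
  have hES := hd.le
  have := finite_le hES
  have := finite_le (hKE.trans hES)
  have := finite_le ((phi_le (E := E)).trans hES)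
  by_contra hlt
  push Not at hlt
  obtain ⟨a, ha⟩ := (hS.to_le (hKE.trans hES)).exists_card_eq
  obtain ⟨b, hb⟩ := (hS.to_le (phi_le.trans hES)).exists_card_eq
  obtain ⟨e, he⟩ := (hS.to_le hES).exists_card_eq
  have h3 : Nat.card E ≤ p ^ 3 * Nat.card (phi E) := by
    have h1 := (frattini E).card_mul_index
    rw [phi, Subgroup.card_map_of_injective E.subtype_injective, ← h1, mul_comm (p ^ 3)]
    exact Nat.mul_le_mul_left _ (index_frattini_le hS hsr hES)
  have hle := Subgroup.card_le_of_le hΦ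
  rw [ha, he, ← pow_succ'] at hlt
  rw [he, hb, ← pow_add] at h3
  rw [ha, hb] at hle
  have := (Nat.pow_lt_pow_iff_right hp'.one_lt).1 hlt
  have := (Nat.pow_le_pow_iff_right hp'.one_lt).1 h3
  have := (Nat.pow_le_pow_iff_right hp'.one_lt).1 hle
  refine false_of_flag hS hE hd hΦ le_rfl hKE hK hK (fun s hs x hx => ?_)
    (fun s hs x hx => mul_mem (hK.conj hES hd.norm hKE hs hx) (inv_mem hx)) h
  rcases (show a = b ∨ a = b + 1 by omega) with rfl | rfl
  · rw [← Subgroup.eq_of_le_of_card_ge hΦ (by rw [ha, hb])]  at hx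
    exact mul_mem ((phi_inv (F := F)).conj hES hd.norm phi_le hs hx) (inv_mem hx)
  · exact central_step hS hΦ (hKE.trans hES) ((phi_inv (F := F)).normalizer hES hd.norm phi_le)
      (hK.normalizer hES hd.norm hKE) (by rw [ha, hb, pow_succ']) hs hx

/-- No invariant subgroups of index `p` and `p²` lie above each other and above `Φ(E)`. -/
theorem false_of_indices (hS : IsPGroup p S) (hsr : SecLE p S) (hE : F.IsEssential p E)
    (hd : Step p S E) (hΦ : phi E ≤ K) (hKW : K ≤ W) (hWE : W ≤ E) (hK : Inv F E K) (hW : Inv F E W)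
    (hcW : Nat.card E = p * Nat.card W) (hcK : Nat.card W = p * Nat.card K) : False := by
  have hp' := hp.out
  have hES := hd.le
  have hWS := hWE.trans hES
  have := finite_le hES
  have := finite_le (hKW.trans hWS)
  have := finite_le ((phi_le (E := E)).trans hES)
  obtain ⟨a, ha⟩ := (hS.to_le (hKW.trans hWS)).exists_card_eq
  obtain ⟨b, hb⟩ := (hS.to_le (phi_le.trans hES)).exists_card_eq
  have h3 : Nat.card E ≤ p ^ 3 * Nat.card (phi E) := by
    have h1 := (frattini E).card_mul_index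
    rw [phi, Subgroup.card_map_of_injective E.subtype_injective, ← h1, mul_comm (p ^ 3)]
    exact Nat.mul_le_mul_left _ (index_frattini_le hS hsr hES)
  have hle := Subgroup.card_le_of_le hΦ
  rw [hcW, hcK, ha, hb, ← pow_succ', ← pow_succ', ← pow_add] at h3
  rw [ha, hb] at hle
  have := (Nat.pow_le_pow_iff_right hp'.one_lt).1 h3
  have := (Nat.pow_le_pow_iff_right hp'.one_lt).1 hle
  refine false_of_flag hS hE hd hΦ hKW hWE hK hW (fun s hs x hx => ?_)
    (fun s hs x hx => central_step hS hKW hWS (hK.normalizer hES hd.norm (hKW.trans hWE))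
      (hW.normalizer hES hd.norm hWE) hcK hs hx)
    (fun s hs x hx => central_step hS hWE hES (hW.normalizer hES hd.norm hWE) hd.norm hcW hs hx)
  rcases (show a = b ∨ a = b + 1 by omega) with rfl | rfl
  · rw [← Subgroup.eq_of_le_of_card_ge hΦ (by rw [ha, hb])] at hx
    exact mul_mem ((phi_inv (F := F)).conj hES hd.norm phi_le hs hx) (inv_mem hx)
  · exact central_step hS hΦ (hKW.trans hWS) ((phi_inv (F := F)).normalizer hES hd.norm phi_le)
      (hK.normalizer hES hd.norm (hKW.trans hWE)) (by rw [ha, hb, pow_succ']) hs hx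

end CfsgLib.Fusion.TwoEssential
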