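import Cfsg.Agent.Lib.Fusion.TwoEssential.ThreeTrivial

/-!
# The case of a Sylow subgroup of `Sp₄(p)` modulo `T`

`E₂ / T` is elementary of order `p³` and `E₁ / T` is not abelian.
-/

set_option autoImplicit false

namespace CfsgLib.Fusion.TwoEssential

open Cfsg Cfsg.FusionSystem CfsgLib CfsgLib.Fusion CfsgLib.Fusion.RankThree CfsgLib.Fusion.NormalEssential
open scoped commutatorElement

variable {p : ℕ} [hp : Fact p.Prime] {Ω : Type*} [Group Ω] {S : Subgroup Ω} [Finite S]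
  {F : FusionSystem S} {E₁ E₂ E T K : Subgroup Ω}

omit hp [Finite S] in
theorem comm_twist_left {G : Type*} [Group G] {a C t X r : G} (hr : C * X * C⁻¹ * X⁻¹ = r)
    (hrc : ∀ g, Commute r g) (htc : ∀ g, Commute t g) (haX : Commute a X) :
    (a * C⁻¹) * (t * X) * (a * C⁻¹)⁻¹ * (t * X)⁻¹ = r⁻¹ := by
  rw [show (a * C⁻¹) * (t * X) * (a * C⁻¹)⁻¹ * (t * X)⁻¹ =
    (a * C⁻¹) * t * (a * C⁻¹)⁻¹ * ((a * C⁻¹) * X * (a * C⁻¹)⁻¹ * X⁻¹) * t⁻¹ by group,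
    ((htc (a * C⁻¹)).symm).eq, mul_inv_cancel_right, (htc _).eq, mul_inv_cancel_right,
    show (a * C⁻¹) * X * (a * C⁻¹)⁻¹ * X⁻¹ =
      a * (C⁻¹ * (C * X * C⁻¹ * X⁻¹)⁻¹ * C) * X * a⁻¹ * X⁻¹ by group, hr,
    ((hrc C⁻¹).inv_left.symm).eq, inv_mul_cancel_right, ((hrc a).inv_left.symm).eq,
    mul_assoc r⁻¹, haX.eq, ← mul_assoc, mul_inv_cancel_right, mul_inv_cancel_right]

omit hp in
/-- The elements commuting with `u` modulo `K` form a subgroup. -/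
theorem comm_zpowers {hn : S ≤ Subgroup.normalizer (K : Set Ω)} {u v : Ω} (hu : u ∈ S) (hv : v ∈ S)
    (h : u * v * u⁻¹ * v⁻¹ ∈ K) : u ∈ CMod hn (Subgroup.zpowers v) := by
  refine ⟨hu, fun a ha => ?_⟩
  let Z : Subgroup Ω :=
    { carrier := {w | w ∈ S ∧ u * w * u⁻¹ * w⁻¹ ∈ K}
      one_mem' := ⟨one_mem S, by simp⟩
      mul_mem' := fun {x y} hx hy => ⟨mul_mem hx.1 hy.1, by
        rw [show u * (x * y) * u⁻¹ * (x * y)⁻¹ =
          (u * x * u⁻¹ * x⁻¹) * (x * (u * y * u⁻¹ * y⁻¹) * x⁻¹) by group]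
        exact mul_mem hx.2 (conj_mem_E hn hx.1 hy.2)⟩
      inv_mem' := fun {x} hx => ⟨inv_mem hx.1, by
        rw [show u * x⁻¹ * u⁻¹ * x⁻¹⁻¹ = x⁻¹ * (u * x * u⁻¹ * x⁻¹)⁻¹ * x⁻¹⁻¹ by group]
        exact conj_mem_E hn (inv_mem hx.1) (inv_mem hx.2)⟩ }
  have hle : Subgroup.zpowers v ≤ Z := Subgroup.zpowers_le.2 ⟨hv, h⟩
  exact (hle ha).2

/-- An elementary quotient lies above the Frattini subgroup. -/
theorem phi_le_of_elementary [Fact p.Prime] (hES : E ≤ S)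
    (hn : ∀ a ∈ E, ∀ x ∈ K, a * x * a⁻¹ ∈ K) (hc : ∀ a ∈ E, ∀ b ∈ E, a * b * a⁻¹ * b⁻¹ ∈ K)
    (hexp : ∀ a ∈ E, a ^ p ∈ K) : phi E ≤ K := by
  have := finite_le hES
  haveI : (K.subgroupOf E).Normal := ⟨fun x hx g => hn g g.2 x hx⟩
  have h1 : frattini E ≤ K.subgroupOf E := by
    refine PGroups.frattini_le_of_elementary (p := p)
      (Subgroup.commutator_le.2 fun a _ b _ => hc _ a.2 _ b.2) fun x => ?_
    rw [Subgroup.mem_subgroupOf, Subgroup.coe_pow]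
    exact hexp _ x.2
  rintro _ ⟨x, hx, rfl⟩
  exact h1 hx

/-- The elements and orders of the shape. -/
structure Four (p : ℕ) (F : FusionSystem S) (E₁ E₂ T : Subgroup Ω) (u z : Ω) : Prop where
  cardE : Nat.card E₁ = p ^ 2 * Nat.card (T ⊔ phi E₁ : Subgroup Ω)
  cardD : Nat.card (E₁ ⊓ E₂ : Subgroup Ω) = p * Nat.card (T ⊔ phi E₁ : Subgroup Ω)
  cardY : Nat.card (T ⊔ phi E₁ : Subgroup Ω) = p * Nat.card T
  pow₂ : ∀ a ∈ E₂, a ^ p ∈ T
  comm₂ : ∀ a ∈ E₂, ∀ b ∈ E₂, a * b * a⁻¹ * b⁻¹ ∈ T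
  u_mem : u ∈ E₁
  u_not : u ∉ E₁ ⊓ E₂
  z_mem : z ∈ E₂
  z_not : z ∉ E₁ ⊓ E₂
  b_not : u * z * u⁻¹ * z⁻¹ ∉ T ⊔ phi E₁
  y_not : u * (u * z * u⁻¹ * z⁻¹) * u⁻¹ * (u * z * u⁻¹ * z⁻¹)⁻¹ ∉ T

namespace Config

variable (h : Config p F E₁ E₂ T)
include h

theorem Y_le_S : T ⊔ phi E₁ ≤ S := h.TΦ_le.trans h.DS

theorem Y_norm : S ≤ Subgroup.normalizer ((T ⊔ phi E₁ : Subgroup Ω) : Set Ω) :=
  h.TΦ_inv.normalizer h.step₁.le h.step₁.norm (h.TΦ_le.trans inf_le_left)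

theorem exists_four (hcE₂ : Nat.card E₂ = p ^ 3 * Nat.card T) (hp₂ : ∀ a ∈ E₂, a ^ p ∈ T)
    (hc₂ : ∀ a ∈ E₂, ∀ b ∈ E₂, a * b * a⁻¹ * b⁻¹ ∈ T)
    (hn₁ : ∃ a ∈ E₁, ∃ b ∈ E₁, a * b * a⁻¹ * b⁻¹ ∉ T) : ∃ u z, Four p F E₁ E₂ T u z := by
  have hp' := hp.out
  have hS := h.pg
  have := finite_le h.TS
  have := finite_le h.DS
  have := finite_le h.Y_le_S
  obtain ⟨hY, hexpY⟩ := h.mem_top₁ (K := T ⊔ phi E₁) rfl
  have hcD2 : Nat.card (E₁ ⊓ E₂ : Subgroup Ω) = p ^ 2 * Nat.card T := by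
    have h1 := h.symm.card₁
    rw [inf_comm, hcE₂] at h1
    refine (Nat.eq_of_mul_eq_mul_left hp'.pos ?_).symm
    rw [← h1]; ring
  have hcY : Nat.card (T ⊔ phi E₁ : Subgroup Ω) = p * Nat.card T := by
    obtain ⟨t, ht⟩ := (hS.to_le h.TS).exists_card_eq
    obtain ⟨y, hy⟩ := (hS.to_le h.Y_le_S).exists_card_eq
    have h1 := not_le.1 h.not_thin
    rw [h.card₁, hcD2, hy, ht] at h1
    have h2 : p ^ t < p ^ y := by
      rw [← ht, ← hy]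
      refine lt_of_le_of_ne (Subgroup.card_le_of_le le_sup_left) fun e => ?_
      obtain ⟨a, ha, b, hb, hab⟩ := hn₁
      refine hab ?_
      rw [Subgroup.eq_of_le_of_card_ge le_sup_left e.ge]
      exact hY a ha b hb
    rw [← pow_succ', ← pow_add, ← pow_succ'] at h1
    have := (Nat.pow_lt_pow_iff_right hp'.one_lt).1 h1
    have := (Nat.pow_lt_pow_iff_right hp'.one_lt).1 h2
    rw [hy, ht, ← pow_succ']
    exact congrArg _ (by omega)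
  have hcDY : Nat.card (E₁ ⊓ E₂ : Subgroup Ω) = p * Nat.card (T ⊔ phi E₁ : Subgroup Ω) := by
    rw [hcD2, hcY]; ring
  have hcE : Nat.card E₁ = p ^ 2 * Nat.card (T ⊔ phi E₁ : Subgroup Ω) := by
    rw [h.card₁, hcDY]; ring
  obtain ⟨u, hu, huD⟩ := h.exists_x₁
  obtain ⟨z, hz, hzD⟩ := h.symm.exists_x₁
  rw [inf_comm] at hzD
  have huS := h.step₁.le hu
  have hzS := h.step₂.le hz
  have hbD := h.comm_mem_D huS hzS
  have hb : u * z * u⁻¹ * z⁻¹ ∉ T ⊔ phi E₁ := by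
    intro hb
    have hgen : E₁ ≤ CMod h.Y_norm (Subgroup.zpowers z) := by
      intro x hx
      obtain ⟨d, hd, i, rfl⟩ := h.gen₁ hu huD hx
      exact mul_mem (comm_zpowers (h.DS hd) hzS (Subgroup.mem_sup_left (hc₂ d hd.2 z hz)))
        (zpow_mem (comm_zpowers huS hzS hb) i)
    have hz' : z ∈ CMod h.Y_norm E₁ :=
      ⟨hzS, fun x hx => comm_symm ((hgen hx).2 z (Subgroup.mem_zpowers z))⟩
    have hle := card_le_of_comm hS h.sec h.ess₁ h.step₁ le_sup_right (h.TΦ_le.trans inf_le_left)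
      h.TΦ_inv fun s hs x hx => by
      obtain ⟨e, he, i, rfl⟩ := h.step₁.gen hzS (fun h' => hzD ⟨h', hz⟩) hs
      have he' : e ∈ CMod h.Y_norm E₁ := ⟨h.step₁.le he, fun a ha => hY e he a ha⟩
      exact (mul_mem he' (zpow_mem hz' i)).2 x hx
    exact h.not_thin hle
  refine ⟨u, z, hcE, hcDY, hcY, hp₂, hc₂, hu, huD, hz, hzD, hb, fun hy => ?_⟩
  -- `E₁ / T` would be abelian
  obtain ⟨a, ha, b', hb', hab⟩ := hn₁
  refine hab ?_
  have hDu : E₁ ⊓ E₂ ≤ CMod h.T_norm (Subgroup.zpowers u) := by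
    intro d hd
    obtain ⟨k, hk, i, rfl⟩ := h.genD h.TΦ_le h.Y_norm hcDY hbD hb hd
    refine mul_mem (⟨h.Y_le_S hk, fun a ha => comm_symm ?_⟩ : k ∈ CMod h.T_norm (Subgroup.zpowers u))
      (zpow_mem (⟨h.DS hbD, fun a ha => comm_symm ?_⟩ :
        u * z * u⁻¹ * z⁻¹ ∈ CMod h.T_norm (Subgroup.zpowers u)) i)
    · exact central_step hS le_sup_left h.Y_le_S h.T_norm h.Y_norm hcY
        (h.step₁.le (Subgroup.zpowers_le.2 hu ha)) hk
    · have hu' : u ∈ CMod h.T_norm (Subgroup.zpowers (u * z * u⁻¹ * z⁻¹)) :=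
        comm_zpowers huS (h.DS hbD) hy
      obtain ⟨l, rfl⟩ := Subgroup.mem_zpowers_iff.1 ha
      exact (zpow_mem hu' l).2 _ (Subgroup.mem_zpowers _)
  have hE : E₁ ≤ CMod h.T_norm E₁ := by
    have hu1 : u ∈ CMod h.T_norm E₁ := ⟨huS, fun c hc => by
      obtain ⟨d', hd', j, rfl⟩ := h.gen₁ hu huD hc
      have h1 : u ∈ CMod h.T_norm (Subgroup.zpowers u) := comm_zpowers huS huS (by
        rw [show u * u * u⁻¹ * u⁻¹ = 1 by group]; exact one_mem _)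
      exact comm_symm ((mul_mem (hDu hd') (zpow_mem h1 j)).2 u (Subgroup.mem_zpowers u))⟩
    have hd1 : ∀ d ∈ E₁ ⊓ E₂, d ∈ CMod h.T_norm E₁ := fun d hd => ⟨h.DS hd, fun c hc => by
      obtain ⟨d', hd', j, rfl⟩ := h.gen₁ hu huD hc
      have h1 : d' ∈ CMod h.T_norm (Subgroup.zpowers d) :=
        comm_zpowers (h.DS hd') (h.DS hd) (hc₂ d' hd'.2 d hd.2)
      have h2 : u ∈ CMod h.T_norm (Subgroup.zpowers d) :=
        comm_zpowers huS (h.DS hd) (comm_symm ((hDu hd).2 u (Subgroup.mem_zpowers u)))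
      exact comm_symm ((mul_mem h1 (zpow_mem h2 j)).2 d (Subgroup.mem_zpowers d))⟩
    intro x hx
    obtain ⟨d, hd, i, rfl⟩ := h.gen₁ hu huD hx
    exact mul_mem (hd1 d hd) (zpow_mem hu1 i)
  exact (hE ha).2 b' hb'

end Config

namespace Four

variable {u z : Ω} (h : Config p F E₁ E₂ T) (f : Four p F E₁ E₂ T u z)
include h f

/-- `D` is not invariant in the automizer of `E₂`. -/
theorem not_invD : ¬ Inv F E₂ (E₁ ⊓ E₂) := by
  intro hi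
  have hp' := hp.out
  have hS := h.pg
  have := finite_le h.TS
  have hbD := h.comm_mem_D (h.step₁.le f.u_mem) (h.step₂.le f.z_mem)
  have hΦ : phi E₂ ≤ T := phi_le_of_elementary h.step₂.le
    (fun a ha x hx => h.Tconj (h.step₂.le ha) hx) f.comm₂ f.pow₂
  have hcD : Nat.card (E₁ ⊓ E₂ : Subgroup Ω) = p ^ 2 * Nat.card T := by
    rw [f.cardD, f.cardY]; ring
  obtain ⟨δ, hδ⟩ := exists_torus hS h.odd h.sat h.ess₂ h.step₂ (W := E₁ ⊓ E₂) (K := T) h.le inf_le_right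
    h.inv₂ hi hcD (fun a ha b hb => f.comm₂ a ha.2 b hb.2) (fun a ha => f.pow₂ a ha.2)
    (fun e he w hw => f.comm₂ e he w hw.2) ⟨u, h.step₁.le f.u_mem, _, hbD, f.y_not⟩
    (fun L hTL hLD hL hLi => by
      refine false_of_indices hS h.sec h.ess₂ h.step₂ (hΦ.trans hTL) hLD inf_le_right hLi hi ?_ ?_
      · rw [inf_comm]; exact h.symm.card₁
      · rw [hcD, hL]; ring)
  have hfix := hδ.fix (inv_self E₂) hi le_rfl fun s hs x hx => h.comm_mem_D hs (h.step₂.le hx)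
  haveI : ((T ⊔ phi E₁).subgroupOf S).Normal := ⟨fun x hx g => conj_mem_E h.Y_norm g.2 hx⟩
  let π : S →* S ⧸ (T ⊔ phi E₁).subgroupOf S := QuotientGroup.mk' _
  have hπ : ∀ a : S, π a = 1 ↔ (a : Ω) ∈ T ⊔ phi E₁ := fun a => QuotientGroup.eq_one_iff a
  have hcen : ∀ d : S, (d : Ω) ∈ E₁ ⊓ E₂ → ∀ g, Commute (π d) g := fun d hd g => by
    obtain ⟨s, rfl⟩ := QuotientGroup.mk'_surjective _ g
    exact ((comm_iff hπ).2 (central_step hS h.TΦ_le h.DS h.Y_norm (h.invD.normS h.DS) f.cardD s.2 hd)).symm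
  obtain ⟨U, hU⟩ : ∃ U : S, U = ⟨u, h.step₁.le f.u_mem⟩ := ⟨_, rfl⟩
  obtain ⟨Z, hZ⟩ : ∃ Z : S, Z = ⟨z, h.step₂.le f.z_mem⟩ := ⟨_, rfl⟩
  obtain ⟨B, hB⟩ : ∃ B, B = U * Z * U⁻¹ * Z⁻¹ := ⟨_, rfl⟩
  have hBD : (B : Ω) ∈ E₁ ⊓ E₂ := by rw [hB, hU, hZ]; exact hbD
  obtain ⟨c, hc⟩ : ∃ c, c = δ U * U⁻¹ := ⟨_, rfl⟩
  obtain ⟨d, hd⟩ : ∃ d, d = δ Z * Z⁻¹ := ⟨_, rfl⟩
  have hcD' : (c : Ω) ∈ E₁ ⊓ E₂ := by
    have hUE : (U : Ω) ∈ E₁ := by rw [hU]; exact f.u_mem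
    rw [hc]
    exact ⟨mul_mem (h.auto₁ δ hδ.mem U hUE) (Subgroup.inv_mem _ hUE), hδ.quot U⟩
  have hdD : (d : Ω) ∈ E₁ ⊓ E₂ := by
    rw [hd]; exact hfix Z (by rw [hZ]; exact f.z_mem)
  have e1 : π (δ B) = π B := by
    rw [hB, map_mul δ, map_mul δ, map_mul δ, map_inv δ, map_inv δ,
      show δ U = c * U by rw [hc, inv_mul_cancel_right], show δ Z = d * Z by rw [hd, inv_mul_cancel_right]]
    simp only [map_mul, map_inv, mul_inv_rev]
    rw [show π c * π U * (π d * π Z) * ((π U)⁻¹ * (π c)⁻¹) * ((π Z)⁻¹ * (π d)⁻¹) =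
      π c * (π U * π d * π Z * (π U)⁻¹) * (π c)⁻¹ * (π Z)⁻¹ * (π d)⁻¹ by group,
      (hcen c hcD' _).eq, mul_inv_cancel_right, ((hcen d hdD (π U)).symm).eq,
      show π d * π U * π Z * (π U)⁻¹ * (π Z)⁻¹ * (π d)⁻¹ =
        π d * (π U * π Z * (π U)⁻¹ * (π Z)⁻¹) * (π d)⁻¹ by group, (hcen d hdD _).eq,
      mul_inv_cancel_right]
  have e2 : π (δ B) * π B = 1 := by
    rw [← map_mul, hπ]
    exact Subgroup.mem_sup_left (hδ.inv B hBD)
  rw [e1] at e2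
  have h1 := (hπ B).1 (eq_one_of_sq hS h.odd hπ e2)
  rw [hB, hU, hZ] at h1
  exact f.b_not h1

/-- `S` centralizes `T / Φ(T)`. -/
theorem C_eq_S : h.C = S := by
  have hp' := hp.out
  have hS := h.pg
  have := finite_le h.TS
  have huS := h.step₁.le f.u_mem
  have hzS := h.step₂.le f.z_mem
  have hbD := h.comm_mem_D huS hzS
  have hzE : z ∉ E₁ := fun h' => f.z_not ⟨h', f.z_mem⟩
  obtain ⟨hY, -⟩ := h.mem_top₁ (K := T ⊔ phi E₁) rfl
  have hCn : ∀ {s x : Ω}, s ∈ S → x ∈ h.C → s * x * s⁻¹ * x⁻¹ ∈ h.C := fun hs hx =>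
    mul_mem (h.C_invS.conjS CMod_le hs hx) (inv_mem hx)
  by_cases hCD : h.C ≤ E₁ ⊓ E₂
  · exfalso
    letI : CommGroup (T ⧸ frattini T) :=
      { (inferInstance : Group (T ⧸ frattini T)) with mul_comm := quot_comm (hS.to_le h.TS) }
    refine f.y_not (h.C_eq_T hCD ▸
      (h.act_eq_one_of_mem_C (s := ⁅(⟨u, huS⟩ : S), ⁅(⟨u, huS⟩ : S), ⟨z, hzS⟩⁆⁆)).1 ?_)
    exact (double_comm (f := act h.T_norm) hS ((hS.to_le h.TS).to_quotient _)
      (index_frattini_le hS h.sec h.TS) _ _ _).1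
  obtain ⟨g, hg, hgD⟩ := SetLike.not_le_iff_exists.1 hCD
  have hgS := CMod_le hg
  obtain ⟨b', hb'C, hb'D, hb'Y⟩ : ∃ b' ∈ h.C, b' ∈ E₁ ⊓ E₂ ∧ b' ∉ T ⊔ phi E₁ := by
    by_contra hne
    push Not at hne
    have hgY : g ∈ CMod h.Y_norm S := ⟨hgS, fun s hs => by
      refine hne _ ?_ (h.comm_mem_D hgS hs)
      rw [show g * s * g⁻¹ * s⁻¹ = g * (s * g⁻¹ * s⁻¹) by group]
      exact mul_mem hg (h.C_invS.conjS CMod_le hs (inv_mem hg))⟩
    by_cases hgE : g ∈ E₁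
    · -- then `[u, z]` would be in `T Φ(E₁)`
      obtain ⟨d, hd, i, hdi⟩ := h.gen₁ hgE hgD f.u_mem
      refine f.b_not ?_
      have hm : u ∈ CMod h.Y_norm (Subgroup.zpowers z) := by
        rw [hdi]
        exact mul_mem (comm_zpowers (h.DS hd) hzS (Subgroup.mem_sup_left
            (f.comm₂ d hd.2 z f.z_mem)))
          (zpow_mem (comm_zpowers hgS hzS (hgY.2 z hzS)) i)
      exact hm.2 z (Subgroup.mem_zpowers z)
    · refine h.not_thin (card_le_of_comm hS h.sec h.ess₁ h.step₁ le_sup_right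
        (h.TΦ_le.trans inf_le_left) h.TΦ_inv fun s hs x hx => ?_)
      obtain ⟨e, he, i, rfl⟩ := h.step₁.gen hgS hgE hs
      have he' : e ∈ CMod h.Y_norm E₁ := ⟨h.step₁.le he, fun a ha => hY e he a ha⟩
      exact (mul_mem he' (zpow_mem (⟨hgS, fun a ha => hgY.2 a (h.step₁.le ha)⟩ :
        g ∈ CMod h.Y_norm E₁) i)).2 x hx
  -- a generator of `T Φ(E₁)` over `T`
  have hy' : u * b' * u⁻¹ * b'⁻¹ ∉ T := by
    intro hy
    refine f.y_not ?_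
    obtain ⟨k, hk, i, hki⟩ := h.genD h.TΦ_le h.Y_norm f.cardD hb'D hb'Y hbD
    have hm : u * z * u⁻¹ * z⁻¹ ∈ CMod h.T_norm (Subgroup.zpowers u) := by
      rw [hki]
      exact mul_mem (comm_zpowers (h.Y_le_S hk) huS (comm_symm
          (central_step hS le_sup_left h.Y_le_S h.T_norm h.Y_norm f.cardY huS hk)))
        (zpow_mem (comm_zpowers (h.DS hb'D) huS (comm_symm hy)) i)
    exact comm_symm (hm.2 u (Subgroup.mem_zpowers u))
  have hDC : E₁ ⊓ E₂ ≤ h.C := by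
    intro d hd
    obtain ⟨k, hk, i, rfl⟩ := h.genD h.TΦ_le h.Y_norm f.cardD hb'D hb'Y hd
    refine mul_mem ?_ (zpow_mem hb'C i)
    have := finite_le h.Y_le_S
    have hy'Y : u * b' * u⁻¹ * b'⁻¹ ∈ T ⊔ phi E₁ :=
      central_step hS h.TΦ_le h.DS h.Y_norm (h.invD.normS h.DS) f.cardD huS hb'D
    obtain ⟨t, ht, j, rfl⟩ := (⟨le_sup_left, h.Y_le_S.trans h.T_norm, f.cardY⟩ :
      Step p (T ⊔ phi E₁ : Subgroup Ω) T).gen hy'Y hy' hk
    exact mul_mem (h.T_le_C ht) (zpow_mem (hCn huS hb'C) j)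
  have h1 : E₁ ≤ h.C := (h.le_of_invD rfl f.cardD (le_inf hDC inf_le_left) inf_le_right
    h.C_inv₁).trans inf_le_left
  have h2 : E₂ ≤ h.C := by
    by_contra hle
    refine f.not_invD h ?_
    suffices hW : h.C ⊓ E₂ = E₁ ⊓ E₂ by
      rw [← hW]
      exact CMod_inv _ h.step₂.le h.T_le₂ (h.inv₂.phi h.T_le₂ h.step₂.le) h.inv₂
    refine le_antisymm (fun w hw => ?_) (le_inf hDC inf_le_right)
    by_contra hwD
    refine hle fun x hx => ?_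
    obtain ⟨d, hd, i, rfl⟩ := h.symm.gen₁ hw.2 (by rw [inf_comm]; exact hwD) hx
    rw [inf_comm] at hd
    have hwC : w ∈ h.C := hw.1
    exact mul_mem (hDC hd) (zpow_mem hwC i)
  refine le_antisymm CMod_le fun w hw => ?_
  obtain ⟨e, he, i, rfl⟩ := h.step₁.gen hzS hzE hw
  exact mul_mem (h1 he) (zpow_mem (h2 f.z_mem) i)

set_option maxHeartbeats 800000 in
/-- So `T` is trivial. -/
theorem eq_bot : T = ⊥ := by
  by_contra hT
  have hp' := hp.out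
  have hS := h.pg
  have := finite_le h.TS
  have := finite_le h.Y_le_S
  have hC := f.C_eq_S h
  have hcenΦ : ∀ s ∈ S, ∀ t ∈ T, s * t * s⁻¹ * t⁻¹ ∈ phi T := fun s hs => (hC.ge hs).2
  have huS := h.step₁.le f.u_mem
  have hzS := h.step₂.le f.z_mem
  obtain ⟨δ, hδ⟩ := h.exists_torus₁ (K := T ⊔ phi E₁) rfl f.cardE
  have hfix := hδ.fix h.inv₁ (h.inv₁.phi h.T_le₁ h.step₁.le) h.T_le₁ hcenΦ
  obtain ⟨U, hU⟩ : ∃ U : S, U = ⟨u, huS⟩ := ⟨_, rfl⟩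
  obtain ⟨Z, hZ⟩ : ∃ Z : S, Z = ⟨z, hzS⟩ := ⟨_, rfl⟩
  obtain ⟨B, hB⟩ : ∃ B, B = U * Z * U⁻¹ * Z⁻¹ := ⟨_, rfl⟩
  obtain ⟨Y, hY⟩ : ∃ Y, Y = U * B * U⁻¹ * B⁻¹ := ⟨_, rfl⟩
  have hUE : (U : Ω) ∈ E₁ := by rw [hU]; exact f.u_mem
  have hZE : (Z : Ω) ∈ E₂ := by rw [hZ]; exact f.z_mem
  have hBD : (B : Ω) ∈ E₁ ⊓ E₂ := by rw [hB]; exact h.comm_mem_D U.2 Z.2
  have hBY : (B : Ω) ∉ T ⊔ phi E₁ := by rw [hB, hU, hZ]; exact f.b_not
  have hYT : (Y : Ω) ∉ T := by rw [hY, hB, hU, hZ]; exact f.y_not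
  have hcYc : ∀ s ∈ S, ∀ k ∈ T ⊔ phi E₁, s * k * s⁻¹ * k⁻¹ ∈ T := fun s hs k hk =>
    central_step hS le_sup_left h.Y_le_S h.T_norm h.Y_norm f.cardY hs hk
  have hYY : (Y : Ω) ∈ T ⊔ phi E₁ := by
    rw [hY]; exact central_step hS h.TΦ_le h.DS h.Y_norm (h.invD.normS h.DS) f.cardD U.2 hBD
  -- `δ` fixes `Y` modulo `T`
  obtain ⟨a, ha⟩ : ∃ a, a = δ U * U := ⟨_, rfl⟩
  obtain ⟨c, hc⟩ : ∃ c, c = δ B * B := ⟨_, rfl⟩
  obtain ⟨d, hd⟩ : ∃ d, d = δ Z * Z⁻¹ := ⟨_, rfl⟩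
  obtain ⟨t, ht⟩ : ∃ t, t = δ Y * Y⁻¹ := ⟨_, rfl⟩
  have haY : (a : Ω) ∈ T ⊔ phi E₁ := by rw [ha]; exact hδ.inv U hUE
  have hcY : (c : Ω) ∈ T ⊔ phi E₁ := by rw [hc]; exact hδ.inv B hBD.1
  have hdD : (d : Ω) ∈ E₁ ⊓ E₂ := by
    rw [hd]
    exact ⟨hδ.quot Z, mul_mem (h.auto₂ δ hδ.mem Z hZE) (Subgroup.inv_mem _ hZE)⟩
  have hδU : δ U = a * U⁻¹ := by rw [ha, mul_inv_cancel_right]
  have hδB : δ B = c * B⁻¹ := by rw [hc, mul_inv_cancel_right]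
  have hδZ : δ Z = d * Z := by rw [hd, inv_mul_cancel_right]
  have htT : (t : Ω) ∈ T := by
    haveI : (T.subgroupOf S).Normal := ⟨fun x hx g => h.Tconj g.2 hx⟩
    let π : S →* S ⧸ T.subgroupOf S := QuotientGroup.mk' _
    have hπ : ∀ a : S, π a = 1 ↔ (a : Ω) ∈ T := fun a => QuotientGroup.eq_one_iff a
    have hYc : ∀ k : S, (k : Ω) ∈ T ⊔ phi E₁ → ∀ g, Commute (π k) g := fun k hk g => by
      obtain ⟨s, rfl⟩ := QuotientGroup.mk'_surjective _ g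
      exact ((comm_iff hπ).2 (hcYc _ s.2 _ hk)).symm
    have e : π (δ Y) = π Y := by
      rw [hY, map_mul δ, map_mul δ, map_mul δ, map_inv δ, map_inv δ, hδU, hδB]
      simp only [map_mul, map_inv]
      rw [comm_inv_twist (r := π Y) (by rw [hY]; simp only [map_mul, map_inv]) (hYc Y hYY _)
        (hYc Y hYY _) (hYc a haY) (hYc c hcY), hY]
      simp only [map_mul, map_inv]
    rw [ht]
    exact (eq_iff hπ).1 e
  haveI : ((phi T).subgroupOf S).Normal := ⟨fun x hx g => h.phiTconj g.2 hx⟩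
  let π : S →* S ⧸ (phi T).subgroupOf S := QuotientGroup.mk' _
  have hπ : ∀ a : S, π a = 1 ↔ (a : Ω) ∈ phi T := fun a => QuotientGroup.eq_one_iff a
  have hTc : ∀ k : S, (k : Ω) ∈ T → ∀ g, Commute (π k) g := fun k hk g => by
    obtain ⟨s, rfl⟩ := QuotientGroup.mk'_surjective _ g
    exact ((comm_iff hπ).2 (hcenΦ _ s.2 _ hk)).symm
  have hTp : ∀ k : S, (k : Ω) ∈ T → π k ^ p = 1 := fun k hk => by
    rw [← map_pow, hπ, SubmonoidClass.coe_pow]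
    exact mem_phi.2 (PGroups.pow_mem_frattini (hS.to_le h.TS) (⟨_, hk⟩ : T))
  have hδT : ∀ k : S, (k : Ω) ∈ T → π (δ k) = π k := fun k hk => (eq_iff hπ).2 (hfix k hk)
  have hgenY : ∀ k : S, (k : Ω) ∈ T ⊔ phi E₁ →
      ∃ s : S, (s : Ω) ∈ T ∧ ∃ i : ℤ, π k = π s * π Y ^ i := by
    intro k hk
    obtain ⟨s, hs, i, hki⟩ := (⟨le_sup_left, h.Y_le_S.trans h.T_norm, f.cardY⟩ :
      Step p (T ⊔ phi E₁ : Subgroup Ω) T).gen hYY hYT hk
    refine ⟨⟨s, h.TS hs⟩, hs, i, ?_⟩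
    rw [← map_zpow, ← map_mul]
    exact congrArg π (Subtype.ext (by simpa using hki))
  have hYcomm : ∀ k : S, (k : Ω) ∈ T ⊔ phi E₁ → Commute (π k) (π Y) := fun k hk => by
    obtain ⟨s, hs, i, e⟩ := hgenY k hk
    rw [e]
    exact (hTc s hs _).mul_left ((Commute.refl _).zpow_left i)
  -- `B` and `U` commute with `Y`
  have hkey : ∀ w v : S, δ w = v * w⁻¹ → (v : Ω) ∈ T ⊔ phi E₁ → Commute (π w) (π Y) := by
    intro w v hw hv
    obtain ⟨r, hr⟩ : ∃ r, r = w * Y * w⁻¹ * Y⁻¹ := ⟨_, rfl⟩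
    have hrT : (r : Ω) ∈ T := by rw [hr]; exact hcYc _ w.2 _ hYY
    have hr' : π w * π Y * (π w)⁻¹ * (π Y)⁻¹ = π r := by rw [hr]; simp only [map_mul, map_inv]
    have e := hδT r hrT
    rw [hr, map_mul δ, map_mul δ, map_mul δ, map_inv δ, map_inv δ, hw,
      show δ Y = t * Y by rw [ht, inv_mul_cancel_right], ← hr] at e
    simp only [map_mul, map_inv] at e
    rw [comm_twist_left hr' (hTc r hrT) (hTc t htT) (hYcomm v hv)] at e
    have h1 : π r = 1 := eq_one_of_sq hS h.odd hπ (by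
      conv_lhs => arg 1; rw [← e]
      rw [inv_mul_cancel])
    rw [h1] at hr'
    exact mul_inv_eq_iff_eq_mul.1 (mul_inv_eq_one.1 hr')
  have hBYc : Commute (π B) (π Y) := hkey B c hδB hcY
  have hUYc : Commute (π U) (π Y) := hkey U a hδU haY
  have hgenD : ∀ k : S, (k : Ω) ∈ E₁ ⊓ E₂ →
      ∃ s : S, (s : Ω) ∈ T ⊔ phi E₁ ∧ ∃ i : ℤ, π k = π s * π B ^ i := by
    intro k hk
    obtain ⟨s, hs, i, hki⟩ := h.genD h.TΦ_le h.Y_norm f.cardD hBD hBY hk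
    refine ⟨⟨s, h.Y_le_S hs⟩, hs, i, ?_⟩
    rw [← map_zpow, ← map_mul]
    exact congrArg π (Subtype.ext (by simpa using hki))
  have hYB : ∀ k : S, (k : Ω) ∈ T ⊔ phi E₁ → Commute (π k) (π B) := fun k hk => by
    obtain ⟨s, hs, i, e⟩ := hgenY k hk
    rw [e]
    exact (hTc s hs _).mul_left (hBYc.symm.zpow_left i)
  have hDB : ∀ k : S, (k : Ω) ∈ E₁ ⊓ E₂ → Commute (π k) (π B) := fun k hk => by
    obtain ⟨s, hs, i, e⟩ := hgenD k hk
    rw [e]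
    exact (hYB s hs).mul_left ((Commute.refl _).zpow_left i)
  have hDY : ∀ k : S, (k : Ω) ∈ E₁ ⊓ E₂ → Commute (π k) (π Y) := fun k hk => by
    obtain ⟨s, hs, i, e⟩ := hgenD k hk
    rw [e]
    exact (hYcomm s hs).mul_left (hBYc.zpow_left i)
  have hDD : ∀ k l : S, (k : Ω) ∈ E₁ ⊓ E₂ → (l : Ω) ∈ E₁ ⊓ E₂ → Commute (π k) (π l) := by
    intro k l hk hl
    obtain ⟨s, hs, i, e⟩ := hgenD l hl
    obtain ⟨s', hs', j, e'⟩ := hgenY s hs
    rw [e, e']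
    exact ((hTc s' hs' _).symm.mul_right ((hDY k hk).zpow_right j)).mul_right ((hDB k hk).zpow_right i)
  -- `Z` commutes with `D`
  obtain ⟨r, hr⟩ : ∃ r, r = Z * B * Z⁻¹ * B⁻¹ := ⟨_, rfl⟩
  have hrT : (r : Ω) ∈ T := by rw [hr]; exact f.comm₂ _ hZE _ hBD.2
  have hZY : Commute (π Z) (π Y) := by
    refine mul_inv_eq_iff_eq_mul.1 ?_
    have e1 : π Z * π U * (π Z)⁻¹ = (π B)⁻¹ * π U := by
      rw [hB]; simp only [map_mul, map_inv]; group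
    have e2 : π Z * π B * (π Z)⁻¹ = π r * π B := by
      rw [hr]; simp only [map_mul, map_inv]; group
    have e3 : π U * π B * (π U)⁻¹ = π Y * π B := by
      rw [hY]; simp only [map_mul, map_inv]; group
    conv_lhs => rw [hY]
    simp only [map_mul, map_inv]
    rw [show π Z * (π U * π B * (π U)⁻¹ * (π B)⁻¹) * (π Z)⁻¹ =
      (π Z * π U * (π Z)⁻¹) * (π Z * π B * (π Z)⁻¹) * (π Z * π U * (π Z)⁻¹)⁻¹ *
        (π Z * π B * (π Z)⁻¹)⁻¹ by group, e1, e2]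
    rw [show (π B)⁻¹ * π U * (π r * π B) * ((π B)⁻¹ * π U)⁻¹ * (π r * π B)⁻¹ =
      ((π B)⁻¹ * π U) * π r * ((π B)⁻¹ * π U)⁻¹ *
        ((π B)⁻¹ * (π U * π B * (π U)⁻¹)) * (π r)⁻¹ by group, e3,
      ((hTc r hrT ((π B)⁻¹ * π U)).symm).eq, mul_inv_cancel_right, (hTc r hrT _).eq,
      mul_inv_cancel_right, hBYc.symm.eq, inv_mul_cancel_left]
  have hZB : Commute (π Z) (π B) := by
    have e := hδT r hrT
    rw [hr, map_mul δ, map_mul δ, map_mul δ, map_inv δ, map_inv δ, hδZ, hδB, ← hr] at e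
    simp only [map_mul, map_inv] at e
    have hr' : π Z * π B * (π Z)⁻¹ * (π B)⁻¹ = π r := by rw [hr]; simp only [map_mul, map_inv]
    have hZc : Commute (π Z) (π c) := by
      obtain ⟨s, hs, i, es⟩ := hgenY c hcY
      rw [es]
      exact (hTc s hs _).symm.mul_right (hZY.zpow_right i)
    have e' : π d * π Z * (π c * (π B)⁻¹) * (π d * π Z)⁻¹ * (π c * (π B)⁻¹)⁻¹ = (π r)⁻¹ := by
      rw [show π d * π Z * (π c * (π B)⁻¹) * (π d * π Z)⁻¹ * (π c * (π B)⁻¹)⁻¹ =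
        π d * ((π Z * π c * (π Z)⁻¹) * (π Z * π B * (π Z)⁻¹)⁻¹) * (π d)⁻¹ * π B * (π c)⁻¹ by group,
        hZc.eq, mul_inv_cancel_right, show π Z * π B * (π Z)⁻¹ = π r * π B by rw [← hr']; group,
        mul_inv_rev, ← mul_assoc (π c), ← mul_assoc (π d),
        ((hDD d c hdD (h.TΦ_le hcY)).mul_right (hDB d hdD).inv_right).eq, mul_assoc _ (π d),
        ((hTc r hrT (π d)).inv_left.symm).eq, ← mul_assoc, mul_inv_cancel_right,
        mul_assoc _ (π r)⁻¹ (π B), ((hTc r hrT (π B)).inv_left).eq, ← mul_assoc,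
        inv_mul_cancel_right, ((hTc r hrT (π c)).inv_left.symm).eq, mul_inv_cancel_right]
    rw [e'] at e
    have h1 : π r = 1 := eq_one_of_sq hS h.odd hπ (by
      conv_lhs => arg 1; rw [← e]
      rw [inv_mul_cancel])
    rw [h1] at hr'
    exact mul_inv_eq_iff_eq_mul.1 (mul_inv_eq_one.1 hr')
  have hZD : ∀ k : S, (k : Ω) ∈ E₁ ⊓ E₂ → Commute (π Z) (π k) := by
    intro k hk
    obtain ⟨s, hs, i, e⟩ := hgenD k hk
    obtain ⟨s', hs', j, e'⟩ := hgenY s hs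
    rw [e, e']
    exact ((hTc s' hs' _).symm.mul_right (hZY.zpow_right j)).mul_right (hZB.zpow_right i)
  -- powers
  have hBp : ((B ^ p : S) : Ω) ∈ T := by
    rw [SubmonoidClass.coe_pow]; exact f.pow₂ _ hBD.2
  have hYp : π Y ^ p = 1 := by
    have e3 : π U * π B * (π U)⁻¹ = π Y * π B := by
      rw [hY]; simp only [map_mul, map_inv]; group
    have h1 : (π U * π B * (π U)⁻¹) ^ p = π B ^ p := by
      rw [conj_pow, ← map_pow, ((hTc _ hBp (π U)).symm).eq, mul_inv_cancel_right]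
    rw [e3, hBYc.symm.mul_pow, mul_eq_right] at h1
    exact h1
  have hYall : ∀ k : S, (k : Ω) ∈ T ⊔ phi E₁ → π k ^ p = 1 := fun k hk => by
    obtain ⟨s, hs, i, e⟩ := hgenY k hk
    rw [e, (hTc s hs _).mul_pow, hTp s hs, one_mul, ← zpow_natCast, ← zpow_mul, mul_comm, zpow_mul,
      zpow_natCast, hYp, one_zpow]
  have hB1 : π B ^ p = 1 := by
    have e := hδT _ hBp
    rw [map_pow δ, map_pow π, map_pow π, hδB, map_mul π, map_inv π,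
      (hYB c hcY).inv_right.mul_pow, hYall c hcY, one_mul, inv_pow] at e
    rw [← map_pow]
    refine eq_one_of_sq hS h.odd hπ ?_
    rw [map_pow]
    conv_lhs => arg 1; rw [← e]
    rw [inv_mul_cancel]
  have hDall : ∀ k : S, (k : Ω) ∈ E₁ ⊓ E₂ → π k ^ p = 1 := fun k hk => by
    obtain ⟨s, hs, i, e⟩ := hgenD k hk
    rw [e, ((hYB s hs).zpow_right i).mul_pow, hYall s hs, one_mul, ← zpow_natCast, ← zpow_mul, mul_comm,
      zpow_mul, zpow_natCast, hB1, one_zpow]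
  have hgen₂ : ∀ {x : S}, (x : Ω) ∈ E₂ → (x : Ω) ∉ E₁ ⊓ E₂ → ∀ w : S, (w : Ω) ∈ E₂ →
      ∃ k : S, (k : Ω) ∈ E₁ ⊓ E₂ ∧ ∃ i : ℤ, π w = π k * π x ^ i := by
    intro x hx hxD w hw
    obtain ⟨k, hk, i, hki⟩ := h.symm.gen₁ hx (by rw [inf_comm]; exact hxD) hw
    rw [inf_comm] at hk
    refine ⟨⟨k, h.DS hk⟩, hk, i, ?_⟩
    rw [← map_zpow, ← map_mul]
    exact congrArg π (Subtype.ext (by simpa using hki))
  have hZD' : (Z : Ω) ∉ E₁ ⊓ E₂ := by rw [hZ]; exact f.z_not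
  have h22 : ∀ v w : S, (v : Ω) ∈ E₂ → (w : Ω) ∈ E₂ → Commute (π v) (π w) := by
    intro v w hv hw
    obtain ⟨k, hk, i, e⟩ := hgen₂ hZE hZD' v hv
    obtain ⟨l, hl, j, e'⟩ := hgen₂ hZE hZD' w hw
    rw [e, e']
    exact ((hDD k l hk hl).mul_right ((hZD k hk).symm.zpow_right j)).mul_left
      (((hZD l hl).zpow_left i).mul_right ((Commute.refl _).zpow_zpow i j))
  by_cases hzp : π Z ^ p = 1
  · -- `E₂ / Φ(T)` would be elementary of order at least `p⁴`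
    have hpow : ∀ v ∈ E₂, v ^ p ∈ phi T := by
      intro v hv
      obtain ⟨k, hk, i, e⟩ := hgen₂ hZE hZD' ⟨v, h.step₂.le hv⟩ hv
      refine (hπ ((⟨v, h.step₂.le hv⟩ : S) ^ p)).1 ?_
      rw [map_pow, e, ((hZD k hk).symm.zpow_right i).mul_pow, hDall k hk, one_mul, ← zpow_natCast,
        ← zpow_mul, mul_comm, zpow_mul, zpow_natCast, hzp, one_zpow]
    have hle := card_le_of_elementary_mod h.sec h.step₂.le (phi_le.trans h.T_le₂)
      (fun v hv x hx => h.phiTconj (h.step₂.le hv) hx)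
      (fun v hv w hw => (comm_iff hπ).1 (h22 ⟨v, h.step₂.le hv⟩ ⟨w, h.step₂.le hw⟩ hv hw)) hpow
    rw [show Nat.card E₂ = p ^ 3 * Nat.card T by
      rw [h.symm.card₁, inf_comm, f.cardD, f.cardY]; ring] at hle
    have h1 := Nat.le_of_mul_le_mul_left hle (pow_pos hp'.pos 3)
    have htop : phi T = T := Subgroup.eq_of_le_of_card_ge phi_le h1
    refine hT ((Subgroup.eq_bot_iff_forall _).2 fun x hx => ?_)
    have hft : frattini T = ⊤ := eq_top_iff.2 fun y _ => mem_phi.1 (htop.ge y.2)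
    have h0 : (⊥ : Subgroup T) = ⊤ := frattini_nongenerating (by rw [hft]; exact sup_top_eq _)
    exact congrArg Subtype.val (Subgroup.mem_bot.1 (h0.ge (Subgroup.mem_top (⟨x, hx⟩ : T))))
  · -- otherwise `D` is the subgroup of elements of exponent `p` in `E₂ / Φ(T)`
    refine f.not_invD h fun α hα x hx => ?_
    by_contra hαx
    refine hzp ?_
    obtain ⟨X, hX⟩ : ∃ X : S, X = ⟨(((α : MulAut E₂) x : E₂) : Ω), h.step₂.le (Subtype.coe_prop _)⟩ :=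
      ⟨_, rfl⟩
    have hXE : (X : Ω) ∈ E₂ := hX ▸ Subtype.coe_prop _
    have hXp : π X ^ p = 1 := by
      rw [← map_pow, hπ, hX, SubmonoidClass.coe_pow]
      have h1 : ((x ^ p : E₂) : Ω) ∈ phi T := by
        have := (hπ ((⟨(x : Ω), h.step₂.le x.2⟩ : S) ^ p)).1 (by rw [map_pow]; exact hDall _ hx)
        exact this
      have h2 := (h.inv₂.phi h.T_le₂ h.step₂.le) α hα (x ^ p) h1
      rw [map_pow] at h2
      exact h2
    obtain ⟨k, hk, i, e⟩ := hgen₂ hXE (hX ▸ hαx) Z hZE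
    rw [e, ((h22 k X hk.2 hXE).zpow_right i).mul_pow, hDall k hk, one_mul, ← zpow_natCast, ← zpow_mul,
      mul_comm, zpow_mul, zpow_natCast, hXp, one_zpow]

end Four

end CfsgLib.Fusion.TwoEssential
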