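import Cfsg.Agent.Lib.Fusion.TwoEssential.Four

/-!
# Two invariant essential subgroups
-/

set_option autoImplicit false

namespace CfsgLib.Fusion.TwoEssential

open Cfsg Cfsg.FusionSystem CfsgLib CfsgLib.Fusion CfsgLib.Fusion.RankThree CfsgLib.Fusion.NormalEssential

variable {p : ℕ} [hp : Fact p.Prime] {Ω : Type*} [Group Ω] {S : Subgroup Ω}
  {F : FusionSystem S} {E₁ E₂ T P : Subgroup Ω}

omit hp in
theorem Inv.sSup_mem {𝒦 : Set (Subgroup Ω)} (hle : ∀ K ∈ 𝒦, K ≤ P) (hK : ∀ K ∈ 𝒦, Inv F P K) :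
    Inv F P (sSup 𝒦) := by
  intro α hα x hx
  have h : sSup 𝒦 ≤ (((sSup 𝒦).comap P.subtype).comap (α : MulAut P).toMonoidHom).map P.subtype :=
    sSup_le fun K hKm y hy => ⟨⟨y, hle K hKm hy⟩, (le_sSup hKm) (hK K hKm α hα ⟨y, hle K hKm hy⟩ hy), rfl⟩
  obtain ⟨z, hz, hzx⟩ := h hx
  obtain rfl : z = x := Subtype.ext hzx
  exact hz

omit hp in
theorem inv_of_map (hPS : P ≤ S)
    (h : ∀ φ : MulAut S, φ ∈ F.autGroup S → (P.subgroupOf S).map φ.toMonoidHom = P.subgroupOf S) :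
    Inv F S P := fun φ hφ x hx => by
  have : φ x ∈ P.subgroupOf S := h φ hφ ▸ ⟨x, hx, rfl⟩
  exact this

variable [Finite S]

/-- When the intersection is too large, some `Ω₁Z` leaves the other subgroup. -/
theorem Config.false_of_le (h : Config p F E₁ E₂ T) (hlt : p ^ 3 < Nat.card S)
    (h₁ : omegaCenter p E₁ ≤ E₂) (h₂ : omegaCenter p E₂ ≤ E₁) : False := by
  have hp' := hp.out
  have hS := h.pg
  by_cases hT : T = ⊥
  · refine false_of_inside hS h.odd h.sec hlt h.sat (ℰ := fun P => P = E₁ ∨ P = E₂)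
      { ess := ?_, reduced := ?_, step := ?_, le := ?_, img := ?_ }
    · rintro P (rfl | rfl)
      · exact h.ess₁
      · exact h.ess₂
    · intro K _ hA hP
      have h1 := hP E₁ (Or.inl rfl)
      have h2 := hP E₂ (Or.inr rfl)
      exact le_bot_iff.1 (hT ▸ h.max K (le_inf h1.1 h2.1) hA h1.2 h2.2)
    · rintro P (rfl | rfl)
      · exact h.step₁
      · exact h.step₂
    · rintro P (rfl | rfl) Q (rfl | rfl)
      · exact omegaCenter_le
      · exact h₂
      · exact h₁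
      · exact omegaCenter_le
    · have himg : ∀ {Q : Subgroup Ω}, Inv F S Q → ∀ φ ∈ F.autGroup S, ∀ x : S,
          (x : Ω) ∈ omegaCenter p Q → ((φ x : S) : Ω) ∈ Q ∧
            ∀ a ∈ omegaCenter p Q, a * ((φ x : S) : Ω) = ((φ x : S) : Ω) * a :=
        fun hQ φ hφ x hx => ⟨hQ φ hφ x hx.1, fun a ha => ha.2.2 _ (hQ φ hφ x hx.1)⟩
      rintro Q (rfl | rfl)
      · exact himg h.auto₁
      · exact himg h.auto₂
  have := finite_le h.TS
  have := finite_le h.DS
  obtain ⟨t, ht⟩ := (hS.to_le h.TS).exists_card_eq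
  obtain ⟨d, hd⟩ := (hS.to_le h.DS).exists_card_eq
  have htd : t < d := (Nat.pow_lt_pow_iff_right hp'.one_lt).1 (ht ▸ hd ▸
    lt_of_le_of_ne (Subgroup.card_le_of_le h.le) fun e =>
      h.ne_D (Subgroup.eq_of_le_of_card_ge h.le e.ge))
  rcases Nat.lt_or_ge (d : ℕ) (t + 2) with hdt | hdt
  · have hc : Nat.card S = p ^ 3 * Nat.card T := by
      rw [h.cardS, hd, ht, show d = t + 1 by omega, pow_succ]; ring
    rcases h.three_cases hc with hC | hC
    · exact h.false_of_three_trivial hc hC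
    · exact h.false_of_three_central hc hC h₁
  · have hc : p ^ 3 * Nat.card T < Nat.card S := by
      rw [h.cardS, hd, ht, ← pow_add, ← pow_add]
      exact Nat.pow_lt_pow_right hp'.one_lt (by omega)
    rcases h.quotient_shape hc with ⟨a, b, c, e⟩ | ⟨a, b, c, e⟩
    · obtain ⟨u, z, f⟩ := h.exists_four a b c e
      exact hT (f.eq_bot h)
    · obtain ⟨u, z, f⟩ := h.symm.exists_four a b c e
      exact hT (f.eq_bot h.symm)

/-- In a core-free system of sectional rank three two invariant essential subgroups see each other. -/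
theorem exists_notMem (hS : IsPGroup p S) (hp2 : p ≠ 2) (hsec : SecLE p S) (hlt : p ^ 3 < Nat.card S)
    (hF : F.IsSaturated p) (hE₁ : F.IsEssential p E₁) (hE₂ : F.IsEssential p E₂)
    (hd₁ : Step p S E₁) (hd₂ : Step p S E₂) (hne : E₁ ≠ E₂)
    (ha₁ : Inv F S E₁) (ha₂ : Inv F S E₂) :
    (∃ z ∈ omegaCenter p E₂, z ∉ E₁) ∨ ∃ z ∈ omegaCenter p E₁, z ∉ E₂ := by
  by_contra hc
  push Not at hc
  obtain ⟨𝒦, h𝒦⟩ : ∃ 𝒦 : Set (Subgroup Ω),
      𝒦 = {K | K ≤ E₁ ⊓ E₂ ∧ Inv F S K ∧ Inv F E₁ K ∧ Inv F E₂ K} := ⟨_, rfl⟩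
  have hmem : ∀ K ∈ 𝒦, K ≤ E₁ ⊓ E₂ ∧ Inv F S K ∧ Inv F E₁ K ∧ Inv F E₂ K := fun K hK => by
    rw [h𝒦] at hK; exact hK
  have h : Config p F E₁ E₂ (sSup 𝒦) :=
    { pg := hS
      odd := hp2
      sat := hF
      sec := hsec
      ess₁ := hE₁
      ess₂ := hE₂
      step₁ := hd₁
      step₂ := hd₂
      ne := hne
      auto₁ := ha₁
      auto₂ := ha₂
      le := sSup_le fun K hK => (hmem K hK).1
      invS := Inv.sSup_mem (fun K hK => (hmem K hK).1.trans (inf_le_left.trans hd₁.le))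
        fun K hK => (hmem K hK).2.1
      inv₁ := Inv.sSup_mem (fun K hK => (hmem K hK).1.trans inf_le_left) fun K hK => (hmem K hK).2.2.1
      inv₂ := Inv.sSup_mem (fun K hK => (hmem K hK).1.trans inf_le_right) fun K hK => (hmem K hK).2.2.2
      max := fun K a b c d => le_sSup (by rw [h𝒦]; exact ⟨a, b, c, d⟩) }
  exact h.false_of_le hlt (fun z hz => hc.2 z hz) (fun z hz => hc.1 z hz)

end CfsgLib.Fusion.TwoEssential
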