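import Cfsg.Agent.Lib.Fusion.TwoEssential.Quotient

/-!
# Commuting modulo a normal subgroup
-/

set_option autoImplicit false

namespace CfsgLib.Fusion.TwoEssential

open Cfsg Cfsg.FusionSystem CfsgLib CfsgLib.Fusion CfsgLib.Fusion.RankThree CfsgLib.Fusion.NormalEssential

variable {p : ℕ} {Ω : Type*} [Group Ω] {S : Subgroup Ω} {F : FusionSystem S}
  {E K W A N P : Subgroup Ω}

/-- The elements of `S` commuting with `A` modulo `N`. -/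
def CMod (hN : S ≤ Subgroup.normalizer (N : Set Ω)) (A : Subgroup Ω) : Subgroup Ω where
  carrier := {x | x ∈ S ∧ ∀ a ∈ A, x * a * x⁻¹ * a⁻¹ ∈ N}
  one_mem' := ⟨one_mem S, fun a _ => by simp⟩
  mul_mem' := fun {x y} hx hy => ⟨mul_mem hx.1 hy.1, fun a ha => by
    rw [show x * y * a * (x * y)⁻¹ * a⁻¹ = x * (y * a * y⁻¹ * a⁻¹) * x⁻¹ * (x * a * x⁻¹ * a⁻¹) by group]
    exact mul_mem (conj_mem_E hN hx.1 (hy.2 a ha)) (hx.2 a ha)⟩
  inv_mem' := fun {x} hx => ⟨inv_mem hx.1, fun a ha => by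
    rw [show x⁻¹ * a * x⁻¹⁻¹ * a⁻¹ = x⁻¹ * (x * a * x⁻¹ * a⁻¹)⁻¹ * x⁻¹⁻¹ by group]
    exact conj_mem_E hN (inv_mem hx.1) (inv_mem (hx.2 a ha))⟩

theorem mem_CMod {hN : S ≤ Subgroup.normalizer (N : Set Ω)} {x : Ω} :
    x ∈ CMod hN A ↔ x ∈ S ∧ ∀ a ∈ A, x * a * x⁻¹ * a⁻¹ ∈ N := Iff.rfl

theorem CMod_le {hN : S ≤ Subgroup.normalizer (N : Set Ω)} : CMod hN A ≤ S := fun _ hx => hx.1

theorem comm_symm {a b : Ω} (h : a * b * a⁻¹ * b⁻¹ ∈ N) : b * a * b⁻¹ * a⁻¹ ∈ N := by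
  have := inv_mem h
  rwa [show (a * b * a⁻¹ * b⁻¹)⁻¹ = b * a * b⁻¹ * a⁻¹ by group] at this

theorem CMod_inv (hN : S ≤ Subgroup.normalizer (N : Set Ω)) (hPS : P ≤ S) (hAP : A ≤ P)
    (hNi : Inv F P N) (hA : Inv F P A) : Inv F P (CMod hN A ⊓ P) := by
  intro α hα x hx
  refine ⟨⟨hPS (α x).2, fun a ha => ?_⟩, Subtype.coe_prop _⟩
  obtain ⟨a', ha'⟩ : ∃ a' : P, a' = (α : MulAut P)⁻¹ ⟨a, hAP ha⟩ := ⟨_, rfl⟩
  have ha'A : (a' : Ω) ∈ A := by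
    rw [ha']; exact hA _ (inv_mem hα) ⟨a, hAP ha⟩ ha
  have h := hNi α hα (x * a' * x⁻¹ * a'⁻¹) (hx.1.2 a' ha'A)
  rw [map_mul, map_mul, map_mul, map_inv, map_inv, ha', MulAut.apply_inv_self] at h
  exact h

/-- The element inverting a section fixes what `S` fixes. -/
theorem Torus.fix {hES : E ≤ S} {hn : S ≤ Subgroup.normalizer (E : Set Ω)} {δ : MulAut S}
    (hT : Torus F E K W hES hn δ) (hA : Inv F E A) (hN : Inv F E N) (hAE : A ≤ E)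
    (h : ∀ s ∈ S, ∀ x ∈ A, s * x * s⁻¹ * x⁻¹ ∈ N) (x : S) (hx : (x : Ω) ∈ A) :
    ((δ x : S) : Ω) * (x : Ω)⁻¹ ∈ N := by
  obtain ⟨σ, hσ, hσv⟩ := hT.restrict
  let M : Subgroup (F.autGroup E) :=
    { carrier := {τ | ∀ y : E, (y : Ω) ∈ A → (((τ : MulAut E) y * y⁻¹ : E) : Ω) ∈ N}
      one_mem' := fun y _ => by simp
      mul_mem' := fun {a b} ha hb y hy => by
        have h1 := ha ((b : MulAut E) y) (hA _ b.2 y hy)
        have h2 := hb y hy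
        rw [show ((a * b : F.autGroup E) : MulAut E) y * y⁻¹ =
          ((a : MulAut E) ((b : MulAut E) y) * ((b : MulAut E) y)⁻¹) * ((b : MulAut E) y * y⁻¹) by
          rw [Subgroup.coe_mul, MulAut.mul_apply]; group, Subgroup.coe_mul]
        exact mul_mem h1 h2
      inv_mem' := fun {a} ha y hy => by
        have h1 := ha ((a : MulAut E)⁻¹ y) (hA _ (inv_mem a.2) y hy)
        rw [MulAut.apply_inv_self] at h1
        rw [show ((a⁻¹ : F.autGroup E) : MulAut E) y * y⁻¹ = (y * ((a : MulAut E)⁻¹ y)⁻¹)⁻¹ by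
          rw [Subgroup.coe_inv]; group, Subgroup.coe_inv]
        exact inv_mem h1 }
  have hMn : M.Normal := ⟨fun τ hτ g y hy => by
    have h1 := hτ ((g : MulAut E)⁻¹ y) (hA _ (inv_mem g.2) y hy)
    have h2 := hN _ g.2 _ h1
    rw [map_mul, map_inv, MulAut.apply_inv_self] at h2
    exact h2⟩
  have hmem : σ ∈ M := hσ M hMn fun s y hy => by
    rw [Subgroup.coe_mul, Subgroup.coe_inv, toAut_apply]
    exact h _ s.2 _ hy
  have h1 := hmem ⟨(x : Ω), hAE hx⟩ hx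
  rw [Subgroup.coe_mul, Subgroup.coe_inv, ← hσv] at h1
  exact h1

section Quot

variable {Q : Type*} [Group Q] {π : S →* Q} (hπ : ∀ a : S, π a = 1 ↔ (a : Ω) ∈ N)
include hπ

theorem comm_iff {a b : S} : Commute (π a) (π b) ↔ (a : Ω) * b * (a : Ω)⁻¹ * (b : Ω)⁻¹ ∈ N := by
  rw [show (a : Ω) * b * (a : Ω)⁻¹ * (b : Ω)⁻¹ = ((a * b * a⁻¹ * b⁻¹ : S) : Ω) from rfl, ← hπ,
    map_mul, map_mul, map_mul, map_inv, map_inv, mul_inv_eq_one, mul_inv_eq_iff_eq_mul]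
  rfl

theorem eq_iff {a b : S} : π a = π b ↔ (a : Ω) * (b : Ω)⁻¹ ∈ N := by
  rw [show (a : Ω) * (b : Ω)⁻¹ = ((a * b⁻¹ : S) : Ω) from rfl, ← hπ, map_mul, map_inv, mul_inv_eq_one]

theorem eq_comm_iff {a b c : S} :
    π a * π b * (π a)⁻¹ * (π b)⁻¹ = π c ↔ (a : Ω) * b * (a : Ω)⁻¹ * (b : Ω)⁻¹ * (c : Ω)⁻¹ ∈ N := by
  rw [show (a : Ω) * b * (a : Ω)⁻¹ * (b : Ω)⁻¹ = ((a * b * a⁻¹ * b⁻¹ : S) : Ω) from rfl,
    ← eq_iff hπ, map_mul, map_mul, map_mul, map_inv, map_inv]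

end Quot

variable [hp : Fact p.Prime]

/-- In a `p`-group of odd order squares generate. -/
theorem mem_of_sq_mem (hS : IsPGroup p S) (hp2 : p ≠ 2) {x : Ω} (hx : x ∈ S) (h : x * x ∈ N) :
    x ∈ N := by
  obtain ⟨k, hk⟩ := hS ⟨x, hx⟩
  have hk' : x ^ p ^ k = 1 := by simpa using congrArg Subtype.val hk
  obtain ⟨m, hm⟩ := (hp.out.odd_of_ne_two hp2).pow (n := k)
  have h1 : (x * x) ^ (m + 1) = x := by
    rw [← pow_two, ← pow_mul, show 2 * (m + 1) = p ^ k + 1 by omega, pow_succ, hk', one_mul]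
  exact h1 ▸ pow_mem h _

theorem eq_one_of_sq (hS : IsPGroup p S) (hp2 : p ≠ 2) {Q : Type*} [Group Q] {π : S →* Q}
    (hπ : ∀ a : S, π a = 1 ↔ (a : Ω) ∈ N) {a : S} (h : π a * π a = 1) : π a = 1 := by
  rw [← map_mul, hπ] at h
  exact (hπ a).2 (mem_of_sq_mem hS hp2 a.2 h)

variable [Finite S]

/-- Elementary sections have order at most `p³`, inside the ambient group. -/
theorem card_le_of_elementary_mod (hsec : SecLE p S) (hAS : A ≤ S) (hNA : N ≤ A)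
    (hn : ∀ a ∈ A, ∀ x ∈ N, a * x * a⁻¹ ∈ N) (hc : ∀ a ∈ A, ∀ b ∈ A, a * b * a⁻¹ * b⁻¹ ∈ N)
    (hexp : ∀ a ∈ A, a ^ p ∈ N) : Nat.card A ≤ p ^ 3 * Nat.card N := by
  have h := hsec (A.subgroupOf S) (N.subgroupOf S) (fun x hx => hNA hx)
    (fun a ha b hb => hn _ ha _ hb) (fun a ha b hb => hc _ ha _ hb) (fun a ha => hexp _ ha)
  rwa [Nat.card_congr (Subgroup.subgroupOfEquivOfLe hAS).toEquiv,
    Nat.card_congr (Subgroup.subgroupOfEquivOfLe (hNA.trans hAS)).toEquiv] at h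

namespace Config

variable {E₁ E₂ T : Subgroup Ω} (h : Config p F E₁ E₂ T)
include h

theorem phiT_norm : S ≤ Subgroup.normalizer (phi T : Set Ω) :=
  le_normalizer_of_conj fun _ hs _ hx => h.phiTconj hs hx

omit hp [Finite S] in
theorem T_norm : S ≤ Subgroup.normalizer (T : Set Ω) := h.invS.normS h.TS

/-- The elements of `S` acting trivially on `T / Φ(T)`. -/
def C : Subgroup Ω := CMod h.phiT_norm T

theorem T_le_C : T ≤ h.C := fun x hx => ⟨h.TS hx, fun t ht => by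
  have := finite_le h.TS
  exact mem_phi.2 (PGroups.commutator_le_frattini' (h.pg.to_le h.TS)
    (Subgroup.commutator_mem_commutator (g₁ := (⟨x, hx⟩ : T)) (g₂ := ⟨t, ht⟩) trivial trivial))⟩

theorem C_inv₁ : Inv F E₁ (h.C ⊓ E₁) :=
  CMod_inv _ h.step₁.le h.T_le₁ (h.inv₁.phi h.T_le₁ h.step₁.le) h.inv₁

theorem C_invS : Inv F S h.C := by
  have := CMod_inv h.phiT_norm le_rfl h.TS (h.invS.phi h.TS le_rfl) h.invS
  rwa [inf_of_le_left CMod_le] at this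

theorem act_eq_one_of_mem_C {s : S} : act h.T_norm s = 1 ↔ (s : Ω) ∈ h.C :=
  (act_eq_one h.T_norm).trans (mem_cmod h.T_norm)

/-- Where `C ≤ D` it is `T`. -/
theorem C_eq_T (hCD : h.C ≤ E₁ ⊓ E₂) : h.C = T := by
  refine le_antisymm (h.max _ hCD h.C_invS ?_ ?_) h.T_le_C
  · have := h.C_inv₁
    rwa [inf_of_le_left (hCD.trans inf_le_left)] at this
  · have : Inv F E₂ (h.C ⊓ E₂) :=
      CMod_inv _ h.step₂.le h.T_le₂ (h.inv₂.phi h.T_le₂ h.step₂.le) h.inv₂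
    rwa [inf_of_le_left (hCD.trans inf_le_right)] at this

end Config

end CfsgLib.Fusion.TwoEssential
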