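import Cfsg.Agent.Lib.Fusion.TwoEssential.QuotientBase

/-!
# The structure of `S / T`

The images of the two subgroups are essential in the factor system and the maximality of `T` leaves no
common invariant subgroup, so beyond order `p³` the quotient is the Sylow subgroup of `Sp₄(p)`.
-/

set_option autoImplicit false

namespace CfsgLib.Fusion.TwoEssential

open Cfsg Cfsg.FusionSystem CfsgLib CfsgLib.Fusion CfsgLib.Fusion.RankThree CfsgLib.Fusion.NormalEssential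

variable {p : ℕ} [hp : Fact p.Prime] {Ω : Type*} [Group Ω] {S : Subgroup Ω} [Finite S]
  {F : FusionSystem S} {E₁ E₂ E T P : Subgroup Ω} {Ω' : Type*} [Group Ω']
  {θ : S →* Ω'} {N : FusionSystem S} {G : FusionSystem θ.range}

/-- Conjugates of the automorphisms given by `S` acting as powers of one on `E / T` give an inner one. -/
theorem Config.exists_conj_notMem (h : Config p F E₁ E₂ T) {s : S} (hs : (s : Ω) ∉ E₁) :
    ∃ σ : F.autGroup E₁, ∀ (i : ℤ), ∀ e ∈ E₁, ∃ x : E₁,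
      ((((σ * toAut F h.step₁.le h.step₁.norm s * σ⁻¹ : F.autGroup E₁) : MulAut E₁) x : E₁) : Ω) *
        ((e * (s : Ω) ^ i) * x * (e * (s : Ω) ^ i)⁻¹)⁻¹ ∉ T := by
  by_contra hc
  push Not at hc
  have hp' := hp.out
  have hS := h.pg
  have hd := h.step₁
  have hES := hd.le
  have := finite_le hES
  have hEp : IsPGroup p E₁ := hS.to_le hES
  obtain ⟨z, hz⟩ : ∃ z, z = toAut F hES hd.norm s := ⟨_, rfl⟩
  by_cases hTΦ : T ≤ phi E₁
  · -- the powers of `z` and the inner automorphisms form a normal `p`-subgroup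
    let O := outAut F E₁
    have hzO : ∀ σ : F.autGroup E₁, O (σ * z * σ⁻¹) ∈ Subgroup.zpowers (O z) := by
      intro σ
      obtain ⟨i, e, he, hx⟩ := hc σ
      refine Subgroup.mem_zpowers_iff.2 ⟨i, MulEquiv.ext fun v => ?_⟩
      obtain ⟨x, rfl⟩ := QuotientGroup.mk'_surjective _ v
      have h1 : O (z ^ i) = O (toAut F hES hd.norm (⟨e, hES he⟩ * s ^ i)) := by
        rw [map_mul, map_zpow, map_mul, map_zpow, ← hz,
          show O (toAut F hES hd.norm ⟨e, hES he⟩) = 1 from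
            outAut_inn hS hES ((toAut_inn_iff h.ess₁ hd.norm ⟨e, hES he⟩).2 he), one_mul]
        exact (map_zpow _ _ _).symm
      rw [← map_zpow, h1, QuotientGroup.mk'_apply, outAut_apply, outAut_apply]
      refine (QuotientGroup.eq.2 ?_).symm
      rw [← mem_phi]
      have h2 := hTΦ (hx x)
      rw [← hz] at h2
      have h3 := (phi_inv (F := F)).conj hES hd.norm phi_le
        (inv_mem (hES (((σ * z * σ⁻¹ : F.autGroup E₁) : MulAut E₁) x).2)) (inv_mem h2)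
      simp only [Subgroup.coe_mul, Subgroup.coe_inv, toAut_apply, SubgroupClass.coe_zpow]
      simp only [mul_inv_rev, inv_inv, mul_assoc, inv_mul_cancel, mul_one] at h3 ⊢
      exact h3
    obtain ⟨M, hM⟩ : ∃ M, M = (Subgroup.zpowers (O z)).comap O := ⟨_, rfl⟩
    have hMn : M.Normal := ⟨fun τ hτ σ => by
      rw [hM, Subgroup.mem_comap] at hτ ⊢
      obtain ⟨i, hi⟩ := Subgroup.mem_zpowers_iff.1 hτ
      rw [map_mul, map_mul, ← hi, ← map_zpow, ← map_mul, ← map_mul, ← conj_zpow, map_zpow]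
      exact zpow_mem (hzO σ) i⟩
    have hMp : IsPGroup p M := by
      rw [hM]
      refine IsPGroup.comap_of_ker_isPGroup ?_ _ ?_
      · intro u
        obtain ⟨i, hi⟩ := Subgroup.mem_zpowers_iff.1 u.2
        obtain ⟨k, hk⟩ := hS s
        have hzk : O z ^ p ^ k = 1 := by rw [hz, ← map_pow, ← map_pow, hk, map_one, map_one]
        exact ⟨k, Subtype.ext (by rw [SubmonoidClass.coe_pow, ← hi, ← zpow_natCast, ← zpow_mul,
          mul_comm, zpow_mul, zpow_natCast, hzk, one_zpow, Subgroup.coe_one])⟩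
      · exact ((hEp.of_surjective _ (MulAut.conj : E₁ →* MulAut E₁).rangeRestrict_surjective).comap_of_injective
          (F.autGroup E₁).subtype Subtype.coe_injective).to_le fun σ hσ => outAut_ker hS h.ess₁ hσ
    refine hs ((toAut_inn_iff h.ess₁ hd.norm s).1 (inn_of_normal hS h.ess₁ hMn hMp ?_))
    rw [hM, Subgroup.mem_comap, ← hz]
    exact Subgroup.mem_zpowers _
  · -- then `[E₁, S] T Φ(E₁) = D` would be invariant
    obtain ⟨K, hK⟩ : ∃ K, K = T ⊔ phi E₁ := ⟨_, rfl⟩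
    have hKi : Inv F E₁ K := hK ▸ h.TΦ_inv
    have hKE : K ≤ E₁ := hK ▸ h.TΦ_le.trans inf_le_left
    have hKS := hKE.trans hES
    have := finite_le hKS
    obtain ⟨W, hW⟩ : ∃ W, W = K ⊔ Subgroup.closure
        (Set.range fun x : E₁ => (s : Ω) * x * (s : Ω)⁻¹ * (x : Ω)⁻¹) := ⟨_, rfl⟩
    have hKW : K ≤ W := hW ▸ le_sup_left
    have hgenW : ∀ x ∈ E₁, (s : Ω) * x * (s : Ω)⁻¹ * x⁻¹ ∈ W := fun x hx =>
      hW ▸ Subgroup.mem_sup_right (Subgroup.subset_closure ⟨⟨x, hx⟩, rfl⟩)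
    have hWD : W ≤ E₁ ⊓ E₂ := hW ▸ sup_le (hK ▸ h.TΦ_le) ((Subgroup.closure_le _).2 (by
      rintro _ ⟨x, rfl⟩; exact h.comm_mem_D s.2 (hES x.2)))
    have hWE : W ≤ E₁ := hWD.trans inf_le_left
    -- normality in `E₁` and stability under the conjugate
    have hinner : ∀ e ∈ E₁, ∀ x ∈ E₁, e * x * e⁻¹ * x⁻¹ ∈ K := fun e he x hx =>
      hK ▸ Subgroup.mem_sup_right (mem_phi.2 (PGroups.commutator_le_frattini' hEp
        (Subgroup.commutator_mem_commutator (g₁ := (⟨e, he⟩ : E₁)) (g₂ := ⟨x, hx⟩) trivial trivial)))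
    have hWn : ∀ e ∈ E₁, ∀ w ∈ W, e * w * e⁻¹ ∈ W := fun e he w hw => by
      rw [show e * w * e⁻¹ = (e * w * e⁻¹ * w⁻¹) * w by group]
      exact mul_mem (hKW (hinner e he w (hWE hw))) hw
    let Q : Subgroup Ω :=
      { carrier := {g | g ∈ S ∧ ∀ x ∈ E₁, g * x * g⁻¹ * x⁻¹ ∈ W}
        one_mem' := ⟨one_mem S, fun x _ => by simp⟩
        mul_mem' := fun {a b} ha hb => ⟨mul_mem ha.1 hb.1, fun x hx => by
          rw [show a * b * x * (a * b)⁻¹ * x⁻¹ =
            (a * (b * x * b⁻¹) * a⁻¹ * (b * x * b⁻¹)⁻¹) * (b * x * b⁻¹ * x⁻¹) by group]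
          exact mul_mem (ha.2 _ (conj_mem_E hd.norm hb.1 hx)) (hb.2 x hx)⟩
        inv_mem' := fun {a} ha => ⟨inv_mem ha.1, fun x hx => by
          have h1 := ha.2 _ (conj_mem_E hd.norm (inv_mem ha.1) hx)
          rw [inv_inv] at h1
          have h2 : a⁻¹ * x * a * x⁻¹ = (a * (a⁻¹ * x * a) * a⁻¹ * (a⁻¹ * x * a)⁻¹)⁻¹ := by group
          rw [inv_inv, h2]
          exact inv_mem h1⟩ }
    have hQ : ∀ g ∈ S, g ∈ Q := fun g hg => by
      obtain ⟨e, he, i, rfl⟩ := hd.gen s.2 hs hg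
      exact mul_mem (⟨hES he, fun x hx => hKW (hinner e he x hx)⟩ : e ∈ Q)
        (zpow_mem (⟨s.2, hgenW⟩ : (s : Ω) ∈ Q) i)
    have hWi : Inv F E₁ W := by
      intro α hα x hx
      obtain ⟨i, e, he, hσ⟩ := hc ⟨α, hα⟩
      have hle : W ≤ ((W.comap E₁.subtype).comap (α : MulAut E₁).toMonoidHom).map E₁.subtype := by
        rw [hW]
        refine sup_le (fun y hy => ⟨⟨y, hKE hy⟩, Subgroup.mem_sup_left (hKi α hα ⟨y, hKE hy⟩ hy), rfl⟩)
          ((Subgroup.closure_le _).2 ?_)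
        rintro _ ⟨y, rfl⟩
        refine ⟨((z : F.autGroup E₁) : MulAut E₁) y * y⁻¹, ?_, by
          show (((z : MulAut E₁) y * y⁻¹ : E₁) : Ω) = _
          rw [Subgroup.coe_mul, Subgroup.coe_inv, hz, toAut_apply]⟩
        rw [← hW]
        show ((((α : MulAut E₁) (((z : F.autGroup E₁) : MulAut E₁) y * y⁻¹)) : E₁) : Ω) ∈ W
        have h1 := hKW (hK ▸ Subgroup.mem_sup_left (hσ ((α : MulAut E₁) y)))
        rw [← hz, Subgroup.coe_mul, Subgroup.coe_mul, Subgroup.coe_inv, MulAut.mul_apply,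
          MulAut.mul_apply, MulAut.inv_apply_self] at h1
        have h2 := (hQ _ (mul_mem (hES he) (zpow_mem s.2 i))).2 _ ((α : MulAut E₁) y).2
        rw [map_mul, map_inv, Subgroup.coe_mul, Subgroup.coe_inv]
        have h3 := mul_mem h1 h2
        refine (iff_of_eq (congrArg (· ∈ W) ?_)).1 h3
        group
      obtain ⟨y, hy, hyx⟩ := hle hx
      obtain rfl : y = x := Subtype.ext hyx
      exact hy
    have hWD' : W = E₁ ⊓ E₂ := by
      have := finite_le h.DS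
      refine Subgroup.eq_of_le_of_card_ge hWD (Nat.le_of_mul_le_mul_left ?_ hp'.pos)
      rw [← h.card₁]
      exact card_le_of_comm hS h.sec h.ess₁ hd (le_sup_right.trans (hK.ge.trans hKW)) hWE hWi
        fun g hg x hx => (hQ g hg).2 x hx
    subst hWD'
    refine false_of_indices hS h.sec h.ess₁ hd (hK ▸ le_sup_right) hKW hWE hKi hWi h.card₁ ?_
    -- `|E₁ / T Φ(E₁)| = p²`
    have hlt : Nat.card (phi E₁) < Nat.card K := by
      refine lt_of_le_of_ne (Subgroup.card_le_of_le (hK ▸ le_sup_right)) fun e => hTΦ ?_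
      rw [Subgroup.eq_of_le_of_card_ge (hK ▸ le_sup_right : phi E₁ ≤ K) e.ge, hK]
      exact le_sup_left
    have hbig : p * Nat.card K < Nat.card E₁ := hK ▸ not_le.1 h.not_thin
    have := finite_le (phi_le.trans hES : phi E₁ ≤ S)
    have h3 : Nat.card E₁ ≤ p ^ 3 * Nat.card (phi E₁) := by
      rw [phi, Subgroup.card_map_of_injective E₁.subtype_injective, ← (frattini E₁).card_mul_index,
        mul_comm (p ^ 3)]
      exact Nat.mul_le_mul_left _ (index_frattini_le hS h.sec hES)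
    obtain ⟨a, ha⟩ := (hS.to_le (phi_le.trans hES : phi E₁ ≤ S)).exists_card_eq
    obtain ⟨b, hb⟩ := (hS.to_le hKS).exists_card_eq
    have := finite_le h.DS
    obtain ⟨c, hc'⟩ := (hS.to_le h.DS).exists_card_eq
    rw [ha, hb] at hlt
    rw [h.card₁, hc', hb, ← pow_succ', ← pow_succ'] at hbig
    rw [h.card₁, hc', ha, ← pow_succ', ← pow_add] at h3
    have := (Nat.pow_lt_pow_iff_right hp'.one_lt).1 hlt
    have := (Nat.pow_lt_pow_iff_right hp'.one_lt).1 hbig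
    have := (Nat.pow_le_pow_iff_right hp'.one_lt).1 h3
    rw [hc', hb, ← pow_succ', show c = b + 1 by omega]

namespace Reduction

variable (R : Reduction p F T θ N G)
include R

/-- The image of a normal subgroup of index `p`. -/
theorem step_image (hTE : T ≤ E) (hd : Step p S E) : Step p θ.range (imageAlong θ E) := by
  refine ⟨R.image_le E, le_normalizer_of_conj ?_, ?_⟩
  · rintro _ ⟨a, rfl⟩ _ ⟨b, hb, rfl⟩
    exact ⟨a * b * a⁻¹, conj_mem_E hd.norm a.2 hb, by rw [map_mul, map_mul, map_inv]⟩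
  · have h1 := R.card_image (hTE.trans hd.le) le_rfl
    rw [R.image_top, hd.card, R.card_image hTE hd.le, ← mul_assoc] at h1
    have := finite_le (hTE.trans hd.le)
    exact (Nat.eq_of_mul_eq_mul_right Nat.card_pos h1).symm

omit hp in
theorem pgroup (hS : IsPGroup p S) : IsPGroup p θ.range :=
  hS.of_surjective _ θ.rangeRestrict_surjective

/-- The image of `E₁` is essential. -/
theorem essential (h : Config p F E₁ E₂ T) : G.IsEssential p (imageAlong θ E₁) := by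
  classical
  have hp' := hp.out
  have hS := h.pg
  have hd := h.step₁
  have hES := hd.le
  have hTE := h.T_le₁
  have := R.finite
  have := finite_le hES
  have := finite_mulAut_of_le (S := S) hES
  have hS' := R.pgroup hS
  have hd' := R.step_image hTE hd
  have := finite_le hd'.le
  have hweak : ∀ φ ∈ F.Hom E₁, φ.range = E₁ := fun φ hφ =>
    range_eq_of_invariant hS h.sat h.ess₁ hd h.auto₁ hφ
  have hconj : ∀ Q, G.IsConj (imageAlong θ E₁) Q → Q = imageAlong θ E₁ := by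
    rintro Q ⟨φ', hφ', rfl⟩
    obtain ⟨β, -, -, hv⟩ := R.lift hTE hES hweak hφ'
    have := finite_le (hom_range_le hφ')
    refine Subgroup.eq_of_le_of_card_ge ?_
      (Nat.card_congr (MonoidHom.ofInjective (G.injective_of_mem hφ')).toEquiv).le
    rintro _ ⟨⟨_, a, ha, rfl⟩, rfl⟩
    have h1 := hv ⟨(a : Ω), ha⟩
    rw [show (⟨θ a, _⟩ : imageAlong θ E₁) = ⟨θ ⟨(a : Ω), hES ha⟩, R.image_mem hES ⟨(a : Ω), ha⟩⟩
      from rfl, h1]
    exact R.image_mem hES _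
  have hcentric : G.IsCentric (imageAlong θ E₁) := by
    refine ⟨hd'.le, fun Q hQ => ?_⟩
    rw [hconj Q hQ]
    intro y hy
    obtain ⟨hyS, hyc⟩ := mem_centralizerIn.1 hy
    obtain ⟨g, rfl⟩ := hyS
    refine ⟨g, ?_, rfl⟩
    by_contra hgE
    obtain ⟨s, hs, x, hx, hsx⟩ := h.moves h.not_thin
    refine hsx ?_
    obtain ⟨e, he, i, rfl⟩ := hd.gen g.2 hgE hs
    have hgx : ∀ i : ℤ, (g : Ω) ^ i * x * ((g : Ω) ^ i)⁻¹ * x⁻¹ ∈ T := fun i => by
      have hc : Commute (θ g) (θ ⟨x, hES hx⟩) :=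
        (hyc _ (R.image_mem hES ⟨x, hx⟩)).symm
      have h1 := (R.ker (g ^ i * ⟨x, hES hx⟩ * (g ^ i)⁻¹ * ⟨x, hES hx⟩⁻¹)).1 (by
        rw [map_mul, map_mul, map_mul, map_inv, map_inv, map_zpow, (hc.zpow_left i).eq,
          mul_inv_cancel_right, mul_inv_cancel])
      simpa using h1
    rw [show e * (g : Ω) ^ i * x * (e * (g : Ω) ^ i)⁻¹ * x⁻¹ =
      (e * ((g : Ω) ^ i * x * ((g : Ω) ^ i)⁻¹ * x⁻¹) * e⁻¹) * (e * x * e⁻¹ * x⁻¹) by group]
    exact mul_mem (Subgroup.mem_sup_left (h.Tconj (hES he) (hgx i)))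
      (Subgroup.mem_sup_right (mem_phi.2 (PGroups.commutator_le_frattini' (hS.to_le hES)
        (Subgroup.commutator_mem_commutator (g₁ := (⟨e, he⟩ : E₁)) (g₂ := ⟨x, hx⟩) trivial trivial))))
  have hfn : G.IsFullyNormalized (imageAlong θ E₁) := ⟨hd'.le, fun Q hQ => by rw [hconj Q hQ]⟩
  refine ⟨hcentric, hfn, ⟨fun a ha g => ?_⟩, ?_⟩
  · obtain ⟨u, hu⟩ := (ha : (a : MulAut _) ∈ Inn (imageAlong θ E₁))
    exact ⟨(g : MulAut _) u, MulEquiv.ext fun x => by
      show (g : MulAut _) u * x * ((g : MulAut _) u)⁻¹ =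
        (g : MulAut _) ((a : MulAut _) ((g : MulAut _)⁻¹ x))
      rw [show (a : MulAut _) = MulAut.conj u from hu.symm, MulAut.conj_apply, map_mul, map_mul,
        map_inv, MulAut.apply_inv_self]⟩
  haveI hIn : ((Inn (imageAlong θ E₁)).subgroupOf (G.autGroup (imageAlong θ E₁))).Normal := by
    constructor
    intro a ha g
    obtain ⟨u, hu⟩ := (ha : (a : MulAut _) ∈ Inn (imageAlong θ E₁))
    exact ⟨(g : MulAut _) u, MulEquiv.ext fun x => by
      show (g : MulAut _) u * x * ((g : MulAut _) u)⁻¹ =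
        (g : MulAut _) ((a : MulAut _) ((g : MulAut _)⁻¹ x))
      rw [show (a : MulAut _) = MulAut.conj u from hu.symm, MulAut.conj_apply, map_mul, map_mul,
        map_inv, MulAut.apply_inv_self]⟩
  have hext : ∀ {α α' : MulAut (imageAlong θ E₁)}, (∀ x : E₁,
      α ⟨θ ⟨x, hES x.2⟩, R.image_mem hES x⟩ = α' ⟨θ ⟨x, hES x.2⟩, R.image_mem hES x⟩) → α = α' := by
    intro α α' he
    refine MulEquiv.ext fun y => ?_
    obtain ⟨_, a, ha, rfl⟩ := y
    exact he ⟨(a : Ω), ha⟩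
  choose ρ₀ hρ₀m hρ₀ using fun σ : F.autGroup E₁ => R.push hTE hES σ.2 (h.inv₁ _ σ.2)
  let ρ : F.autGroup E₁ →* G.autGroup (imageAlong θ E₁) :=
    MonoidHom.mk' (fun σ => ⟨ρ₀ σ, hρ₀m σ⟩) fun a b => Subtype.ext (hext fun x => Subtype.ext (by
      have e := Subtype.ext (hρ₀ b x) (a2 := ⟨θ ⟨(b : MulAut E₁) x, hES (Subtype.coe_prop _)⟩,
        R.image_mem hES ((b : MulAut E₁) x)⟩)
      show ((ρ₀ (a * b) _ : imageAlong θ E₁) : Ω') = ((ρ₀ a (ρ₀ b _) : imageAlong θ E₁) : Ω')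
      rw [hρ₀, e, hρ₀]
      rfl))
  have hρsurj : Function.Surjective ρ := fun α => by
    obtain ⟨β, hβ, -, hv⟩ := R.lift hTE hES hweak ((mem_autGroup_iff hd'.le).1 α.2)
    refine ⟨⟨β, hβ⟩, Subtype.ext (hext fun x => Subtype.ext ?_)⟩
    exact (hρ₀ ⟨β, hβ⟩ x).trans (hv x).symm
  let π := (QuotientGroup.mk' ((Inn (imageAlong θ E₁)).subgroupOf (G.autGroup (imageAlong θ E₁)))).comp ρ
  have hπsurj : Function.Surjective π := (QuotientGroup.mk'_surjective _).comp hρsurj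
  have hπe : ∀ e : S, (e : Ω) ∈ E₁ → π (toAut F hES hd.norm e) = 1 := fun e he => by
    refine (QuotientGroup.eq_one_iff _).2 ?_
    refine Subgroup.mem_subgroupOf.2 ⟨⟨θ e, R.image_mem hES ⟨(e : Ω), he⟩⟩, (hext fun x => ?_).symm⟩
    refine Subtype.ext ((hρ₀ _ x).trans ?_)
    rw [MulAut.conj_apply, Subgroup.coe_mul, Subgroup.coe_mul, Subgroup.coe_inv, ← map_inv, ← map_mul,
      ← map_mul]
    congr 1
  obtain ⟨Ty, hTy, hTy'⟩ := exists_sylow hS h.sat h.ess₁ hd.norm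
  obtain ⟨g₀, hg₀, hg₀D⟩ := h.symm.exists_x₁
  have hg₀E : g₀ ∉ E₁ := fun h1 => hg₀D ⟨hg₀, h1⟩
  obtain ⟨s, hs⟩ : ∃ s : S, s = ⟨g₀, h.step₂.le hg₀⟩ := ⟨_, rfl⟩
  have hsE : (s : Ω) ∉ E₁ := hs ▸ hg₀E
  obtain ⟨X, hX⟩ : ∃ X, X = π (toAut F hES hd.norm s) := ⟨_, rfl⟩
  let PT := Ty.mapSurjective hπsurj
  have hPT : (PT : Subgroup _) = Subgroup.zpowers X := by
    refine le_antisymm ?_ (Subgroup.zpowers_le.2 ⟨_, hTy' s, hX.symm⟩)
    rintro _ ⟨u, hu, rfl⟩
    obtain ⟨g, rfl⟩ := hTy u hu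
    obtain ⟨e, he, i, hgi⟩ := hd.gen s.2 hsE g.2
    rw [show g = ⟨e, hES he⟩ * s ^ i from Subtype.ext (by simpa using hgi), map_mul, map_mul,
      hπe ⟨e, hES he⟩ he, one_mul, map_zpow, map_zpow, ← hX]
    exact Subgroup.zpow_mem _ (Subgroup.mem_zpowers X) i
  have hXp : X ^ p = 1 := by
    rw [hX, ← map_pow, ← map_pow]
    exact hπe _ (by rw [SubgroupClass.coe_pow]; exact hd.pow_mem s.2)
  -- the Sylow subgroup is not normal
  obtain ⟨σ, hσ⟩ := h.exists_conj_notMem hsE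
  have hnot : π (σ * toAut F hES hd.norm s * σ⁻¹) ∉ Subgroup.zpowers X := by
    intro hmem
    obtain ⟨i, hi⟩ := Subgroup.mem_zpowers_iff.1 hmem
    rw [hX, ← map_zpow] at hi
    obtain ⟨v, hv⟩ := (Subgroup.mem_subgroupOf.1 (QuotientGroup.eq.1 hi.symm) :
      ((((ρ (σ * toAut F hES hd.norm s * σ⁻¹))⁻¹ * ρ (toAut F hES hd.norm s ^ i) :
        G.autGroup (imageAlong θ E₁))) : MulAut (imageAlong θ E₁)) ∈ Inn (imageAlong θ E₁))
    obtain ⟨_, a, ha, rfl⟩ := v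
    -- conjugation by an element of `E₁ s^i`
    obtain ⟨b, hb⟩ : ∃ b : E₁, (((σ * toAut F hES hd.norm s * σ⁻¹ : F.autGroup E₁) : MulAut E₁)) ⟨(a : Ω), ha⟩
        = b := ⟨_, rfl⟩
    obtain ⟨x, hx⟩ := hσ i ((b : Ω)⁻¹) (inv_mem b.2)
    refine hx ?_
    have h1 : (ρ (σ * toAut F hES hd.norm s * σ⁻¹) : MulAut (imageAlong θ E₁))
        ((MulAut.conj (⟨θ a, R.image_mem hES ⟨(a : Ω), ha⟩⟩ : imageAlong θ E₁))
          ⟨θ ⟨x, hES x.2⟩, R.image_mem hES x⟩) =
        (ρ (toAut F hES hd.norm s ^ i) : MulAut (imageAlong θ E₁))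
          ⟨θ ⟨x, hES x.2⟩, R.image_mem hES x⟩ := by
      rw [show MulAut.conj (⟨θ a, R.image_mem hES ⟨(a : Ω), ha⟩⟩ : imageAlong θ E₁) = _ from hv,
        ← MulAut.mul_apply, ← Subgroup.coe_mul, mul_inv_cancel_left]
    rw [MulAut.conj_apply, map_mul, map_mul, map_inv] at h1
    have h2 := congrArg Subtype.val h1
    rw [Subgroup.coe_mul, Subgroup.coe_mul, Subgroup.coe_inv] at h2
    have ea := hρ₀ (σ * toAut F hES hd.norm s * σ⁻¹) ⟨(a : Ω), ha⟩
    have ex := hρ₀ (σ * toAut F hES hd.norm s * σ⁻¹) x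
    have ez := hρ₀ (toAut F hES hd.norm s ^ i) x
    change ((ρ₀ _ _ : imageAlong θ E₁) : Ω') * _ * _ = ((ρ₀ _ _ : imageAlong θ E₁) : Ω') at h2
    erw [ea, ex, ez, ← map_inv, ← map_mul, ← map_mul, ← mul_inv_eq_one, ← map_inv, ← map_mul,
      R.ker] at h2
    simp only [hb] at h2
    have hz : (((toAut F hES hd.norm s ^ i : F.autGroup E₁) : MulAut E₁) x : E₁) =
        (⟨(s : Ω) ^ i * x * ((s : Ω) ^ i)⁻¹, conj_mem_E hd.norm (zpow_mem s.2 i) x.2⟩ : E₁) := by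
      rw [← map_zpow]; exact Subtype.ext (by rw [toAut_apply, SubgroupClass.coe_zpow])
    rw [hz] at h2
    simp only [Subgroup.coe_mul, Subgroup.coe_inv] at h2
    have h3 := h.Tconj (inv_mem (hES b.2)) h2
    simp only [mul_inv_rev, inv_inv, mul_assoc, inv_mul_cancel_left, inv_mul_cancel, mul_one,
      mul_inv_cancel_left] at h3 ⊢
    exact h3
  have hne1 : X ≠ 1 := fun h1 => hnot (by
    rw [map_mul, map_mul, ← hX, h1, mul_one, map_inv, mul_inv_cancel]; exact one_mem _)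
  have hXo : orderOf X = p := orderOf_eq_prime hXp hne1
  refine ⟨Subgroup.normalizer (SetLike.coe PT.toSubgroup), ?_, fun hY => hnot ?_, PT, ?_⟩
  · exact hXo ▸ orderOf_dvd_natCard X
  · have h1 := hY.ge (Subgroup.mem_top (π σ))
    rw [← hPT, map_mul, map_mul, map_inv, ← hX]
    exact (Subgroup.mem_normalizer_iff.1 h1 X).1 (hPT.ge (Subgroup.mem_zpowers X))
  · refine iSup_le fun Q => ?_
    obtain ⟨Q, hQP, hQ⟩ := Q
    have := finite_le (hQP.trans hPT.le)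
    have hQe : Q = (PT : Subgroup _) := by
      rcases (Nat.dvd_prime hp').1 (hXo ▸ Nat.card_zpowers X ▸
        Subgroup.card_dvd_of_le (hQP.trans hPT.le) : Nat.card Q ∣ p) with e | e
      · refine absurd (fun A _ _ => ?_) hQ
        rw [pow_zero]
        exact (Subgroup.card_le_card_group A).trans e.le
      · refine Subgroup.eq_of_le_of_card_ge (H := Q) hQP ?_
        rw [e, hPT, Nat.card_zpowers, hXo]
    show Subgroup.normalizer (SetLike.coe Q) ≤ _
    rw [hQe]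

end Reduction

set_option maxHeartbeats 400000 in
/-- Beyond order `p³` the quotient is the Sylow subgroup of `Sp₄(p)`. -/
theorem Config.quotient_shape (h : Config p F E₁ E₂ T) (hlt : p ^ 3 * Nat.card T < Nat.card S) :
    (Nat.card E₂ = p ^ 3 * Nat.card T ∧ (∀ a ∈ E₂, a ^ p ∈ T) ∧
        (∀ a ∈ E₂, ∀ b ∈ E₂, a * b * a⁻¹ * b⁻¹ ∈ T) ∧
        ∃ a ∈ E₁, ∃ b ∈ E₁, a * b * a⁻¹ * b⁻¹ ∉ T) ∨
      (Nat.card E₁ = p ^ 3 * Nat.card T ∧ (∀ a ∈ E₁, a ^ p ∈ T) ∧
        (∀ a ∈ E₁, ∀ b ∈ E₁, a * b * a⁻¹ * b⁻¹ ∈ T) ∧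
        ∃ a ∈ E₂, ∃ b ∈ E₂, a * b * a⁻¹ * b⁻¹ ∉ T) := by
  obtain ⟨N, hNs, hNc, hNsub, hNmem⟩ := h.exists_normalizer
  haveI hTn : (T.subgroupOf S).Normal :=
    (Subgroup.normal_subgroupOf_iff_le_normalizer h.TS).2 (h.invS.normS h.TS)
  obtain ⟨θ, hθ⟩ : ∃ θ : S →* S ⧸ T.subgroupOf S, θ = QuotientGroup.mk' _ := ⟨_, rfl⟩
  have hker : ∀ s : S, θ s = 1 ↔ (s : Ω) ∈ T := fun s => hθ ▸ QuotientGroup.eq_one_iff s
  obtain ⟨G, hfac⟩ : ∃ G : FusionSystem θ.range, N.IsFactorSystem T θ G :=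
    ⟨factorSystem N hNc θ hker (rfl : θ.range = θ.range), h.TS, hker, rfl, fun _ _ => Iff.rfl⟩
  have R : Reduction p F T θ N G :=
    ⟨hker, factor_saturated h.pg hNs hNc hfac, hfac, hNc, hNsub, hNmem⟩
  have := R.finite
  have := finite_le h.TS
  have hS' := R.pgroup h.pg
  have hsec' : SecLE p θ.range := (h.sec.quotient (T.subgroupOf S)).of_injective θ.range.subtype
    Subtype.coe_injective
  have hlt' : p ^ 3 < Nat.card θ.range := by
    have hc := R.card_image h.TS le_rfl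
    rw [R.image_top] at hc
    rw [hc] at hlt
    exact Nat.lt_of_mul_lt_mul_right hlt
  have hw₁ : ∀ φ ∈ F.Hom E₁, φ.range = E₁ := fun φ hφ =>
    range_eq_of_invariant h.pg h.sat h.ess₁ h.step₁ h.auto₁ hφ
  have hw₂ : ∀ φ ∈ F.Hom E₂, φ.range = E₂ := fun φ hφ =>
    range_eq_of_invariant h.pg h.sat h.ess₂ h.step₂ h.auto₂ hφ
  have hd₁ := R.step_image h.T_le₁ h.step₁
  have hd₂ := R.step_image h.T_le₂ h.step₂
  let ℰ : Subgroup (S ⧸ T.subgroupOf S) → Prop := fun P => P = imageAlong θ E₁ ∨ P = imageAlong θ E₂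
  have hfam : NormalEssential.Family p G ℰ := by
    refine ⟨?_, fun K hK hA hP => ?_⟩
    · rintro P (rfl | rfl)
      · exact R.essential h
      · exact R.essential h.symm
    have hK1 := hP _ (Or.inl rfl)
    have hK2 := hP _ (Or.inr rfl)
    have hA' : Inv G (imageAlong θ S) K := by rw [R.image_top]; exact hA
    have hpre : preimageAlong θ K ≤ T := h.max _
      (by
        rintro _ ⟨a, ha, rfl⟩
        exact ⟨R.mem_image h.T_le₁ (hK1.1 ha), R.mem_image h.T_le₂ (hK2.1 ha)⟩)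
      (R.inv_preimage h.TS le_rfl h.invS (by rw [R.image_top]; exact hK) hA')
      (R.inv_preimage h.T_le₁ h.step₁.le h.inv₁ hK1.1 hK1.2)
      (R.inv_preimage h.T_le₂ h.step₂.le h.inv₂ hK2.1 hK2.2)
    rw [Subgroup.eq_bot_iff_forall]
    intro y hy
    obtain ⟨a, rfl⟩ := hK hy
    exact (hker a).2 (hpre ⟨a, hy, rfl⟩)
  have hout : ∀ {A B : Subgroup Ω}, Config p F A B T → ℰ (imageAlong θ A) → ∀ z₀,
      z₀ ∈ omegaCenter p (imageAlong θ B) → z₀ ∉ imageAlong θ A →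
      (Nat.card B = p ^ 3 * Nat.card T ∧ (∀ a ∈ B, a ^ p ∈ T) ∧
        (∀ a ∈ B, ∀ b ∈ B, a * b * a⁻¹ * b⁻¹ ∈ T) ∧
        ∃ a ∈ A, ∃ b ∈ A, a * b * a⁻¹ * b⁻¹ ∉ T) := by
    intro A B h' hmem z₀ hz hzA
    obtain ⟨-, hel, hc₂, -, hnc⟩ := shape_of_center hS' h.odd hsec' hlt' R.sat hfam
      (R.step_image h'.T_le₁ h'.step₁) (R.step_image h'.T_le₂ h'.step₂) hmem hz hzA
    refine ⟨by rw [R.card_image h'.T_le₂ h'.step₂.le, hc₂], fun a ha => ?_, fun a ha b hb => ?_, ?_⟩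
    · refine (hker ((⟨a, h'.step₂.le ha⟩ : S) ^ p)).1 ?_
      rw [map_pow]
      exact hel.2 _ (R.image_mem h'.step₂.le ⟨a, ha⟩)
    · have hab := congrArg Subtype.val (hel.1.is_comm.comm
        (⟨_, R.image_mem h'.step₂.le ⟨a, ha⟩⟩ : imageAlong θ B) ⟨_, R.image_mem h'.step₂.le ⟨b, hb⟩⟩)
      have h1 := (hker ((⟨a, h'.step₂.le ha⟩ : S) * ⟨b, h'.step₂.le hb⟩ *
        (⟨a, h'.step₂.le ha⟩ : S)⁻¹ * (⟨b, h'.step₂.le hb⟩ : S)⁻¹)).1 (by
        rw [map_mul, map_mul, map_mul, map_inv, map_inv]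
        simp only [Subgroup.coe_mul] at hab
        rw [hab, mul_inv_cancel_right, mul_inv_cancel])
      exact h1
    · by_contra hc
      push Not at hc
      refine hnc ⟨⟨fun x y => ?_⟩⟩
      obtain ⟨_, a, ha, rfl⟩ := x
      obtain ⟨_, b, hb, rfl⟩ := y
      refine Subtype.ext ?_
      have h1 : θ (a * b * a⁻¹ * b⁻¹) = 1 := (hker _).2 (hc _ ha _ hb)
      rw [map_mul, map_mul, map_mul, map_inv, map_inv, mul_inv_eq_one, mul_inv_eq_iff_eq_mul] at h1
      exact h1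
  by_contra hne
  push Not at hne
  have himg : ∀ {Q : Subgroup Ω}, T ≤ Q → Q ≤ S → Inv F S Q → (∀ φ ∈ F.Hom S, φ.range = S) →
      ∀ φ ∈ G.autGroup θ.range, ∀ x : θ.range, (x : S ⧸ T.subgroupOf S) ∈ omegaCenter p (imageAlong θ Q) →
      ((φ x : θ.range) : S ⧸ T.subgroupOf S) ∈ imageAlong θ Q ∧
        ∀ a ∈ omegaCenter p (imageAlong θ Q),
          a * ((φ x : θ.range) : S ⧸ T.subgroupOf S) = ((φ x : θ.range) : S ⧸ T.subgroupOf S) * a := by
    intro Q hTQ hQS hQA hw φ hφ x hx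
    have hinv : Inv G θ.range (imageAlong θ Q) := by
      have := R.inv_image h.TS le_rfl hw hQS hQA
      rwa [R.image_top] at this
    have h1 := hinv φ hφ x hx.1
    exact ⟨h1, fun a ha => ha.2.2 _ h1⟩
  refine false_of_inside hS' h.odd hsec' hlt' R.sat (ℰ := ℰ)
    { toFamily := hfam
      step := by
        rintro P (rfl | rfl)
        · exact hd₁
        · exact hd₂
      le := ?_
      img := by
        rintro Q (rfl | rfl)
        · exact himg h.T_le₁ h.step₁.le h.auto₁ fun φ hφ => range_eq_top hφ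
        · exact himg h.T_le₂ h.step₂.le h.auto₂ fun φ hφ => range_eq_top hφ }
  rintro P (rfl | rfl) Q (rfl | rfl)
  · exact omegaCenter_le
  · intro z hz
    by_contra hzP
    obtain ⟨a, b, c, d⟩ := hout h (Or.inl rfl) z hz hzP
    obtain ⟨u, hu, v, hv, huv⟩ := d
    exact huv (hne.1 a b c u hu v hv)
  · intro z hz
    by_contra hzP
    obtain ⟨a, b, c, d⟩ := hout h.symm (Or.inr rfl) z hz hzP
    obtain ⟨u, hu, v, hv, huv⟩ := d
    exact huv (hne.2 a b c u hu v hv)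
  · exact omegaCenter_le

end CfsgLib.Fusion.TwoEssential
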