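import Cfsg.Agent.Lib.Fusion.TwoEssential.Thin
import Cfsg.Agent.Lib.Fusion.Factor
import Cfsg.Agent.Lib.Fusion.KNormalizer

/-!
# The quotient of the normalizer system of `T`
-/

set_option autoImplicit false

namespace CfsgLib.Fusion.TwoEssential

open Cfsg Cfsg.FusionSystem CfsgLib CfsgLib.Fusion CfsgLib.Fusion.RankThree CfsgLib.Fusion.NormalEssential

variable {p : ℕ} [hp : Fact p.Prime] {Ω : Type*} [Group Ω] {S : Subgroup Ω} [Finite S]
  {F : FusionSystem S} {E₁ E₂ E T P : Subgroup Ω} {Ω' : Type*} [Group Ω']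

/-- A normal essential subgroup invariant under `Aut_F(S)` is weakly closed. -/
theorem range_eq_of_invariant (hS : IsPGroup p S) (hF : F.IsSaturated p) (hE : F.IsEssential p E)
    (hd : Step p S E) (hA : Inv F S E) {φ : E →* Ω} (hφ : φ ∈ F.Hom E) : φ.range = E := by
  have hp' := hp.out
  obtain ⟨Q, hQ⟩ : ∃ Q, φ.range = Q := ⟨_, rfl⟩
  have hconj : F.IsConj Q E := isConj_symm ⟨φ, hφ, hQ⟩
  have hQS : Q ≤ S := isConj_le_left hconj
  have := finite_le hQS
  have := finite_le hd.le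
  have hcard : Nat.card Q = Nat.card E := isConj_card hconj
  have hQne : Q ≠ S := by
    intro h
    have h2 : 1 * Nat.card E < p * Nat.card E := (Nat.mul_lt_mul_right Nat.card_pos).2 hp'.one_lt
    rw [← hd.card, ← h, hcard, one_mul] at h2
    exact lt_irrefl _ h2
  obtain ⟨ψ, hψ, -, himg⟩ := exists_normalizer_map hS (IsSaturated.fullyAutomized hS hF hE.2.1)
    (IsSaturated.receptive hS hF (IsSaturated.fullyCentralized hS hF hE.2.1)) hconj
  have hlt := lt_normalizerIn hS (lt_of_le_of_ne hQS hQne)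
  have hNS : normalizerIn S Q ≤ S := normalizerIn_le Q
  have := finite_le hNS
  have hN : S ≤ normalizerIn S Q := by
    refine (Subgroup.eq_of_le_of_card_ge hNS ?_).ge
    obtain ⟨a, ha⟩ := (hS.to_le hNS).exists_card_eq
    obtain ⟨b, hb⟩ := (hS.to_le hd.le).exists_card_eq
    have h1 : Nat.card Q < Nat.card (normalizerIn S Q) :=
      lt_of_le_of_ne (Subgroup.card_le_of_le hlt.le) fun e =>
        hlt.ne (Subgroup.eq_of_le_of_card_ge hlt.le e.ge)
    rw [hcard, ha, hb] at h1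
    rw [hd.card, ha, hb, ← pow_succ']
    exact Nat.pow_le_pow_right hp'.pos ((Nat.pow_lt_pow_iff_right hp'.one_lt).1 h1)
  have hψ' : ψ.comp (Subgroup.inclusion hN) ∈ F.Hom S := restrict_mem hψ hN
  obtain ⟨δ, hδ, hδv⟩ := exists_iso hψ' (hom_range_eq_self hψ')
  refine Subgroup.eq_of_le_of_card_ge (fun x hx => ?_) hcard.symm.le |> hQ.trans
  have hxQ : (ψ ⟨x, hN (hQS hx)⟩) ∈ E := himg.le ⟨⟨x, hN (hQS hx)⟩, hx, rfl⟩
  have h := hA _ (inv_mem ((mem_autGroup_iff_isoIn le_rfl).2 hδ)) (δ ⟨x, hQS hx⟩)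
    (by rw [hδv]; exact hxQ)
  rwa [MulAut.inv_apply_self] at h

/-- Invariance of the image. -/
theorem range_eq_top {φ : S →* Ω} (hφ : φ ∈ F.Hom S) : φ.range = S := hom_range_eq_self hφ

/-- The normalizer system of `T` as a system on `S`. -/
theorem Config.exists_normalizer (h : Config p F E₁ E₂ T) :
    ∃ N : FusionSystem S, N.IsSaturated p ∧ N.StronglyClosed T ∧
      (∀ (P : Subgroup Ω) (φ : P →* Ω), φ ∈ N.Hom P → φ ∈ F.Hom P ∧
        ∀ x : P, (x : Ω) ∈ T → φ x ∈ T) ∧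
      ∀ P : Subgroup Ω, T ≤ P → P ≤ S → ∀ α ∈ F.autGroup P,
        (∀ x : P, (x : Ω) ∈ T → (((α : MulAut P) x : P) : Ω) ∈ T) →
        P.subtype.comp (α : MulAut P).toMonoidHom ∈ N.Hom P := by
  have hN : normalizerIn S T = S := inf_of_le_left (h.invS.normS h.TS)
  have hfn : F.IsFullyNormalized T := ⟨h.TS, fun Q _ => by
    rw [hN]; exact Subgroup.card_le_of_le (normalizerIn_le Q)⟩
  have htr : ∀ {S' : Subgroup Ω} (e : S' = S) (N₀ : FusionSystem S'), N₀.IsSaturated p →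
      (copySystem e N₀).IsSaturated p := by
    intro S' e N₀ hs
    subst e
    exact hs
  refine ⟨copySystem hN (normSystem F T h.TS), htr hN _ (normalizerSystem_saturated h.pg h.sat hfn
    (normSystem_isNormalizerSystem F T h.TS)), ⟨h.TS, fun R hR φ hφ x => ?_⟩, fun P φ hφ => ?_,
    fun P hTP hPS α hα hαT => ?_⟩
  · obtain ⟨-, -, -, a, -, haP, haQ⟩ := (hφ : φ ∈ F.normalizerHom T R)
    rw [← haP]
    exact haQ.le ⟨_, hR x.2, rfl⟩
  · obtain ⟨hφF, -, -, a, -, haP, haQ⟩ := (hφ : φ ∈ F.normalizerHom T P)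
    refine ⟨hφF, fun x hx => ?_⟩
    rw [← haP]
    exact haQ.le ⟨_, hx, rfl⟩
  · show P.subtype.comp (α : MulAut P).toMonoidHom ∈ F.normalizerHom T P
    have hsup : P ⊔ T ≤ P := sup_le le_rfl hTP
    refine ⟨(mem_autGroup_iff hPS).1 hα, hPS.trans hN.ge, fun x => hN.ge (hPS (α x).2),
      (P.subtype.comp (α : MulAut P).toMonoidHom).comp (Subgroup.inclusion hsup),
      restrict_mem ((mem_autGroup_iff hPS).1 hα) _, fun x => rfl, ?_⟩
    have hmap := map_subgroupOf_eq (Q := T) hPS (α := (α : MulAut P)) (by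
      rintro _ ⟨x, hx, rfl⟩; exact hαT x hx)
    ext y
    constructor
    · rintro ⟨x, hx, rfl⟩
      exact hαT (Subgroup.inclusion hsup x) hx
    · intro hy
      obtain ⟨x, hx, hxy⟩ := hmap.ge (show (⟨y, hTP hy⟩ : P) ∈ T.subgroupOf P from hy)
      exact ⟨⟨x, le_sup_left (b := T) x.2⟩, hx, congrArg Subtype.val hxy⟩

/-- A surjection killing exactly `T`, and the factor of the normalizer system along it. -/
structure Reduction (p : ℕ) (F : FusionSystem S) (T : Subgroup Ω) (θ : S →* Ω') (N : FusionSystem S)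
    (G : FusionSystem θ.range) : Prop where
  ker : ∀ s : S, θ s = 1 ↔ (s : Ω) ∈ T
  sat : G.IsSaturated p
  fac : N.IsFactorSystem T θ G
  closed : N.StronglyClosed T
  sub : ∀ (P : Subgroup Ω) (φ : P →* Ω), φ ∈ N.Hom P → φ ∈ F.Hom P ∧
    ∀ x : P, (x : Ω) ∈ T → φ x ∈ T
  mem : ∀ P : Subgroup Ω, T ≤ P → P ≤ S → ∀ α ∈ F.autGroup P,
    (∀ x : P, (x : Ω) ∈ T → (((α : MulAut P) x : P) : Ω) ∈ T) →
    P.subtype.comp (α : MulAut P).toMonoidHom ∈ N.Hom P

namespace Reduction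

variable {θ : S →* Ω'} {N : FusionSystem S} {G : FusionSystem θ.range}
  (R : Reduction p F T θ N G)
include R

omit hp in
theorem image_mem (hPS : P ≤ S) (x : P) : θ ⟨x, hPS x.2⟩ ∈ imageAlong θ P :=
  ⟨⟨x, hPS x.2⟩, x.2, rfl⟩

omit hp in
theorem mem_image (hTP : T ≤ P) {s : S} (hs : θ s ∈ imageAlong θ P) : (s : Ω) ∈ P := by
  obtain ⟨a, ha, hae⟩ := hs
  have h : ((a⁻¹ * s : S) : Ω) ∈ T := by rw [← R.ker, map_mul, map_inv, hae, inv_mul_cancel]
  have := mul_mem (show (a : Ω) ∈ P from ha) (hTP h)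
  simpa using this

omit hp in
theorem preimage_image (hTP : T ≤ P) (hPS : P ≤ S) : preimageAlong θ (imageAlong θ P) = P := by
  rw [preimageAlong_imageAlong (hTP.trans hPS) R.ker hPS, sup_of_le_left hTP]

omit hp in
theorem card_image (hTP : T ≤ P) (hPS : P ≤ S) :
    Nat.card P = Nat.card (imageAlong θ P) * Nat.card T := by
  let f := θ.comp (Subgroup.inclusion hPS)
  have hr : f.range = imageAlong θ P := by
    rw [MonoidHom.range_comp]
    congr 1
    exact Subgroup.inclusion_range hPS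
  have hk : f.ker = T.subgroupOf P := by
    ext x
    rw [MonoidHom.mem_ker, Subgroup.mem_subgroupOf]
    exact R.ker _
  rw [f.ker.card_eq_card_quotient_mul_card_subgroup,
    Nat.card_congr (QuotientGroup.quotientKerEquivRange f).toEquiv, hr, hk,
    Nat.card_congr (Subgroup.subgroupOfEquivOfLe hTP).toEquiv]

omit hp in
theorem image_le (P : Subgroup Ω) : imageAlong θ P ≤ θ.range := Subgroup.map_le_range _ _

omit hp in
theorem image_top : imageAlong θ S = θ.range := by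
  rw [imageAlong, Subgroup.subgroupOf_self, MonoidHom.range_eq_map]

omit hp in
theorem finite : Finite θ.range := Finite.of_surjective _ θ.rangeRestrict_surjective

omit hp in
/-- Images of automorphisms preserving `T`. -/
theorem push (hTP : T ≤ P) (hPS : P ≤ S) {β : MulAut P} (hβ : β ∈ F.autGroup P)
    (hβT : ∀ x : P, (x : Ω) ∈ T → ((β x : P) : Ω) ∈ T) :
    ∃ α ∈ G.autGroup (imageAlong θ P), ∀ x : P,
      ((α ⟨θ ⟨x, hPS x.2⟩, R.image_mem hPS x⟩ : imageAlong θ P) : Ω') = θ ⟨β x, hPS (β x).2⟩ := by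
  have := R.finite
  obtain ⟨-, -, -, hiff⟩ := R.fac
  have hpre := R.preimage_image hTP hPS
  have hle : preimageAlong θ (imageAlong θ P) ≤ P := hpre.le
  obtain ⟨φ, hφ, hφv⟩ : ∃ φ ∈ N.Hom (preimageAlong θ (imageAlong θ P)), ∀ x,
      φ x = ((β (Subgroup.inclusion hle x) : P) : Ω) :=
    ⟨(P.subtype.comp β.toMonoidHom).comp (Subgroup.inclusion hle),
      restrict_mem (R.mem P hTP hPS β hβ hβT) hle, fun x => rfl⟩
  obtain ⟨φ', hφ'⟩ := exists_induced R.closed R.ker (R.image_le P) hφ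
  have hmem : φ' ∈ G.Hom (imageAlong θ P) := (hiff _ _).2 ⟨R.image_le P, φ, hφ, hφ'⟩
  have hval : ∀ x : P, φ' ⟨θ ⟨x, hPS x.2⟩, R.image_mem hPS x⟩ = θ ⟨β x, hPS (β x).2⟩ := fun x => by
    have h := inducedAlong_apply hφ' ⟨x, hpre.ge x.2⟩ (hPS x.2) (by rw [hφv]; exact hPS (β _).2)
      (R.image_mem hPS x)
    rw [h]
    congr 1
    exact Subtype.ext (hφv _)
  have hrange : φ'.range = imageAlong θ P := by
    ext y
    constructor
    · rintro ⟨⟨z, hz⟩, rfl⟩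
      obtain ⟨a, ha, rfl⟩ := hz
      have := hval ⟨a, ha⟩
      rw [show (⟨θ a, _⟩ : imageAlong θ P) = ⟨θ ⟨(⟨(a : Ω), ha⟩ : P), hPS ha⟩, R.image_mem hPS _⟩
        from rfl, this]
      exact R.image_mem hPS _
    · rintro ⟨a, ha, rfl⟩
      obtain ⟨b, hb⟩ := β.surjective ⟨(a : Ω), ha⟩
      refine ⟨⟨θ ⟨b, hPS b.2⟩, R.image_mem hPS b⟩, ?_⟩
      rw [hval]
      congr 1
      exact Subtype.ext (congrArg (fun w : P => (w : Ω)) hb)
  obtain ⟨α, hα, hαv⟩ := exists_iso hmem hrange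
  exact ⟨α, (mem_autGroup_iff_isoIn (R.image_le P)).2 hα, fun x => (hαv _).trans (hval x)⟩

omit hp in
/-- Maps on the image come from automorphisms when the subgroup is weakly closed. -/
theorem lift (hTP : T ≤ P) (hPS : P ≤ S) (hweak : ∀ φ ∈ F.Hom P, φ.range = P)
    {φ' : imageAlong θ P →* Ω'} (hφ' : φ' ∈ G.Hom (imageAlong θ P)) :
    ∃ β ∈ F.autGroup P, (∀ x : P, (x : Ω) ∈ T → (((β : MulAut P) x : P) : Ω) ∈ T) ∧
      ∀ x : P, φ' ⟨θ ⟨x, hPS x.2⟩, R.image_mem hPS x⟩ = θ ⟨β x, hPS (β x).2⟩ := by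
  obtain ⟨-, -, -, hiff⟩ := R.fac
  obtain ⟨-, φ, hφ, hind⟩ := (hiff _ _).1 hφ'
  have hpre := R.preimage_image hTP hPS
  obtain ⟨hφF, hφT⟩ := R.sub _ φ hφ
  have hr : (φ.comp (Subgroup.inclusion hpre.ge)).range = P :=
    hweak _ (restrict_mem hφF hpre.ge)
  obtain ⟨β, hβ, hβv⟩ := exists_iso (restrict_mem hφF hpre.ge) hr
  refine ⟨β, (mem_autGroup_iff_isoIn hPS).2 hβ, fun x hx => ?_, fun x => ?_⟩
  · rw [hβv]; exact hφT _ hx
  · have h := inducedAlong_apply hind ⟨x, hpre.ge x.2⟩ (hPS x.2)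
      (hPS (hr.le ⟨x, rfl⟩)) (R.image_mem hPS x)
    rw [h]
    congr 1
    exact Subtype.ext (hβv x).symm

omit hp in
/-- The image of an invariant subgroup is invariant. -/
theorem inv_image {K : Subgroup Ω} (hTP : T ≤ P) (hPS : P ≤ S) (hweak : ∀ φ ∈ F.Hom P, φ.range = P)
    (hKP : K ≤ P) (hK : Inv F P K) : Inv G (imageAlong θ P) (imageAlong θ K) := by
  intro α hα y hy
  obtain ⟨k, hk, hky⟩ := hy
  obtain ⟨β, hβ, -, hv⟩ := R.lift hTP hPS hweak ((mem_autGroup_iff (R.image_le P)).1 hα)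
  have hy' : y = ⟨θ ⟨(k : Ω), hPS (hKP hk)⟩, R.image_mem hPS ⟨(k : Ω), hKP hk⟩⟩ := Subtype.ext hky.symm
  have := hv ⟨(k : Ω), hKP hk⟩
  rw [hy', show (((α : MulAut _) _ : imageAlong θ P) : Ω') = θ ⟨β ⟨(k : Ω), hKP hk⟩, hPS (β _).2⟩
    from this]
  exact ⟨_, hK β hβ ⟨(k : Ω), hKP hk⟩ hk, rfl⟩

omit hp in
/-- The preimage of an invariant subgroup is invariant. -/
theorem inv_preimage {K' : Subgroup Ω'} (hTP : T ≤ P) (hPS : P ≤ S) (hT : Inv F P T)
    (hKP : K' ≤ imageAlong θ P) (hK : Inv G (imageAlong θ P) K') : Inv F P (preimageAlong θ K') := by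
  intro β hβ x hx
  obtain ⟨α, hα, hv⟩ := R.push hTP hPS hβ (hT β hβ)
  have hmem : θ ⟨x, hPS x.2⟩ ∈ K' := by
    obtain ⟨a, ha, hax⟩ := hx
    rw [show (⟨x, hPS x.2⟩ : S) = a from Subtype.ext hax.symm]
    exact ha
  have h := hK α hα ⟨θ ⟨x, hPS x.2⟩, R.image_mem hPS x⟩ hmem
  rw [hv] at h
  exact ⟨⟨_, hPS (Subtype.coe_prop _)⟩, h, rfl⟩

end Reduction

end CfsgLib.Fusion.TwoEssential
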