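import Cfsg.Agent.Lib.Fusion.TwoEssential.Torus
import Cfsg.Agent.Lib.Fusion.TwoEssential.Chain

/-!
# Two invariant essential subgroups and their largest common invariant subgroup
-/

set_option autoImplicit false

namespace CfsgLib.Fusion.TwoEssential

open Cfsg Cfsg.FusionSystem CfsgLib CfsgLib.Fusion CfsgLib.Fusion.RankThree CfsgLib.Fusion.NormalEssential

variable {p : ℕ} [hp : Fact p.Prime] {Ω : Type*} [Group Ω] {S : Subgroup Ω} [Finite S]
  {F : FusionSystem S} {E E₁ E₂ T P K : Subgroup Ω}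

variable (p) in
/-- Two essential subgroups invariant under `Aut_F(S)` and the largest subgroup of their intersection
invariant in the three automizers. -/
structure Config (F : FusionSystem S) (E₁ E₂ T : Subgroup Ω) : Prop where
  pg : IsPGroup p S
  odd : p ≠ 2
  sat : F.IsSaturated p
  sec : SecLE p S
  ess₁ : F.IsEssential p E₁
  ess₂ : F.IsEssential p E₂
  step₁ : Step p S E₁
  step₂ : Step p S E₂
  ne : E₁ ≠ E₂
  auto₁ : Inv F S E₁
  auto₂ : Inv F S E₂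
  le : T ≤ E₁ ⊓ E₂
  invS : Inv F S T
  inv₁ : Inv F E₁ T
  inv₂ : Inv F E₂ T
  max : ∀ K : Subgroup Ω, K ≤ E₁ ⊓ E₂ → Inv F S K → Inv F E₁ K → Inv F E₂ K → K ≤ T

omit hp in
theorem Inv.phi (hK : Inv F P K) (hKP : K ≤ P) (hPS : P ≤ S) : Inv F P (phi K) := by
  intro α hα x hx
  have := finite_le (hKP.trans hPS)
  obtain ⟨y, hy, hyx⟩ := hx
  let f : K →* K := ((P.subtype.comp (α : MulAut P).toMonoidHom).comp
    (Subgroup.inclusion hKP)).codRestrict K fun z => hK α hα _ z.2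
  let β : MulAut K := MulEquiv.ofBijective f (Finite.injective_iff_bijective.1 fun a b h =>
    Subgroup.inclusion_injective hKP ((α : MulAut P).injective (Subtype.ext
      (congrArg (fun w : K => (w : Ω)) h))))
  refine ⟨β y, Subgroup.characteristic_iff_map_le.1 inferInstance β ⟨y, hy, rfl⟩, ?_⟩
  obtain rfl : x = Subgroup.inclusion hKP y := Subtype.ext hyx.symm
  rfl

omit hp [Finite S] in
theorem inv_self (P : Subgroup Ω) : Inv F P P := fun _ _ _ _ => Subtype.coe_prop _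

omit hp [Finite S] in
/-- Invariance under `Aut_F(S)` makes normal. -/
theorem Inv.conjS (hK : Inv F S K) (hKS : K ≤ S) {s : Ω} (hs : s ∈ S) {x : Ω} (hx : x ∈ K) :
    s * x * s⁻¹ ∈ K :=
  hK.conj le_rfl Subgroup.le_normalizer hKS hs hx

omit hp [Finite S] in
theorem Inv.normS (hK : Inv F S K) (hKS : K ≤ S) : S ≤ Subgroup.normalizer (K : Set Ω) :=
  le_normalizer_of_conj fun _ hs _ hx => hK.conjS hKS hs hx

/-- The Frattini subgroup of a normal subgroup of index `p` lies in every such subgroup. -/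
theorem phi_le_of_step (hS : IsPGroup p S) (hd : Step p S E) (hd' : Step p S P) : phi E ≤ P := by
  have := finite_le hd.le
  haveI : (P.subgroupOf E).Normal := ⟨fun x hx g => conj_mem_E hd'.norm (hd.le g.2) hx⟩
  have h : frattini E ≤ P.subgroupOf E := by
    refine PGroups.frattini_le_of_elementary (p := p) ?_ fun x => ?_
    · refine Subgroup.commutator_le.2 fun a _ b _ => ?_
      rw [Subgroup.mem_subgroupOf, commutatorElement_def]
      exact hd'.comm_mem (hd.le a.2) (hd.le b.2)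
    · rw [Subgroup.mem_subgroupOf, Subgroup.coe_pow]
      exact hd'.pow_mem (hd.le x.2)
  rintro _ ⟨x, hx, rfl⟩
  exact h hx

namespace Config

variable (h : Config p F E₁ E₂ T)
include h

omit hp [Finite S] in
theorem symm : Config p F E₂ E₁ T where
  pg := h.pg
  odd := h.odd
  sat := h.sat
  sec := h.sec
  ess₁ := h.ess₂
  ess₂ := h.ess₁
  step₁ := h.step₂
  step₂ := h.step₁
  ne := h.ne.symm
  auto₁ := h.auto₂
  auto₂ := h.auto₁
  le := by rw [inf_comm]; exact h.le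
  invS := h.invS
  inv₁ := h.inv₂
  inv₂ := h.inv₁
  max K hK a b c := h.max K (by rwa [inf_comm]) a c b

omit hp [Finite S] in
theorem T_le₁ : T ≤ E₁ := h.le.trans inf_le_left

omit hp [Finite S] in
theorem T_le₂ : T ≤ E₂ := h.le.trans inf_le_right

omit hp [Finite S] in
theorem TS : T ≤ S := h.T_le₁.trans h.step₁.le

omit hp [Finite S] in
theorem DS : E₁ ⊓ E₂ ≤ S := inf_le_left.trans h.step₁.le

omit hp [Finite S] in
theorem invD : Inv F S (E₁ ⊓ E₂) := h.auto₁.inf h.auto₂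

omit hp [Finite S] in
theorem Dconj {s x : Ω} (hs : s ∈ S) (hx : x ∈ E₁ ⊓ E₂) : s * x * s⁻¹ ∈ E₁ ⊓ E₂ :=
  h.invD.conjS h.DS hs hx

omit hp [Finite S] in
theorem Tconj {s x : Ω} (hs : s ∈ S) (hx : x ∈ T) : s * x * s⁻¹ ∈ T := h.invS.conjS h.TS hs hx

omit hp in
theorem phiTconj {s x : Ω} (hs : s ∈ S) (hx : x ∈ phi T) : s * x * s⁻¹ ∈ phi T :=
  (h.invS.phi h.TS le_rfl).conjS (phi_le.trans h.TS) hs hx

theorem exists_x₁ : ∃ x ∈ E₁, x ∉ E₁ ⊓ E₂ := by
  by_contra hc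
  push Not at hc
  have := finite_le h.step₂.le
  refine h.ne (Subgroup.eq_of_le_of_card_ge (fun x hx => (hc x hx).2) ?_)
  exact (Nat.eq_of_mul_eq_mul_left hp.out.pos (h.step₂.card.symm.trans h.step₁.card)).le

theorem card₁ : Nat.card E₁ = p * Nat.card (E₁ ⊓ E₂ : Subgroup Ω) := by
  obtain ⟨x, hx, hxD⟩ := h.exists_x₁
  exact h.step₂.card_inf h.step₁.le hx fun hx2 => hxD ⟨hx, hx2⟩

theorem cardS : Nat.card S = p ^ 2 * Nat.card (E₁ ⊓ E₂ : Subgroup Ω) := by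
  rw [h.step₁.card, h.card₁]; ring

theorem phi_le_D : phi E₁ ≤ E₁ ⊓ E₂ := le_inf phi_le (phi_le_of_step h.pg h.step₁ h.step₂)

theorem comm_mem_D {g k : Ω} (hg : g ∈ S) (hk : k ∈ S) :
    g * k * g⁻¹ * k⁻¹ ∈ E₁ ⊓ E₂ :=
  ⟨h.step₁.comm_mem hg hk, h.step₂.comm_mem hg hk⟩

theorem TΦ_le : T ⊔ phi E₁ ≤ E₁ ⊓ E₂ := sup_le h.le h.phi_le_D

theorem TΦ_inv : Inv F E₁ (T ⊔ phi E₁) := h.inv₁.sup phi_inv h.T_le₁ phi_le

/-- Elements of `E₁` and `D` generate. -/
theorem gen₁ {x : Ω} (hx : x ∈ E₁) (hxD : x ∉ E₁ ⊓ E₂) {g : Ω} (hg : g ∈ E₁) :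
    ∃ d ∈ E₁ ⊓ E₂, ∃ i : ℤ, g = d * x ^ i := by
  obtain ⟨e, he, i, rfl⟩ := h.step₂.gen (h.step₁.le hx) (fun h2 => hxD ⟨hx, h2⟩) (h.step₁.le hg)
  refine ⟨e, ⟨?_, he⟩, i, rfl⟩
  have := mul_mem hg (inv_mem (zpow_mem hx i))
  rwa [mul_inv_cancel_right] at this

/-- `D` is invariant in at most one of the automizers, unless it is `T`. -/
theorem eq_T_of_inv (h₁ : Inv F E₁ (E₁ ⊓ E₂)) (h₂ : Inv F E₂ (E₁ ⊓ E₂)) : T = E₁ ⊓ E₂ :=
  le_antisymm h.le (h.max _ le_rfl h.invD h₁ h₂)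

end Config

variable (p) in
/-- `E / T` is cyclic. -/
def Thin (E T : Subgroup Ω) : Prop := Nat.card E ≤ p * Nat.card (T ⊔ phi E : Subgroup Ω)

namespace Config

variable (h : Config p F E₁ E₂ T)
include h

theorem thin_eq (ht : Thin p E₁ T) : T ⊔ phi E₁ = E₁ ⊓ E₂ := by
  have := finite_le h.DS
  refine Subgroup.eq_of_le_of_card_ge h.TΦ_le ?_
  have h1 : p * Nat.card (E₁ ⊓ E₂ : Subgroup Ω) ≤ p * Nat.card (T ⊔ phi E₁ : Subgroup Ω) :=
    h.card₁ ▸ ht
  exact Nat.le_of_mul_le_mul_left h1 hp.out.pos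

theorem thin_inv (ht : Thin p E₁ T) : Inv F E₁ (E₁ ⊓ E₂) := h.thin_eq ht ▸ h.TΦ_inv

/-- Outside the thin case `S` acts nontrivially on `E₁ / T Φ(E₁)`. -/
theorem moves (ht : ¬ Thin p E₁ T) : ∃ s ∈ S, ∃ x ∈ E₁, s * x * s⁻¹ * x⁻¹ ∉ T ⊔ phi E₁ := by
  by_contra hc
  push Not at hc
  exact ht (card_le_of_comm h.pg h.sec h.ess₁ h.step₁ le_sup_right (h.TΦ_le.trans inf_le_left)
    h.TΦ_inv hc)

end Config

/-! ### The action on `T / Φ(T)` -/

section Action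

variable {hT : T ≤ S}

/-- The action of `S` on `T / Φ(T)`. -/
noncomputable def act (hn : S ≤ Subgroup.normalizer (T : Set Ω)) : S →* MulAut (T ⧸ frattini T) :=
  (frattiniAut T).comp (T.normalizerMonoidHom.comp (Subgroup.inclusion hn))

/-- The elements of `S` acting trivially on `T / Φ(T)`. -/
noncomputable def cmod (hn : S ≤ Subgroup.normalizer (T : Set Ω)) : Subgroup Ω :=
  (act hn).ker.map S.subtype

omit hp [Finite S] in
theorem act_apply (hn : S ≤ Subgroup.normalizer (T : Set Ω)) (s : S) (t : T) :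
    act hn s (t : T ⧸ frattini T) =
      ((⟨(s : Ω) * t * (s : Ω)⁻¹, (Subgroup.mem_normalizer_iff.1 (hn s.2) t).1 t.2⟩ : T) :
        T ⧸ frattini T) := rfl

omit hp [Finite S] in
theorem cmod_le (hn : S ≤ Subgroup.normalizer (T : Set Ω)) : cmod hn ≤ S :=
  Subgroup.map_subtype_le _

omit hp [Finite S] in
theorem act_eq_one (hn : S ≤ Subgroup.normalizer (T : Set Ω)) {s : S} :
    act hn s = 1 ↔ (s : Ω) ∈ cmod hn :=
  ((Subgroup.mem_map_iff_mem S.subtype_injective (K := (act hn).ker) (x := s)).trans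
    MonoidHom.mem_ker).symm

omit hp [Finite S] in
theorem mem_cmod (hn : S ≤ Subgroup.normalizer (T : Set Ω)) {c : Ω} :
    c ∈ cmod hn ↔ c ∈ S ∧ ∀ t ∈ T, c * t * c⁻¹ * t⁻¹ ∈ phi T := by
  have key : ∀ (t : T) (u : T), ((u : T ⧸ frattini T) = (t : T ⧸ frattini T)) ↔
      (u : Ω) * (t : Ω)⁻¹ ∈ phi T := fun t u => by
    rw [← mul_inv_eq_one, ← QuotientGroup.mk_inv, ← QuotientGroup.mk_mul, QuotientGroup.eq_one_iff]
    exact mem_phi.symm
  constructor
  · intro hc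
    have hcS := cmod_le hn hc
    refine ⟨hcS, fun t ht => ?_⟩
    have h1 := DFunLike.congr_fun ((act_eq_one hn (s := ⟨c, hcS⟩)).2 hc) ((⟨t, ht⟩ : T) : T ⧸ frattini T)
    rw [act_apply, MulAut.one_apply] at h1
    exact (key _ _).1 h1
  · rintro ⟨hcS, hc⟩
    refine (act_eq_one hn (s := ⟨c, hcS⟩)).1 (MulEquiv.ext fun v => ?_)
    obtain ⟨t, rfl⟩ := QuotientGroup.mk'_surjective _ v
    rw [QuotientGroup.mk'_apply, act_apply, MulAut.one_apply]
    exact (key _ _).2 (hc t t.2)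

omit hp [Finite S] in
theorem cmod_inv (hn : S ≤ Subgroup.normalizer (T : Set Ω)) (hTP : T ≤ P) (hPS : P ≤ S)
    (hT : Inv F P T) (hΦ : Inv F P (phi T)) : Inv F P (cmod hn ⊓ P) := by
  intro α hα x hx
  refine ⟨(mem_cmod hn).2 ⟨hPS (α x).2, fun t ht => ?_⟩, Subtype.coe_prop _⟩
  obtain ⟨t', ht'⟩ : ∃ t' : P, t' = (α : MulAut P)⁻¹ ⟨t, hTP ht⟩ := ⟨_, rfl⟩
  have ht'T : (t' : Ω) ∈ T := by
    rw [ht']; exact hT _ (inv_mem hα) ⟨t, hTP ht⟩ ht
  have h := hΦ α hα (x * t' * x⁻¹ * t'⁻¹) (((mem_cmod hn).1 hx.1).2 t' ht'T)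
  rw [map_mul, map_mul, map_mul, map_inv, map_inv, ht', MulAut.apply_inv_self] at h
  exact h

omit hp [Finite S] in
theorem cmod_invS (hn : S ≤ Subgroup.normalizer (T : Set Ω)) (hTS : T ≤ S) (hT : Inv F S T)
    (hΦ : Inv F S (phi T)) : Inv F S (cmod hn) := by
  have := cmod_inv hn hTS le_rfl hT hΦ
  rwa [inf_of_le_left (cmod_le hn)] at this

end Action

end CfsgLib.Fusion.TwoEssential
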