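import Cfsg.Agent.Lib.Fusion.TwoEssential.Setup

/-!
# Neither essential subgroup is cyclic modulo `T`
-/

set_option autoImplicit false

namespace CfsgLib.Fusion.TwoEssential

open Cfsg Cfsg.FusionSystem CfsgLib CfsgLib.Fusion CfsgLib.Fusion.RankThree CfsgLib.Fusion.NormalEssential
open scoped commutatorElement

variable {p : ℕ} [hp : Fact p.Prime] {Ω : Type*} [Group Ω] {S : Subgroup Ω} [Finite S]
  {F : FusionSystem S} {E₁ E₂ T : Subgroup Ω}

omit hp in
theorem one_add_pow_cube (a : ℤ) (n : ℕ) :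
    ∃ r : ℤ, (1 + a) ^ n = 1 + n * a + (n.choose 2 : ℕ) * a ^ 2 + a ^ 3 * r := by
  induction n with
  | zero => exact ⟨0, by simp⟩
  | succ n ih =>
    obtain ⟨r, hr⟩ := ih
    refine ⟨r * (1 + a) + (n.choose 2 : ℕ), ?_⟩
    rw [pow_succ, hr, Nat.choose_succ_succ, Nat.choose_one_right]
    push_cast
    ring

/-- An exponent of order dividing `p` modulo `p³` is `1` modulo `p²`. -/
theorem dvd_of_pow_congr (hp2 : p ≠ 2) {j : ℤ}
    (h : (p : ℤ) ^ 3 ∣ (1 + (p : ℤ) * j) ^ p - 1) : (p : ℤ) ∣ j := by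
  have hp' := hp.out
  obtain ⟨r, hr⟩ := one_add_pow_cube ((p : ℤ) * j) p
  obtain ⟨c, hc⟩ : (p : ℤ) ∣ (p.choose 2 : ℕ) := by
    exact_mod_cast hp'.dvd_choose_self (by norm_num) (lt_of_le_of_ne hp'.two_le hp2.symm)
  obtain ⟨q, hq⟩ := h
  rw [hr, hc] at hq
  refine ⟨q - c * j ^ 2 - j ^ 3 * r, mul_left_cancel₀ (pow_ne_zero 2 (Int.natCast_ne_zero.2 hp'.ne_zero)) ?_⟩
  linear_combination hq

set_option maxHeartbeats 800000 in
/-- `D ≠ T`. -/
theorem Config.ne_D (h : Config p F E₁ E₂ T) : T ≠ E₁ ⊓ E₂ := by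
  intro hT
  have hp' := hp.out
  have hS := h.pg
  have := finite_le h.TS
  -- `S` acts trivially on `T / Φ(T)`
  have key : ∀ {A B : Subgroup Ω}, Config p F A B T → ∀ a ∈ A, ∀ t ∈ T,
      a * t * a⁻¹ * t⁻¹ ∈ phi T := by
    intro A B h' a ha t ht
    have := finite_le h'.DS
    have hTD : T = A ⊓ B := Subgroup.eq_of_le_of_card_ge h'.le (by
      have h1 := h.cardS
      rw [h'.cardS, ← hT] at h1
      exact (Nat.eq_of_mul_eq_mul_left (pow_pos hp'.pos 2) h1).le)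
    have hA := h'.step₁
    have hAS := hA.le
    have := finite_le hAS
    have hΦT : phi A ≤ T := hTD ▸ h'.phi_le_D
    have := finite_le (hΦT.trans h'.TS)
    have hcA : Nat.card A = p * Nat.card T := hTD ▸ h'.card₁
    have hΦinv : Inv F A (phi A) := phi_inv
    have hΦn := hΦinv.normalizer hAS hA.norm phi_le
    have hTn := h'.invS.normS h'.TS
    have hcomm : ∀ s ∈ S, ∀ x ∈ A, s * x * s⁻¹ * x⁻¹ ∈ T := fun s hs x hx =>
      hTD ▸ h'.comm_mem_D hs (hAS hx)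
    obtain ⟨i, hi⟩ := (hS.to_le h'.TS).exists_card_eq
    obtain ⟨k, hk⟩ := (hS.to_le (hΦT.trans h'.TS)).exists_card_eq
    -- no invariant subgroup strictly between
    have hirr : ∀ M : Subgroup Ω, phi A ≤ M → M ≤ T → Inv F A M → M = phi A ∨ M = T := by
      intro M hM1 hM2 hMi
      by_contra hne
      push Not at hne
      have := finite_le (hM2.trans h'.TS)
      obtain ⟨l, hl⟩ := (hS.to_le (hM2.trans h'.TS)).exists_card_eq
      have h3 : Nat.card A ≤ p ^ 3 * Nat.card (phi A) := by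
        rw [phi, Subgroup.card_map_of_injective A.subtype_injective, ← (frattini A).card_mul_index,
          mul_comm (p ^ 3)]
        exact Nat.mul_le_mul_left _ (index_frattini_le hS h'.sec hAS)
      have h4 : Nat.card (phi A) < Nat.card M := lt_of_le_of_ne (Subgroup.card_le_of_le hM1) fun e =>
        hne.1 (Subgroup.eq_of_le_of_card_ge hM1 e.ge).symm
      have h5 : Nat.card M < Nat.card T := lt_of_le_of_ne (Subgroup.card_le_of_le hM2) fun e =>
        hne.2 (Subgroup.eq_of_le_of_card_ge hM2 e.ge)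
      rw [hk, hl] at h4
      rw [hl, hi] at h5
      rw [hcA, hi, hk, ← pow_succ', ← pow_add] at h3
      have := (Nat.pow_lt_pow_iff_right hp'.one_lt).1 h4
      have := (Nat.pow_lt_pow_iff_right hp'.one_lt).1 h5
      have := (Nat.pow_le_pow_iff_right hp'.one_lt).1 h3
      refine false_of_indices hS h'.sec h'.ess₁ hA hM1 hM2 h'.T_le₁ hMi h'.inv₁ hcA ?_
      rw [hi, hl, ← pow_succ', show i = l + 1 by omega]
    obtain ⟨g, hg, hgD⟩ := h'.exists_x₁
    haveI hn : ((phi T).subgroupOf S).Normal := ⟨fun x hx g => h'.phiTconj g.2 hx⟩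
    let π : S →* S ⧸ (phi T).subgroupOf S := QuotientGroup.mk' _
    have hπ : ∀ {a : S}, π a = 1 ↔ (a : Ω) ∈ phi T := fun {a} => QuotientGroup.eq_one_iff a
    have hπeq : ∀ {a b : S}, (a : Ω) * (b : Ω)⁻¹ ∈ phi T → π a = π b := fun {a b} h => by
      rw [← mul_inv_eq_one, ← map_inv, ← map_mul]
      exact hπ.2 h
    have hTT : ∀ a b : S, (a : Ω) ∈ T → (b : Ω) ∈ T → π a * π b = π b * π a := fun a b ha hb => by
      rw [← map_mul, ← map_mul]
      refine hπeq ?_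
      have := PGroups.commutator_le_frattini' (hS.to_le h'.TS) (Subgroup.commutator_mem_commutator
        (g₁ := (⟨(a : Ω), ha⟩ : T)) (g₂ := ⟨(b : Ω), hb⟩) trivial trivial)
      rw [← mem_phi] at this
      simpa [commutatorElement_def, mul_assoc] using this
    have hcT : ∀ t : T, ((⁅(⟨g, hAS hg⟩ : S), Subgroup.inclusion h'.TS t⁆ : S) : Ω) ∈ phi A := fun t =>
      mem_phi.2 (PGroups.commutator_le_frattini' (hS.to_le hAS) (Subgroup.commutator_mem_commutator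
        (g₁ := (⟨g, hg⟩ : A)) (g₂ := ⟨(t : Ω), h'.T_le₁ t.2⟩) trivial trivial))
    let f : T →* S ⧸ (phi T).subgroupOf S :=
      MonoidHom.mk' (fun t => π ⁅(⟨g, hAS hg⟩ : S), Subgroup.inclusion h'.TS t⁆) fun a b => by
        show π ⁅_, _⁆ = π ⁅_, _⁆ * π ⁅_, _⁆
        have h1 := hTT (Subgroup.inclusion h'.TS a) ⁅(⟨g, hAS hg⟩ : S), Subgroup.inclusion h'.TS b⁆
          a.2 (hΦT (hcT b))
        rw [map_mul, ← map_mul π, show ∀ G' : S, ∀ x y : S, ⁅G', x * y⁆ = ⁅G', x⁆ * (x * ⁅G', y⁆ * x⁻¹)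
          from fun G' x y => by simp only [commutatorElement_def]; group, map_mul,
          map_mul π (_ * _), map_mul π (Subgroup.inclusion h'.TS a), h1, map_inv, mul_inv_cancel_right,
          map_mul]
    have hmem : ∀ u : T, u ∈ f.ker ↔ g * (u : Ω) * g⁻¹ * (u : Ω)⁻¹ ∈ phi T := fun u => hπ
    obtain ⟨M, hM⟩ : ∃ M, M = f.ker.map T.subtype := ⟨_, rfl⟩
    have hgC : ∀ {u : Ω}, u ∈ M → ∀ e ∈ A, e * u * e⁻¹ * u⁻¹ ∈ phi T := by
      intro u hu e he
      obtain ⟨w, hw, rfl⟩ := hM ▸ hu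
      have hwS := h'.TS w.2
      obtain ⟨d, hd, i, rfl⟩ := h'.gen₁ hg hgD he
      rw [← hTD] at hd
      have hc : π ⟨g, hAS hg⟩ * π ⟨w, hwS⟩ = π ⟨w, hwS⟩ * π ⟨g, hAS hg⟩ := by
        rw [← map_mul, ← map_mul]
        refine hπeq ?_
        have := (hmem w).1 hw
        simpa [mul_assoc] using this
      have h2 : Commute (π (⟨d, h'.TS hd⟩ * ⟨g, hAS hg⟩ ^ i)) (π ⟨w, hwS⟩) := by
        rw [map_mul, map_zpow]
        exact Commute.mul_left (hTT _ _ hd w.2) ((show Commute (π _) (π _) from hc).zpow_left i)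
      have h3 : π (⁅(⟨d, h'.TS hd⟩ : S) * ⟨g, hAS hg⟩ ^ i, ⟨w, hwS⟩⁆) = 1 := by
        rw [map_commutatorElement, commutatorElement_eq_one_iff_commute]; exact h2
      simpa [commutatorElement_def] using hπ.1 h3
    have hMT : M ≤ T := hM ▸ Subgroup.map_subtype_le _
    have hΦM : phi A ≤ M := by
      intro u hu
      rw [hM]
      refine ⟨⟨u, hΦT hu⟩, (hmem _).2 ?_, rfl⟩
      have hle : phi T ≤ phi A := by
        haveI : ((phi A).subgroupOf T).Normal := ⟨fun x hx t =>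
          hΦinv.conj hAS hA.norm phi_le (h'.TS t.2) hx⟩
        have h1 : frattini T ≤ (phi A).subgroupOf T := by
          refine PGroups.frattini_le_of_elementary (p := p)
            (Subgroup.commutator_le.2 fun a _ b _ => ?_) fun x => ?_
          · exact mem_phi.2 (PGroups.commutator_le_frattini' (hS.to_le hAS)
              (Subgroup.commutator_mem_commutator (g₁ := (⟨(a : Ω), h'.T_le₁ a.2⟩ : A))
                (g₂ := ⟨(b : Ω), h'.T_le₁ b.2⟩) trivial trivial))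
          · rw [Subgroup.mem_subgroupOf, Subgroup.coe_pow]
            exact mem_phi.2 (PGroups.pow_mem_frattini (hS.to_le hAS) (⟨(x : Ω), h'.T_le₁ x.2⟩ : A))
        rintro _ ⟨x, hx, rfl⟩
        exact h1 hx
      have := finite_le (phi_le.trans h'.TS : phi T ≤ S)
      obtain ⟨l, hl⟩ := (hS.to_le (phi_le.trans h'.TS : phi T ≤ S)).exists_card_eq
      have h3 : Nat.card T ≤ p ^ 3 * Nat.card (phi T) := by
        rw [phi, Subgroup.card_map_of_injective T.subtype_injective, ← (frattini T).card_mul_index,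
          mul_comm (p ^ 3)]
        exact Nat.mul_le_mul_left _ (index_frattini_le hS h'.sec h'.TS)
      have h4 := Subgroup.card_le_of_le hle
      rw [hi, hl, ← pow_add] at h3
      rw [hl, hk] at h4
      have := (Nat.pow_le_pow_iff_right hp'.one_lt).1 h3
      have := (Nat.pow_le_pow_iff_right hp'.one_lt).1 h4
      have hki : k + 2 ≤ i := by
        by_contra hlt
        have h5 := Subgroup.card_le_of_le hΦT
        rw [hk, hi] at h5
        have := (Nat.pow_le_pow_iff_right hp'.one_lt).1 h5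
        rcases (show i = k ∨ i = k + 1 by omega) with e | e
        · have e' : phi A = T := Subgroup.eq_of_le_of_card_ge hΦT (by rw [hk, hi, e])
          exact false_of_flag hS h'.ess₁ hA le_rfl le_rfl phi_le hΦinv hΦinv
            (fun s hs x hx => mul_mem (hΦinv.conj hAS hA.norm phi_le hs hx) (inv_mem hx))
            (fun s hs x hx => mul_mem (hΦinv.conj hAS hA.norm phi_le hs hx) (inv_mem hx))
            (fun s hs x hx => e'.symm ▸ hcomm s hs x hx)
        · exact false_of_indices hS h'.sec h'.ess₁ hA le_rfl hΦT h'.T_le₁ hΦinv h'.inv₁ hcA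
            (by rw [hi, hk, ← pow_succ', e])
      rcases (show l = k ∨ l + 1 = k by omega) with e | e
      · have e' : phi T = phi A := Subgroup.eq_of_le_of_card_ge hle (by rw [hl, hk, e])
        rw [← e'] at hu
        exact mul_mem (h'.phiTconj (hAS hg) hu) (inv_mem hu)
      · exact central_step hS hle (phi_le.trans hAS)
          (fun s hs => le_normalizer_of_conj (fun s hs x hx => h'.phiTconj hs hx) hs)
          hΦn (by rw [hk, hl, ← pow_succ', e]) (hAS hg) hu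
    have hMi : Inv F A M := by
      intro α hα x hx
      rw [hM] at hx ⊢
      obtain ⟨w, hw, hwx⟩ := hx
      refine ⟨⟨_, h'.inv₁ α hα x (hwx ▸ w.2)⟩, (hmem _).2 ?_, rfl⟩
      obtain ⟨g', hg'⟩ : ∃ g' : A, g' = (α : MulAut A)⁻¹ ⟨g, hg⟩ := ⟨_, rfl⟩
      have hm : (x : Ω) ∈ M := hM ▸ ⟨w, hw, hwx⟩
      have h1 := (h'.inv₁.phi h'.T_le₁ hAS) α hα (g' * x * g'⁻¹ * x⁻¹) (hgC hm g' g'.2)
      rw [map_mul, map_mul, map_mul, map_inv, map_inv, hg', MulAut.apply_inv_self] at h1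
      exact h1
    rcases hirr M hΦM hMT hMi with e | e
    · exfalso
      have hck : Nat.card f.ker = Nat.card (phi A) := by
        rw [← e, hM, Subgroup.card_map_of_injective T.subtype_injective]
      have hcr : Nat.card T = Nat.card f.range * Nat.card f.ker := by
        rw [f.ker.card_eq_card_quotient_mul_card_subgroup,
          Nat.card_congr (QuotientGroup.quotientKerEquivRange f).toEquiv]
      have hrange : f.range ≤ ((phi A).subgroupOf S).map π := by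
        rintro _ ⟨u, rfl⟩
        exact ⟨_, hcT u, rfl⟩
      have hle : phi T ≤ phi A := by
        intro u hu
        have huM : u ∈ M := hM ▸ ⟨⟨u, phi_le hu⟩, (hmem _).2
          (mul_mem (h'.phiTconj (hAS hg) hu) (inv_mem hu)), rfl⟩
        exact e ▸ huM
      have hr : Nat.card f.range * Nat.card (phi T) ≤ Nat.card (phi A) := by
        refine (Nat.mul_le_mul_right _ (Subgroup.card_le_of_le hrange)).trans ?_
        let ρ := π.comp ((phi A).subgroupOf S).subtype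
        have hρr : ρ.range = ((phi A).subgroupOf S).map π := by
          rw [MonoidHom.range_comp, Subgroup.range_subtype]
        have hρk : ρ.ker = ((phi T).subgroupOf S).subgroupOf ((phi A).subgroupOf S) := by
          ext x
          rw [MonoidHom.mem_ker, Subgroup.mem_subgroupOf]
          exact QuotientGroup.eq_one_iff _
        have hc := ρ.ker.card_eq_card_quotient_mul_card_subgroup
        rw [Nat.card_congr (QuotientGroup.quotientKerEquivRange ρ).toEquiv, hρr, hρk,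
          Nat.card_congr (Subgroup.subgroupOfEquivOfLe (show
            (phi T).subgroupOf S ≤ (phi A).subgroupOf S from fun x hx => hle hx)).toEquiv,
          Nat.card_congr (Subgroup.subgroupOfEquivOfLe (phi_le.trans hAS)).toEquiv,
          Nat.card_congr (Subgroup.subgroupOfEquivOfLe (phi_le.trans h'.TS)).toEquiv] at hc
        exact hc.ge
      have h3 : Nat.card T ≤ p ^ 3 * Nat.card (phi T) := by
        rw [phi, Subgroup.card_map_of_injective T.subtype_injective, ← (frattini T).card_mul_index,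
          mul_comm (p ^ 3)]
        exact Nat.mul_le_mul_left _ (index_frattini_le hS h'.sec h'.TS)
      have hTk : Nat.card T * Nat.card T ≤ p ^ 3 * (Nat.card (phi A) * Nat.card (phi A)) := by
        calc Nat.card T * Nat.card T ≤ Nat.card T * (p ^ 3 * Nat.card (phi T)) :=
              Nat.mul_le_mul_left _ h3
          _ = p ^ 3 * ((Nat.card f.range * Nat.card (phi T)) * Nat.card (phi A)) := by
              rw [hcr, hck]; ring
          _ ≤ _ := Nat.mul_le_mul_left _ (Nat.mul_le_mul_right _ hr)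
      rw [hi, hk, ← pow_add, ← pow_add, ← pow_add] at hTk
      have h1 := (Nat.pow_le_pow_iff_right hp'.one_lt).1 hTk
      have h5 := Subgroup.card_le_of_le hΦT
      rw [hk, hi] at h5
      have := (Nat.pow_le_pow_iff_right hp'.one_lt).1 h5
      rcases (show i = k ∨ i = k + 1 by omega) with e' | e'
      · have e'' : phi A = T := Subgroup.eq_of_le_of_card_ge hΦT (by rw [hk, hi, e'])
        exact false_of_flag hS h'.ess₁ hA le_rfl le_rfl phi_le hΦinv hΦinv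
          (fun s hs x hx => mul_mem (hΦinv.conj hAS hA.norm phi_le hs hx) (inv_mem hx))
          (fun s hs x hx => mul_mem (hΦinv.conj hAS hA.norm phi_le hs hx) (inv_mem hx))
          (fun s hs x hx => e''.symm ▸ hcomm s hs x hx)
      · exact false_of_indices hS h'.sec h'.ess₁ hA le_rfl hΦT h'.T_le₁ hΦinv h'.inv₁ hcA
          (by rw [hi, hk, ← pow_succ', e'])
    · exact hgC (e.symm ▸ ht) a ha
  -- so `S` stabilizes the series `Φ(E₁) ≤ T ≤ E₁`
  have hΦ1 : phi E₁ ≤ T := hT ▸ h.phi_le_D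
  have hTΦ : phi T ≤ phi E₁ := by
    have := finite_le h.step₁.le
    haveI : ((phi E₁).subgroupOf T).Normal := ⟨fun x hx t =>
      (phi_inv (F := F)).conj h.step₁.le h.step₁.norm phi_le (h.TS t.2) hx⟩
    have h1 : frattini T ≤ (phi E₁).subgroupOf T := by
      refine PGroups.frattini_le_of_elementary (p := p)
        (Subgroup.commutator_le.2 fun a _ b _ => ?_) fun x => ?_
      · exact mem_phi.2 (PGroups.commutator_le_frattini' (hS.to_le h.step₁.le)
          (Subgroup.commutator_mem_commutator (g₁ := (⟨(a : Ω), h.T_le₁ a.2⟩ : E₁))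
            (g₂ := ⟨(b : Ω), h.T_le₁ b.2⟩) trivial trivial))
      · rw [Subgroup.mem_subgroupOf, Subgroup.coe_pow]
        exact mem_phi.2 (PGroups.pow_mem_frattini (hS.to_le h.step₁.le) (⟨(x : Ω), h.T_le₁ x.2⟩ : E₁))
    rintro _ ⟨x, hx, rfl⟩
    exact h1 hx
  obtain ⟨a, ha, haD⟩ := h.exists_x₁
  obtain ⟨b, hb, hbD⟩ := h.symm.exists_x₁
  refine false_of_flag hS h.ess₁ h.step₁ hΦ1 le_rfl h.T_le₁ h.inv₁ h.inv₁ (fun s hs t ht => ?_)
    (fun s hs t ht => mul_mem (h.Tconj hs ht) (inv_mem ht))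
    (fun s hs x hx => hT ▸ h.comm_mem_D hs (h.step₁.le hx))
  obtain ⟨e, he, i, rfl⟩ := h.step₁.gen (h.step₂.le hb) (fun h1 => hbD ⟨hb, h1⟩) hs
  have h1 := key h e he t ht
  have h2 := key h.symm (b ^ i) (zpow_mem hb i) t ht
  refine hTΦ ?_
  rw [show e * b ^ i * t * (e * b ^ i)⁻¹ * t⁻¹ =
    e * (b ^ i * t * (b ^ i)⁻¹ * t⁻¹) * e⁻¹ * (e * t * e⁻¹ * t⁻¹) by group]
  exact mul_mem (h.phiTconj (h.step₁.le he) h2) h1

set_option maxHeartbeats 800000 in
/-- `E₁ / T` is not cyclic. -/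
theorem Config.not_thin (h : Config p F E₁ E₂ T) : ¬ Thin p E₁ T := by
  intro ht
  have hp' := hp.out
  have hS := h.pg
  have hodd : Odd p := hp'.odd_of_ne_two h.odd
  have hne := h.ne_D
  have hD₁ := h.thin_eq ht
  have ht₂ : ¬ Thin p E₂ T := fun ht₂ => hne (h.eq_T_of_inv (h.thin_inv ht) (by
    rw [inf_comm]; exact h.symm.thin_inv ht₂))
  obtain ⟨g, hg, hgD⟩ := h.exists_x₁
  obtain ⟨x, hx, hxD⟩ := h.symm.exists_x₁
  have hxE : x ∉ E₁ := fun h1 => hxD ⟨hx, h1⟩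
  have hgE : g ∉ E₂ := fun h2 => hgD ⟨hg, h2⟩
  have hgS := h.step₁.le hg
  have hxS := h.step₂.le hx
  haveI hTn : (T.subgroupOf S).Normal :=
    (Subgroup.normal_subgroupOf_iff_le_normalizer h.TS).2 (h.invS.normS h.TS)
  have := finite_le h.step₁.le
  have := finite_le h.TS
  -- `E₁ = T ⟨g⟩`
  have hgen : ∀ e ∈ E₁, ∃ t ∈ T, ∃ i : ℤ, e = t * g ^ i := by
    haveI hTn' : (T.subgroupOf E₁).Normal := ⟨fun y hy s => h.Tconj (h.step₁.le s.2) hy⟩
    have htop : T.subgroupOf E₁ ⊔ Subgroup.zpowers (⟨g, hg⟩ : E₁) = ⊤ := by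
      refine frattini_nongenerating (eq_top_iff.2 fun e _ => ?_)
      obtain ⟨d, hd, i, hde⟩ := h.gen₁ hg hgD e.2
      have hdE : d ∈ E₁ := hd.1
      rw [show e = ⟨d, hdE⟩ * ⟨g, hg⟩ ^ i from Subtype.ext (by simpa using hde)]
      refine mul_mem ?_ (zpow_mem (Subgroup.mem_sup_left
        (Subgroup.mem_sup_right (Subgroup.mem_zpowers _))) i)
      have hle : T ⊔ phi E₁ ≤ ((T.subgroupOf E₁ ⊔ Subgroup.zpowers (⟨g, hg⟩ : E₁)) ⊔
          frattini E₁).map E₁.subtype := by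
        refine sup_le (fun y hy => ⟨⟨y, h.T_le₁ hy⟩, Subgroup.mem_sup_left (Subgroup.mem_sup_left hy),
          rfl⟩) ?_
        rintro _ ⟨y, hy, rfl⟩
        exact ⟨y, Subgroup.mem_sup_right hy, rfl⟩
      obtain ⟨y, hy, hyd⟩ := hle (hD₁.symm ▸ hd)
      obtain rfl : y = ⟨d, hdE⟩ := Subtype.ext hyd
      exact hy
    intro e he
    obtain ⟨a, ha, b, hb, hab⟩ := Subgroup.mem_sup_of_normal_left.1 (htop.ge (Subgroup.mem_top (⟨e, he⟩ : E₁)))
    obtain ⟨i, rfl⟩ := Subgroup.mem_zpowers_iff.1 hb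
    exact ⟨a, ha, i, by simpa using (congrArg Subtype.val hab).symm⟩
  have hgenD : ∀ d ∈ E₁ ⊓ E₂, ∃ t ∈ T, ∃ i : ℤ, d = t * g ^ ((p : ℤ) * i) := by
    intro d hd
    obtain ⟨t, ht, i, rfl⟩ := hgen d hd.1
    obtain ⟨c, rfl⟩ := h.step₂.dvd_of_zpow_mem hgS hgE (i := i) (by
      have := mul_mem (inv_mem (h.T_le₂ ht)) hd.2
      rwa [inv_mul_cancel_left] at this)
    exact ⟨t, ht, c, rfl⟩
  let π : S →* S ⧸ T.subgroupOf S := QuotientGroup.mk' _
  have hπ : ∀ {a : S}, π a = 1 ↔ (a : Ω) ∈ T := fun {a} => QuotientGroup.eq_one_iff a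
  obtain ⟨G', hG'⟩ : ∃ G', G' = π ⟨g, hgS⟩ := ⟨_, rfl⟩
  obtain ⟨X, hX⟩ : ∃ X, X = π ⟨x, hxS⟩ := ⟨_, rfl⟩
  have hπD : ∀ {d : S}, (d : Ω) ∈ E₁ ⊓ E₂ → ∃ i : ℤ, π d = G' ^ ((p : ℤ) * i) := by
    intro d hd
    obtain ⟨t, ht, i, hdi⟩ := hgenD _ hd
    refine ⟨i, ?_⟩
    rw [show d = ⟨t, h.TS ht⟩ * ⟨g, hgS⟩ ^ ((p : ℤ) * i) from Subtype.ext (by simpa using hdi),
      map_mul, map_zpow, ← hG', show π ⟨t, h.TS ht⟩ = 1 from hπ.2 ht, one_mul]
  obtain ⟨j, hj⟩ : ∃ j : ℤ, X * G' * X⁻¹ = G' ^ (1 + (p : ℤ) * j) := by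
    obtain ⟨i, hi⟩ := hπD (d := ⟨x, hxS⟩ * ⟨g, hgS⟩ * ⟨x, hxS⟩⁻¹ * ⟨g, hgS⟩⁻¹)
      (h.comm_mem_D hxS hgS)
    refine ⟨i, ?_⟩
    rw [map_mul, map_mul, map_mul, map_inv, map_inv, ← hG', ← hX, mul_inv_eq_iff_eq_mul] at hi
    rw [hi, zpow_add, zpow_one]
    exact (((Commute.refl G').zpow_left _)).eq
  have hiter : ∀ n : ℕ, X ^ n * G' * (X ^ n)⁻¹ = G' ^ ((1 + (p : ℤ) * j) ^ n) := by
    intro n
    induction n with
    | zero => simp
    | succ n ih =>
      rw [pow_succ X, mul_inv_rev, show X ^ n * X * G' * (X⁻¹ * (X ^ n)⁻¹) =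
        X ^ n * (X * G' * X⁻¹) * (X ^ n)⁻¹ by group, hj, ← conj_zpow, ih, ← zpow_mul, ← pow_succ]
  have hmod : G' ^ ((1 + (p : ℤ) * j) ^ p - 1) = 1 := by
    rw [zpow_sub_one, ← hiter, mul_inv_eq_one]
    obtain ⟨i, hi⟩ := hπD (d := ⟨x, hxS⟩ ^ p) ⟨by
      show x ^ p ∈ E₁
      exact h.step₁.pow_mem hxS, by
      show x ^ p ∈ E₂
      exact pow_mem hx p⟩
    rw [map_pow, ← hX] at hi
    rw [hi, mul_inv_eq_iff_eq_mul]
    exact (((Commute.refl G').zpow_left _)).eq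
  obtain ⟨k, hk⟩ : ∃ k, orderOf G' = p ^ k := by
    obtain ⟨m, hm⟩ := hS (⟨g, hgS⟩ : S)
    obtain ⟨k, -, hk⟩ := (Nat.dvd_prime_pow hp').1 (orderOf_dvd_of_pow_eq_one (x := G')
      (n := p ^ m) (by rw [hG', ← map_pow, hm, map_one]))
    exact ⟨k, hk⟩
  by_cases hsmall : g ^ (p * p) ∈ T
  · -- order `p³` modulo `T`
    have hgp2 : G' ^ ((p : ℤ) * (p : ℤ)) = 1 := by
      rw [← Nat.cast_mul, zpow_natCast, hG', ← map_pow]
      exact hπ.2 hsmall
    have hE2pow : ∀ {d : Ω}, d ∈ E₁ ⊓ E₂ → d ^ p ∈ T := by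
      intro d hd
      obtain ⟨i, hi⟩ := hπD (d := ⟨d, h.DS hd⟩) hd
      refine (hπ (a := (⟨d, h.DS hd⟩ : S) ^ p)).1 ?_
      rw [map_pow, hi, ← zpow_natCast, ← zpow_mul, show (p : ℤ) * i * p = (p : ℤ) * p * i by ring,
        zpow_mul, hgp2, one_zpow]
    have hgpT : g ^ p ∉ T := by
      intro hgpT
      refine hne (le_antisymm h.le fun d hd => ?_)
      obtain ⟨t, ht', i, rfl⟩ := hgenD d hd
      rw [zpow_mul, zpow_natCast]
      exact mul_mem ht' (zpow_mem hgpT i)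
    have hgpD : g ^ p ∈ E₁ ⊓ E₂ := ⟨pow_mem hg p, h.step₂.pow_mem hgS⟩
    have := finite_le h.DS
    have := finite_le h.step₂.le
    have hcD : Nat.card (E₁ ⊓ E₂ : Subgroup Ω) = p * Nat.card T := by
      have hcm : ∀ c ∈ T.subgroupOf S, True := fun _ _ => trivial
      let f := π.comp (Subgroup.inclusion h.DS)
      have hfk : f.ker = T.subgroupOf (E₁ ⊓ E₂) := by
        ext y
        rw [MonoidHom.mem_ker, Subgroup.mem_subgroupOf]
        exact hπ
      have hfr : f.range = Subgroup.zpowers (G' ^ p) := by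
        refine le_antisymm ?_ (Subgroup.zpowers_le.2 ⟨⟨g ^ p, hgpD⟩, ?_⟩)
        · rintro _ ⟨y, rfl⟩
          obtain ⟨i, hi⟩ := hπD (d := Subgroup.inclusion h.DS y) y.2
          exact Subgroup.mem_zpowers_iff.2 ⟨i, by rw [← zpow_natCast, ← zpow_mul]; exact hi.symm⟩
        · rw [hG', ← map_pow]; rfl
      have ho : orderOf (G' ^ p) = p := orderOf_eq_prime
        (by rw [← pow_mul, ← zpow_natCast, Nat.cast_mul, hgp2]) fun e => hgpT (by
          rw [hG', ← map_pow] at e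
          exact hπ.1 e)
      rw [f.ker.card_eq_card_quotient_mul_card_subgroup,
        Nat.card_congr (QuotientGroup.quotientKerEquivRange f).toEquiv, hfr, Nat.card_zpowers, ho,
        hfk, Nat.card_congr (Subgroup.subgroupOfEquivOfLe h.le).toEquiv]
    have hcE₂ : Nat.card E₂ = p ^ 2 * Nat.card T := by
      rw [h.symm.card₁, inf_comm, hcD]; ring
    have hK : T ⊔ phi E₂ = T := by
      have hK2 : T ⊔ phi E₂ ≤ E₁ ⊓ E₂ := by rw [inf_comm]; exact h.symm.TΦ_le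
      have := finite_le (hK2.trans h.DS)
      obtain ⟨a, ha⟩ := (hS.to_le (hK2.trans h.DS)).exists_card_eq
      obtain ⟨b, hb⟩ := (hS.to_le h.TS).exists_card_eq
      refine (Subgroup.eq_of_le_of_card_ge le_sup_left ?_).symm
      have h1 := not_le.1 ht₂
      rw [hcE₂, ha, hb, ← pow_succ', ← pow_add] at h1
      have := (Nat.pow_lt_pow_iff_right hp'.one_lt).1 h1
      rw [ha, hb]
      exact Nat.pow_le_pow_right hp'.pos (by omega)
    have hexp₂ : ∀ a ∈ E₂, a ^ p ∈ T := fun a ha => hK.le (Subgroup.mem_sup_right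
      (mem_phi.2 (PGroups.pow_mem_frattini (hS.to_le h.step₂.le) (⟨a, ha⟩ : E₂))))
    have hcom₂ : ∀ a ∈ E₂, ∀ b ∈ E₂, a * b * a⁻¹ * b⁻¹ ∈ T := fun a ha b hb =>
      hK.le (Subgroup.mem_sup_right (mem_phi.2 (PGroups.commutator_le_frattini' (hS.to_le h.step₂.le)
        (Subgroup.commutator_mem_commutator (g₁ := (⟨a, ha⟩ : E₂)) (g₂ := ⟨b, hb⟩) trivial trivial))))
    obtain ⟨δ, hδ⟩ := exists_torus hS h.odd h.sat h.ess₂ h.step₂ (K := T) (W := E₂) h.T_le₂ le_rfl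
      h.inv₂ (inv_self E₂) hcE₂ hcom₂ hexp₂ hcom₂
      (by
        obtain ⟨s, hs, e, he, hse⟩ := h.symm.moves ht₂
        exact ⟨s, hs, e, he, fun h' => hse (hK.ge h')⟩)
      (fun L hTL hLE hL hLi => by
        refine false_of_indices hS h.sec h.ess₂ h.step₂ (K := T) (le_sup_right.trans hK.le) hTL hLE
          h.inv₂ hLi ?_ hL
        rw [hL, hcE₂]; ring)
    have hgS' : ((δ ⟨g, hgS⟩ : S) : Ω) * g⁻¹ ∈ E₁ ⊓ E₂ :=
      ⟨mul_mem (h.auto₁ (δ : MulAut S) hδ.mem (⟨g, hgS⟩ : S) hg) (Subgroup.inv_mem _ hg), hδ.quot (⟨g, hgS⟩ : S)⟩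
    obtain ⟨i, hi⟩ := hπD (d := δ ⟨g, hgS⟩ * ⟨g, hgS⟩⁻¹) hgS'
    rw [map_mul, map_inv, ← hG', mul_inv_eq_iff_eq_mul, ← zpow_add_one] at hi
    have h2 := hδ.inv ((⟨g, hgS⟩ : S) ^ p) hgpD.2
    rw [map_pow] at h2
    have h3 : π ((δ ⟨g, hgS⟩) ^ p * ⟨g, hgS⟩ ^ p) = 1 := hπ.2 h2
    rw [map_mul, map_pow, map_pow, hi, ← hG', ← zpow_natCast, ← zpow_natCast G', ← zpow_mul,
      ← zpow_add, show ((p : ℤ) * i + 1) * p + p = (p : ℤ) * p * i + (2 * p : ℕ) by push_cast; ring,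
      zpow_add, zpow_mul, hgp2, one_zpow, one_mul, zpow_natCast] at h3
    have h4 : G' ^ (p * p) = 1 := by rw [← zpow_natCast, Nat.cast_mul]; exact hgp2
    have h5 : G' ^ Nat.gcd (2 * p) (p * p) = 1 := pow_gcd_eq_one.2 ⟨h3, h4⟩
    rw [Nat.gcd_mul_right, (Nat.coprime_primes Nat.prime_two hp').2 h.odd.symm, one_mul, hG',
      ← map_pow] at h5
    exact hgpT (hπ.1 h5)
  · -- order at least `p⁴` modulo `T`
    have hk3 : 3 ≤ k := by
      by_contra hlt
      refine hsmall ((hπ (a := (⟨g, hgS⟩ : S) ^ (p * p))).1 ?_)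
      rw [map_pow, ← hG', ← orderOf_dvd_iff_pow_eq_one, hk, ← pow_two]
      exact pow_dvd_pow p (by omega)
    obtain ⟨j', rfl⟩ : (p : ℤ) ∣ j := dvd_of_pow_congr h.odd ((dvd_trans (pow_dvd_pow (p : ℤ) hk3)
      (by rw [← Nat.cast_pow, ← hk]; exact orderOf_dvd_iff_zpow_eq_one.2 hmod)))
    obtain ⟨K, hK⟩ : ∃ K, K = T ⊔ phi E₂ := ⟨_, rfl⟩
    have hKi : Inv F E₂ K := hK ▸ h.symm.TΦ_inv
    have hKE : K ≤ E₂ := hK ▸ sup_le h.T_le₂ phi_le
    haveI hKn : (K.subgroupOf S).Normal := ⟨fun y hy s => hKi.conj h.step₂.le h.step₂.norm hKE s.2 hy⟩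
    let ρ : S →* S ⧸ K.subgroupOf S := QuotientGroup.mk' _
    have hρ : ∀ {a : S}, ρ a = 1 ↔ (a : Ω) ∈ K := fun {a} => QuotientGroup.eq_one_iff a
    have hρT : ∀ {t : Ω} (ht' : t ∈ T), ρ ⟨t, h.TS ht'⟩ = 1 := fun ht' =>
      hρ.2 (hK ▸ Subgroup.mem_sup_left ht')
    have hgp : g ^ p ∈ E₂ := h.step₂.pow_mem hgS
    have := finite_le h.step₂.le
    have hgg : Commute (ρ ⟨x, hxS⟩) (ρ ⟨g, hgS⟩) := by
      have h1 : π (⟨x, hxS⟩ * ⟨g, hgS⟩ * ⟨x, hxS⟩⁻¹ * (⟨g, hgS⟩ ^ (1 + (p : ℤ) * ((p : ℤ) * j')))⁻¹)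
          = 1 := by
        rw [map_mul, map_mul, map_mul, map_inv, map_inv, map_zpow, ← hG', ← hX, hj, mul_inv_cancel]
      have h2 : ρ (⟨x, hxS⟩ * ⟨g, hgS⟩ * ⟨x, hxS⟩⁻¹ * (⟨g, hgS⟩ ^ (1 + (p : ℤ) * ((p : ℤ) * j')))⁻¹)
          = 1 := hρ.2 (hK ▸ Subgroup.mem_sup_left (hπ.1 h1))
      have h3 : ρ ((⟨g, hgS⟩ ^ p) ^ p) = 1 := hρ.2 (hK ▸ Subgroup.mem_sup_right
        (mem_phi.2 (PGroups.pow_mem_frattini (hS.to_le h.step₂.le) (⟨g ^ p, hgp⟩ : E₂))))
      rw [map_pow, map_pow] at h3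
      rw [map_mul, map_mul, map_mul, map_inv, map_inv, map_zpow, zpow_add, zpow_one,
        zpow_mul, zpow_mul, zpow_natCast, zpow_natCast, h3,
        one_zpow, mul_one, mul_inv_eq_one, mul_inv_eq_iff_eq_mul] at h2
      exact h2
    have hall : ∀ a : S, ∃ i l : ℤ, ρ a = ρ ⟨g, hgS⟩ ^ i * ρ ⟨x, hxS⟩ ^ l := fun a => by
      obtain ⟨e, he, l, hl⟩ := h.step₁.gen hxS hxE a.2
      obtain ⟨t, ht', i, rfl⟩ := hgen e he
      refine ⟨i, l, ?_⟩
      rw [show a = ⟨t, h.TS ht'⟩ * ⟨g, hgS⟩ ^ i * ⟨x, hxS⟩ ^ l from Subtype.ext (by simpa using hl),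
        map_mul, map_mul, map_zpow, map_zpow, hρT ht', one_mul]
    obtain ⟨s, hs, e, he, hse⟩ := h.symm.moves ht₂
    refine hse (hK ▸ (hρ (a := (⟨s, hs⟩ : S) * ⟨e, h.step₂.le he⟩ * (⟨s, hs⟩ : S)⁻¹ * (⟨e, h.step₂.le he⟩ : S)⁻¹)).1 ?_)
    obtain ⟨i, l, h1⟩ := hall ⟨s, hs⟩
    obtain ⟨i', l', h2⟩ := hall ⟨e, h.step₂.le he⟩
    have hc : Commute (ρ ⟨s, hs⟩) (ρ ⟨e, h.step₂.le he⟩) := by
      rw [h1, h2]
      exact (((Commute.refl _).zpow_zpow i i').mul_right (hgg.symm.zpow_zpow i l')).mul_left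
        ((hgg.zpow_zpow l i').mul_right ((Commute.refl _).zpow_zpow l l'))
    rw [map_mul, map_mul, map_mul, map_inv, map_inv, hc.eq, mul_inv_cancel_right, mul_inv_cancel]

end CfsgLib.Fusion.TwoEssential
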