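import Cfsg.Agent.Lib.Fusion.TwoEssential.ThreeTools

/-!
# The case `|S / T| = p³`
-/

set_option autoImplicit false

namespace CfsgLib.Fusion.TwoEssential

open Cfsg Cfsg.FusionSystem CfsgLib CfsgLib.Fusion CfsgLib.Fusion.RankThree CfsgLib.Fusion.NormalEssential

variable {p : ℕ} [hp : Fact p.Prime] {Ω : Type*} [Group Ω] {S : Subgroup Ω} [Finite S]
  {F : FusionSystem S} {E₁ E₂ T : Subgroup Ω}

omit hp in
/-- The restriction to an invariant subgroup. -/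
theorem exists_restrict_to (hTS : T ≤ S) {δ : MulAut S}
    (hT : ∀ x : S, (x : Ω) ∈ T → ((δ x : S) : Ω) ∈ T) :
    ∃ τ : MulAut T, ∀ (n : ℕ) (x : S) (hx : (x : Ω) ∈ T),
      (((δ ^ n) x : S) : Ω) = (((τ ^ n) ⟨x, hx⟩ : T) : Ω) := by
  have := finite_le hTS
  let f : T →* T := ((S.subtype.comp δ.toMonoidHom).comp (Subgroup.inclusion hTS)).codRestrict T
    fun z => hT _ z.2
  refine ⟨MulEquiv.ofBijective f (Finite.injective_iff_bijective.1 fun a b hab =>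
    Subgroup.inclusion_injective hTS (δ.injective (Subtype.ext
      (congrArg (fun w : T => (w : Ω)) hab)))), fun n => ?_⟩
  induction n with
  | zero => intro x hx; rfl
  | succ n ih =>
    intro x hx
    rw [pow_succ', pow_succ', MulAut.mul_apply, MulAut.mul_apply]
    have e : (δ ^ n) x = Subgroup.inclusion hTS _ := Subtype.ext (ih x hx)
    rw [e]
    rfl

namespace Config

variable (h : Config p F E₁ E₂ T)
include h

theorem three_cards (hc : Nat.card S = p ^ 3 * Nat.card T) :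
    Nat.card (E₁ ⊓ E₂ : Subgroup Ω) = p * Nat.card T ∧ Nat.card E₁ = p ^ 2 * Nat.card T := by
  have hp' := hp.out
  have h1 : Nat.card (E₁ ⊓ E₂ : Subgroup Ω) = p * Nat.card T := by
    refine Nat.eq_of_mul_eq_mul_left (pow_pos hp'.pos 2) ?_
    rw [← h.cardS, hc]; ring
  exact ⟨h1, by rw [h.card₁, h1]; ring⟩

theorem three_cases (hc : Nat.card S = p ^ 3 * Nat.card T) : h.C = T ∨ h.C = S := by
  have hp' := hp.out
  obtain ⟨hcD, hcE⟩ := h.three_cards hc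
  obtain ⟨hcD', hcE'⟩ := h.symm.three_cards hc
  by_cases hCD : h.C ≤ E₁ ⊓ E₂
  · exact Or.inl (h.C_eq_T hCD)
  right
  obtain ⟨g, hg, hgD⟩ := SetLike.not_le_iff_exists.1 hCD
  have hgS := CMod_le hg
  -- `g` is not central modulo `T`
  have key : ∀ {A B : Subgroup Ω}, Config p F A B T → Nat.card A = p ^ 2 * Nat.card T → g ∉ A →
      ∃ s ∈ S, g * s * g⁻¹ * s⁻¹ ∉ T := by
    intro A B h' hcA hgA
    by_contra hall
    push Not at hall
    obtain ⟨s, hs, x, hx, hsx⟩ := h'.moves h'.not_thin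
    have hK := h'.phi_le_T₁ hcA
    obtain ⟨hc1, -⟩ := h'.mem_top₁ hK
    rw [hK] at hsx
    refine hsx ?_
    obtain ⟨e, he, i, rfl⟩ := h'.step₁.gen hgS hgA hs
    have hg' : g ^ i ∈ CMod (h'.T_norm) A := zpow_mem (⟨hgS, fun a ha =>
      hall a (h'.step₁.le ha)⟩ : g ∈ CMod (h'.T_norm) A) i
    rw [show e * g ^ i * x * (e * g ^ i)⁻¹ * x⁻¹ =
      e * (g ^ i * x * (g ^ i)⁻¹ * x⁻¹) * e⁻¹ * (e * x * e⁻¹ * x⁻¹) by group]
    exact mul_mem (h'.Tconj (h'.step₁.le he) (hg'.2 x hx)) (hc1 e he x hx)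
  obtain ⟨s, hs, hgs⟩ : ∃ s ∈ S, g * s * g⁻¹ * s⁻¹ ∉ T := by
    by_cases hg1 : g ∈ E₁
    · exact key h.symm hcE' fun h2 => hgD ⟨hg1, h2⟩
    · exact key h hcE hg1
  have hyC : g * s * g⁻¹ * s⁻¹ ∈ h.C := by
    rw [show g * s * g⁻¹ * s⁻¹ = g * (s * g⁻¹ * s⁻¹) by group]
    exact mul_mem hg (h.C_invS.conjS CMod_le hs (inv_mem hg))
  have hyD := h.comm_mem_D hgS hs
  have hDC : E₁ ⊓ E₂ ≤ h.C := fun d hd => by
    obtain ⟨t, ht, i, rfl⟩ := h.genD h.le h.T_norm hcD hyD hgs hd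
    exact mul_mem (h.T_le_C ht) (zpow_mem hyC i)
  have hfull : ∀ {A B : Subgroup Ω} (h' : Config p F A B T), Nat.card A = p ^ 2 * Nat.card T →
      Nat.card (A ⊓ B : Subgroup Ω) = p * Nat.card T → A ⊓ B ≤ h'.C → A ≤ h'.C := by
    intro A B h' hcA hcAB hAB
    exact (h'.le_of_invD (h'.phi_le_T₁ hcA) hcAB (le_inf hAB inf_le_left) inf_le_right
      h'.C_inv₁).trans inf_le_left
  have h1 : E₁ ≤ h.C := hfull h hcE hcD hDC
  have h2 : E₂ ≤ h.C := hfull h.symm hcE' hcD' (by rw [inf_comm]; exact hDC)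
  refine le_antisymm CMod_le fun w hw => ?_
  obtain ⟨x, hx, hxD⟩ := h.symm.exists_x₁
  obtain ⟨e, he, i, rfl⟩ := h.step₁.gen (h.step₂.le hx) (fun h' => hxD ⟨hx, h'⟩) hw
  exact mul_mem (h1 he) (zpow_mem (h2 hx) i)

/-- The powers in `E₁` lie in `Φ(T)`, where `E₁` is abelian modulo it. -/
theorem pow_mem_phiT (hcE : Nat.card E₁ = p ^ 2 * Nat.card T)
    (hab : ∀ a ∈ E₁, ∀ b ∈ E₁, a * b * a⁻¹ * b⁻¹ ∈ phi T)
    {δ : MulAut S} (hi : ∀ x : S, (x : Ω) ∈ E₁ → ((δ x : S) : Ω) * x ∈ T)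
    (hfix : ∀ x : S, (x : Ω) ∈ T → ((δ x : S) : Ω) * (x : Ω)⁻¹ ∈ phi T) :
    ∀ a ∈ E₁, a ^ p ∈ phi T := by
  intro a ha
  have := finite_le h.TS
  obtain ⟨-, hexp⟩ := h.mem_top₁ (h.phi_le_T₁ hcE)
  haveI : ((phi T).subgroupOf S).Normal := ⟨fun x hx g => h.phiTconj g.2 hx⟩
  let π : S →* S ⧸ (phi T).subgroupOf S := QuotientGroup.mk' _
  have hπ : ∀ a : S, π a = 1 ↔ (a : Ω) ∈ phi T := fun a => QuotientGroup.eq_one_iff a
  obtain ⟨x, hx⟩ : ∃ x : S, x = ⟨a, h.step₁.le ha⟩ := ⟨_, rfl⟩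
  have hxE : (x : Ω) ∈ E₁ := hx ▸ ha
  obtain ⟨τ, hτ⟩ : ∃ τ, τ = δ x * x := ⟨_, rfl⟩
  have hτT : (τ : Ω) ∈ T := by rw [hτ]; exact hi x hxE
  have hτp : π τ ^ p = 1 := by
    rw [← map_pow, hπ, SubmonoidClass.coe_pow]
    exact mem_phi.2 (PGroups.pow_mem_frattini (h.pg.to_le h.TS) (⟨_, hτT⟩ : T))
  have hcomm : Commute (π τ) (π x) := (comm_iff hπ).2 (hab _ (h.T_le₁ hτT) _ hxE)
  have hxpT : ((x ^ p : S) : Ω) ∈ T := by rw [SubmonoidClass.coe_pow]; exact hexp _ hxE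
  have e : π (δ (x ^ p)) = π (x ^ p) := (eq_iff hπ).2 (hfix _ hxpT)
  rw [map_pow δ, map_pow π, show δ x = τ * x⁻¹ by rw [hτ, mul_inv_cancel_right], map_mul π, map_inv π,
    hcomm.inv_right.mul_pow, hτp, one_mul, inv_pow, ← map_pow π] at e
  have h1 : π (x ^ p) = 1 := eq_one_of_sq h.pg h.odd hπ (by
    conv_lhs => arg 1; rw [← e]
    rw [inv_mul_cancel])
  have h2 := (hπ _).1 h1
  rw [hx] at h2
  exact h2

set_option maxHeartbeats 400000 in
/-- `S` does not centralize `T / Φ(T)`. -/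
theorem false_of_three_central (hc : Nat.card S = p ^ 3 * Nat.card T) (hC : h.C = S)
    (hin : omegaCenter p E₁ ≤ E₂) : False := by
  have hp' := hp.out
  have hS := h.pg
  have := finite_le h.TS
  obtain ⟨hcD, hcE⟩ := h.three_cards hc
  obtain ⟨hcD', hcE'⟩ := h.symm.three_cards hc
  obtain ⟨hc₁, hp₁⟩ := h.mem_top₁ (h.phi_le_T₁ hcE)
  obtain ⟨hc₂, -⟩ := h.symm.mem_top₁ (h.symm.phi_le_T₁ hcE')
  have hcenΦ : ∀ s ∈ S, ∀ t ∈ T, s * t * s⁻¹ * t⁻¹ ∈ phi T := fun s hs => (hC.ge hs).2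
  obtain ⟨δ, hδ⟩ := h.exists_torus₁ (h.phi_le_T₁ hcE) hcE
  obtain ⟨δ', hδ'⟩ := h.symm.exists_torus₁ (h.symm.phi_le_T₁ hcE') hcE'
  have hfix := hδ.fix h.inv₁ (h.inv₁.phi h.T_le₁ h.step₁.le) h.T_le₁ hcenΦ
  have hfix' := hδ'.fix h.inv₂ (h.inv₂.phi h.T_le₂ h.step₂.le) h.T_le₂ hcenΦ
  have hab := h.symm.comm_mod h.phiT_norm hcenΦ hcD' hc₁ hδ'.mem hδ'.quot hδ'.inv hfix'
  -- `T` is cyclic
  have hpow := h.pow_mem_phiT hcE hab hδ.inv hfix
  have hcard : Nat.card E₁ ≤ p ^ 3 * Nat.card (phi T) :=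
    card_le_of_elementary_mod h.sec h.step₁.le (phi_le.trans h.T_le₁)
      (fun a ha x hx => h.phiTconj (h.step₁.le ha) hx) hab hpow
  have hidx : (frattini T).index ≤ p := by
    rw [hcE, phi, Subgroup.card_map_of_injective T.subtype_injective,
      ← (frattini T).card_mul_index] at hcard
    refine Nat.le_of_mul_le_mul_left (?_ : p ^ 2 * Nat.card (frattini T) * (frattini T).index ≤
      p ^ 2 * Nat.card (frattini T) * p) (Nat.mul_pos (pow_pos hp'.pos 2) (Nat.card_pos (α := frattini T)))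
    calc p ^ 2 * Nat.card (frattini T) * (frattini T).index
        = p ^ 2 * (Nat.card (frattini T) * (frattini T).index) := mul_assoc _ _ _
      _ ≤ p ^ 3 * Nat.card (frattini T) := hcard
      _ = p ^ 2 * Nat.card (frattini T) * p := by ring
  haveI hcyc : IsCyclic (T ⧸ frattini T) := by
    obtain ⟨k, hk⟩ := ((hS.to_le h.TS).to_quotient (frattini T)).exists_card_eq
    have hi : p ^ k ≤ p ^ 1 := by rw [← hk, pow_one]; exact hidx
    rcases (show k = 0 ∨ k = 1 by have := (Nat.pow_le_pow_iff_right hp'.one_lt).1 hi; omega) with rfl | rfl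
    · rw [pow_zero] at hk
      haveI := (Nat.card_eq_one_iff_unique.1 hk).1
      exact isCyclic_of_subsingleton
    · exact isCyclic_of_prime_card (hk.trans (pow_one p))
  have hTab : ∀ a ∈ T, ∀ b ∈ T, a * b = b * a := by
    obtain ⟨v, hv⟩ := IsCyclic.exists_generator (α := T ⧸ frattini T)
    obtain ⟨t, rfl⟩ := QuotientGroup.mk'_surjective _ v
    have htop : Subgroup.zpowers t = ⊤ := frattini_nongenerating (eq_top_iff.2 fun x _ => by
      obtain ⟨i, hi⟩ := Subgroup.mem_zpowers_iff.1 (hv (QuotientGroup.mk' _ x))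
      rw [← map_zpow] at hi
      have h1 := QuotientGroup.eq.1 hi
      rw [show x = t ^ i * ((t ^ i)⁻¹ * x) by group]
      exact mul_mem (Subgroup.mem_sup_left (zpow_mem (Subgroup.mem_zpowers t) i))
        (Subgroup.mem_sup_right h1))
    intro a ha b hb
    obtain ⟨i, hi⟩ := Subgroup.mem_zpowers_iff.1 (htop.ge (Subgroup.mem_top (⟨a, ha⟩ : T)))
    obtain ⟨j, hj⟩ := Subgroup.mem_zpowers_iff.1 (htop.ge (Subgroup.mem_top (⟨b, hb⟩ : T)))
    have e : (⟨a, ha⟩ : T) * ⟨b, hb⟩ = ⟨b, hb⟩ * ⟨a, ha⟩ := by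
      rw [← hi, ← hj]; exact ((Commute.refl t).zpow_zpow i j).eq
    exact congrArg Subtype.val e
  -- automorphisms fixing `T` exactly
  have exact' : ∀ {A B : Subgroup Ω} (h' : Config p F A B T) (δ : MulAut S),
      Torus F A T A h'.step₁.le h'.step₁.norm δ →
      (∀ x : S, (x : Ω) ∈ T → ((δ x : S) : Ω) * (x : Ω)⁻¹ ∈ phi T) →
      ∃ ε : MulAut S, ε ∈ F.autGroup S ∧ (∀ x : S, ((ε x : S) : Ω) * (x : Ω)⁻¹ ∈ A) ∧
        (∀ x : S, (x : Ω) ∈ A → ((ε x : S) : Ω) * x ∈ T) ∧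
        ∀ x : S, (x : Ω) ∈ T → ε x = x := by
    intro A B h' δ hδ hfix
    have hTm : ∀ x : S, (x : Ω) ∈ T → ((δ x : S) : Ω) ∈ T := fun x hx => h.invS δ hδ.mem x hx
    obtain ⟨τ, hτ⟩ := exists_restrict_to h.TS hTm
    have hτF : ∀ e ∈ Subgroup.zpowers τ, ∀ x : T, e x * x⁻¹ ∈ frattini T := fun e he x => by
      have h0 : τ ∈ frattiniFix T := fun y => mem_phi.1 (by
        have h1 := hfix ⟨(y : Ω), h.TS y.2⟩ y.2
        have h2 := hτ 1 ⟨(y : Ω), h.TS y.2⟩ y.2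
        rw [pow_one, pow_one] at h2
        rw [h2] at h1
        exact h1)
      exact (Subgroup.zpowers_le.2 h0 he) x
    obtain ⟨k, hk⟩ := isPGroup_frattini_stabilizer (hS.to_le h.TS) _ hτF ⟨τ, Subgroup.mem_zpowers τ⟩
    have hk' : τ ^ p ^ k = 1 := by simpa using congrArg Subtype.val hk
    obtain ⟨hq, hi⟩ := pow_odd_inv (T := T) hδ.quot hδ.inv hTm
      (fun a ha t ht => h.Tconj (h'.step₁.le ha) ht) (p ^ k)
    exact ⟨δ ^ p ^ k, pow_mem hδ.mem _, hq, hi ((hp'.odd_of_ne_two h.odd).pow),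
      fun x hx => Subtype.ext (by rw [hτ _ x hx, hk']; rfl)⟩
  obtain ⟨ε, hεm, hεq, hεi, hεf⟩ := exact' h δ hδ hfix
  obtain ⟨ε', hε'm, hε'q, hε'i, hε'f⟩ := exact' h.symm δ' hδ' hfix'
  -- `T` is central
  have hcen1 : ∀ {A B : Subgroup Ω} (h' : Config p F A B T) (ε : MulAut S),
      (∀ x : S, (x : Ω) ∈ A → ((ε x : S) : Ω) * x ∈ T) → (∀ x : S, (x : Ω) ∈ T → ε x = x) →
      ∀ g ∈ A, ∀ t ∈ T, g * t = t * g := by
    intro A B h' ε hi hf g hg t ht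
    obtain ⟨a, ha⟩ : ∃ a : S, a = ⟨g, h'.step₁.le hg⟩ := ⟨_, rfl⟩
    have haA : (a : Ω) ∈ A := ha ▸ hg
    obtain ⟨u, hu⟩ : ∃ u : S, u = ⟨t, h.TS ht⟩ := ⟨_, rfl⟩
    obtain ⟨c, hc⟩ : ∃ c : S, c = ε a * a := ⟨_, rfl⟩
    have hcT : (c : Ω) ∈ T := by rw [hc]; exact hi a haA
    have e := hf (a * u * a⁻¹) (by rw [ha, hu]; exact h.Tconj (h'.step₁.le hg) ht)
    rw [map_mul, map_mul, map_inv, show ε a = c * a⁻¹ by rw [hc, mul_inv_cancel_right],
      hf u (hu ▸ ht), mul_inv_rev, inv_inv] at e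
    have e1 : (c : Ω) * g⁻¹ * t * (g * (c : Ω)⁻¹) = g * t * g⁻¹ := by
      have := congrArg Subtype.val e
      rw [ha, hu] at this
      exact this
    have hconj : g⁻¹ * t * g ∈ T := by
      have := h.Tconj (inv_mem (h'.step₁.le hg)) ht
      rwa [inv_inv] at this
    rw [show (c : Ω) * g⁻¹ * t * (g * (c : Ω)⁻¹) = (c : Ω) * (g⁻¹ * t * g) * (c : Ω)⁻¹ by group,
      hTab _ hcT _ hconj, mul_inv_cancel_right] at e1
    have hsq : g * g ∈ Subgroup.centralizer {t} := by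
      rw [Subgroup.mem_centralizer_singleton_iff]
      calc g * g * t = g * (g * t * g⁻¹) * g := by group
        _ = g * (g⁻¹ * t * g) * g := by rw [e1]
        _ = t * (g * g) := by group
    exact Subgroup.mem_centralizer_singleton_iff.1 (mem_of_sq_mem hS h.odd (h'.step₁.le hg) hsq)
  have hTcen : ∀ s ∈ S, ∀ t ∈ T, s * t * s⁻¹ * t⁻¹ ∈ (⊥ : Subgroup Ω) := by
    obtain ⟨x, hx, hxD⟩ := h.symm.exists_x₁
    intro s hs t ht
    obtain ⟨e, he, i, rfl⟩ := h.step₁.gen (h.step₂.le hx) (fun h' => hxD ⟨hx, h'⟩) hs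
    have h1 : Commute e t := hcen1 h ε hεi hεf e he t ht
    have h2 : Commute x t := hcen1 h.symm ε' hε'i hε'f x hx t ht
    rw [Subgroup.mem_bot, (h1.mul_left (h2.zpow_left i)).eq, mul_inv_cancel_right, mul_inv_cancel]
  have hbot : S ≤ Subgroup.normalizer ((⊥ : Subgroup Ω) : Set Ω) :=
    le_normalizer_of_conj fun s _ x hx => by
      rw [Subgroup.mem_bot] at hx ⊢; rw [hx, mul_one, mul_inv_cancel]
  have habel := h.symm.comm_mod hbot hTcen hcD' hc₁ hε'm hε'q hε'i fun x hx => by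
    rw [hε'f x hx, mul_inv_cancel]; exact one_mem _
  have habel' : ∀ a ∈ E₁, ∀ b ∈ E₁, a * b = b * a := fun a ha b hb => by
    have := habel a ha b hb
    rwa [Subgroup.mem_bot, mul_inv_eq_one, mul_inv_eq_iff_eq_mul] at this
  -- an inverted element of order `p` outside `E₂`
  obtain ⟨g, hg, hgD⟩ := h.exists_x₁
  obtain ⟨a, ha⟩ : ∃ a : S, a = ⟨g, h.step₁.le hg⟩ := ⟨_, rfl⟩
  have haE : (a : Ω) ∈ E₁ := ha ▸ hg
  obtain ⟨c, hc'⟩ : ∃ c : S, c = ε a * a := ⟨_, rfl⟩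
  have hcT : (c : Ω) ∈ T := by rw [hc']; exact hεi a haE
  have hεa : ε a = c * a⁻¹ := by rw [hc', mul_inv_cancel_right]
  have hcomm : Commute c a := Subtype.ext (habel' _ (h.T_le₁ hcT) _ haE)
  obtain ⟨w, hw⟩ : ∃ w : S, w = a * (ε a)⁻¹ := ⟨_, rfl⟩
  have hwE : (w : Ω) ∈ E₁ := by
    rw [hw, hεa]
    exact mul_mem haE (inv_mem (mul_mem (h.T_le₁ hcT) (inv_mem haE)))
  have hεw : ε w = w⁻¹ := by
    have hεε : ε (ε a) = a := by
      rw [hεa, map_mul, hεf c hcT, map_inv, hεa, mul_inv_rev, inv_inv, ← mul_assoc, hcomm.eq,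
        mul_inv_cancel_right]
    rw [hw, map_mul, map_inv, hεε, mul_inv_rev, inv_inv]
  have hwp : (w : Ω) ^ p = 1 := by
    have hwT : ((w ^ p : S) : Ω) ∈ T := by rw [SubmonoidClass.coe_pow]; exact hp₁ _ hwE
    have e := hεf _ hwT
    rw [map_pow, hεw, inv_pow] at e
    have h2 : (w : Ω) ^ p * (w : Ω) ^ p ∈ (⊥ : Subgroup Ω) := by
      have : ((w ^ p * w ^ p : S) : Ω) = 1 := by
        conv_lhs => arg 1; arg 1; rw [← e]
        rw [inv_mul_cancel, Subgroup.coe_one]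
      rw [Subgroup.mem_bot]
      simpa using this
    exact Subgroup.mem_bot.1 (mem_of_sq_mem hS h.odd (h.TS (by simpa using hwT)) h2)
  have hw2 : (w : Ω) ∈ E₂ := hin ⟨hwE, hwp, fun e he => habel' _ hwE e he⟩
  refine hgD ⟨hg, mem_of_sq_mem hS h.odd (h.step₁.le hg) ?_⟩
  have e2 : w = a * a * c⁻¹ := by rw [hw, hεa, mul_inv_rev, inv_inv, mul_assoc]
  have h3 : ((a * a : S) : Ω) ∈ E₂ := by
    have := mul_mem hw2 (h.T_le₂ hcT)
    rw [e2] at this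
    simpa using this
  rw [ha] at h3
  exact h3

end Config

end CfsgLib.Fusion.TwoEssential
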