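import Cfsg.Agent.Lib.Fusion.TwoEssential.Mod

/-!
# Tools for the case `|S / T| = p³`
-/

set_option autoImplicit false

namespace CfsgLib.Fusion.TwoEssential

open Cfsg Cfsg.FusionSystem CfsgLib CfsgLib.Fusion CfsgLib.Fusion.RankThree CfsgLib.Fusion.NormalEssential

variable {p : ℕ} [hp : Fact p.Prime] {Ω : Type*} [Group Ω] {S : Subgroup Ω} [Finite S]
  {F : FusionSystem S} {E₁ E₂ T K N : Subgroup Ω}

/-- Commutators against an element twisted by a commuting one. -/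
theorem comm_twist {G : Type*} [Group G] {τ C D X y : G} (hy : C * X * C⁻¹ * X⁻¹ = y)
    (hτ : ∀ g, Commute τ g) (hyc : ∀ g, Commute y g) (hDC : Commute D C) :
    τ * C⁻¹ * (D * X) * (τ * C⁻¹)⁻¹ * (D * X)⁻¹ = y⁻¹ := by
  rw [show τ * C⁻¹ * (D * X) * (τ * C⁻¹)⁻¹ * (D * X)⁻¹ =
    τ * (C⁻¹ * (D * X) * C) * τ⁻¹ * (D * X)⁻¹ by group, (hτ _).eq, mul_inv_cancel_right,
    show C⁻¹ * (D * X) * C * (D * X)⁻¹ = C⁻¹ * D * (C * X * C⁻¹ * X⁻¹)⁻¹ * C * D⁻¹ by group, hy,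
    mul_assoc (C⁻¹ * D), ((hyc C).inv_left).eq, ← mul_assoc, mul_assoc C⁻¹ D C, hDC.eq,
    inv_mul_cancel_left, mul_assoc, ((hyc D⁻¹).inv_left).eq, mul_inv_cancel_left]

omit hp in
/-- Odd powers of an automorphism inverting modulo `T` invert modulo `T`. -/
theorem pow_odd_inv {δ : MulAut S} (hq : ∀ x : S, ((δ x : S) : Ω) * (x : Ω)⁻¹ ∈ K)
    (hi : ∀ x : S, (x : Ω) ∈ K → ((δ x : S) : Ω) * x ∈ T)
    (hTS : ∀ x : S, (x : Ω) ∈ T → ((δ x : S) : Ω) ∈ T)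
    (hn : ∀ k ∈ K, ∀ t ∈ T, k * t * k⁻¹ ∈ T) (m : ℕ) :
    (∀ x : S, (((δ ^ m) x : S) : Ω) * (x : Ω)⁻¹ ∈ K) ∧
      (Odd m → ∀ x : S, (x : Ω) ∈ K → (((δ ^ m) x : S) : Ω) * x ∈ T) := by
  have hKmem : ∀ x : S, (x : Ω) ∈ K → ((δ x : S) : Ω) ∈ K := fun x hx => by
    have := mul_mem (hq x) hx
    rwa [inv_mul_cancel_right] at this
  have hall : ∀ n : ℕ, ∀ x : S, (((δ ^ n) x : S) : Ω) * (x : Ω)⁻¹ ∈ K := by
    intro n
    induction n with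
    | zero => intro x; simp
    | succ n ih =>
      intro x
      rw [pow_succ', MulAut.mul_apply,
        show ((δ ((δ ^ n) x) : S) : Ω) * (x : Ω)⁻¹ =
          (((δ ((δ ^ n) x) : S) : Ω) * (((δ ^ n) x : S) : Ω)⁻¹) * ((((δ ^ n) x : S) : Ω) * (x : Ω)⁻¹) by
          group]
      exact mul_mem (hq _) (ih x)
  refine ⟨hall m, fun hm => ?_⟩
  obtain ⟨j, rfl⟩ := hm
  induction j with
  | zero => simpa using hi
  | succ j ih =>
    intro x hx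
    have hy : (((δ ^ (2 * j + 1)) x : S) : Ω) ∈ K := by
      have := mul_mem (hall (2 * j + 1) x) hx
      rwa [inv_mul_cancel_right] at this
    obtain ⟨y, hydef⟩ : ∃ y, y = (δ ^ (2 * j + 1)) x := ⟨_, rfl⟩
    rw [← hydef] at hy
    have e : (δ ^ (2 * (j + 1) + 1)) x = δ (δ y) := by
      rw [hydef, show 2 * (j + 1) + 1 = (2 * j + 1) + 1 + 1 by ring, pow_succ', pow_succ',
        MulAut.mul_apply, MulAut.mul_apply]
    rw [e]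
    have h1 := hi _ (hKmem y hy)
    have h2 := hi y hy
    have h3 := hn _ hy _ h2
    have h4 := mul_mem (mul_mem h1 (inv_mem h3)) (show ((y : S) : Ω) * x ∈ T from hydef ▸ ih x hx)
    rwa [show ((δ (δ y) : S) : Ω) * (δ y : S) * ((y : Ω) * (((δ y : S) : Ω) * y) * (y : Ω)⁻¹)⁻¹ *
      ((y : Ω) * x) = ((δ (δ y) : S) : Ω) * x by group] at h4

namespace Config

variable (h : Config p F E₁ E₂ T)
include h

theorem phi_le_T₁ (hcE : Nat.card E₁ = p ^ 2 * Nat.card T) : T ⊔ phi E₁ = T := by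
  have hp' := hp.out
  have := finite_le h.TS
  have hle : T ⊔ phi E₁ ≤ S := h.TΦ_le.trans h.DS
  have := finite_le hle
  obtain ⟨a, ha⟩ := (h.pg.to_le hle).exists_card_eq
  obtain ⟨b, hb⟩ := (h.pg.to_le h.TS).exists_card_eq
  have h1 := not_le.1 h.not_thin
  rw [hcE, ha, hb, ← pow_succ', ← pow_add] at h1
  have := (Nat.pow_lt_pow_iff_right hp'.one_lt).1 h1
  refine (Subgroup.eq_of_le_of_card_ge le_sup_left ?_).symm
  rw [ha, hb]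
  exact Nat.pow_le_pow_right hp'.pos (by omega)

theorem mem_top₁ (hK : T ⊔ phi E₁ = K) :
    (∀ a ∈ E₁, ∀ b ∈ E₁, a * b * a⁻¹ * b⁻¹ ∈ K) ∧ ∀ a ∈ E₁, a ^ p ∈ K := by
  have := finite_le h.step₁.le
  have hEp := h.pg.to_le h.step₁.le
  exact ⟨fun a ha b hb => hK ▸ Subgroup.mem_sup_right (mem_phi.2 (PGroups.commutator_le_frattini' hEp
      (Subgroup.commutator_mem_commutator (g₁ := (⟨a, ha⟩ : E₁)) (g₂ := ⟨b, hb⟩) trivial trivial))),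
    fun a ha => hK ▸ Subgroup.mem_sup_right
      (mem_phi.2 (PGroups.pow_mem_frattini hEp (⟨a, ha⟩ : E₁)))⟩

/-- The element inverting the top section of `E₁`. -/
theorem exists_torus₁ (hK : T ⊔ phi E₁ = K) (hcE : Nat.card E₁ = p ^ 2 * Nat.card K) :
    ∃ δ : MulAut S, Torus F E₁ K E₁ h.step₁.le h.step₁.norm δ := by
  obtain ⟨hc, he⟩ := h.mem_top₁ hK
  have hKi : Inv F E₁ K := hK ▸ h.TΦ_inv
  have hKE : K ≤ E₁ := hK ▸ h.TΦ_le.trans inf_le_left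
  refine exists_torus h.pg h.odd h.sat h.ess₁ h.step₁ hKE le_rfl hKi (inv_self E₁) hcE hc he hc ?_
    fun L hKL hLE hL hLi => ?_
  · obtain ⟨s, hs, x, hx, hsx⟩ := h.moves h.not_thin
    exact ⟨s, hs, x, hx, fun h' => hsx (hK.ge h')⟩
  · refine false_of_indices h.pg h.sec h.ess₁ h.step₁ (le_sup_right.trans hK.le) hKL hLE hKi hLi ?_ hL
    rw [hL, hcE]; ring

/-- `D` is invariant in no automizer with a section of order `p²` on top. -/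
theorem false_of_invD (hK : T ⊔ phi E₁ = K) (hcD : Nat.card (E₁ ⊓ E₂ : Subgroup Ω) = p * Nat.card K)
    (hi : Inv F E₁ (E₁ ⊓ E₂)) : False :=
  false_of_indices h.pg h.sec h.ess₁ h.step₁ (le_sup_right.trans hK.le) (hK ▸ h.TΦ_le) inf_le_left
    (hK ▸ h.TΦ_inv) hi h.card₁ hcD

/-- An invariant subgroup between `D` and `E₁` is `E₁`. -/
theorem le_of_invD (hK : T ⊔ phi E₁ = K) (hcD : Nat.card (E₁ ⊓ E₂ : Subgroup Ω) = p * Nat.card K)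
    {W : Subgroup Ω} (hD : E₁ ⊓ E₂ ≤ W) (hWE : W ≤ E₁) (hW : Inv F E₁ W) : E₁ ≤ W := by
  by_contra hle
  have hp' := hp.out
  have := finite_le h.DS
  have := finite_le (hWE.trans h.step₁.le)
  refine h.false_of_invD hK hcD ?_
  suffices hWeq : W = E₁ ⊓ E₂ by exact hWeq ▸ hW
  refine le_antisymm (fun w hw => ?_) hD
  by_contra hwD
  refine hle fun g hg => ?_
  obtain ⟨d, hd, i, rfl⟩ := h.gen₁ (hWE hw) hwD hg
  exact mul_mem (hD hd) (zpow_mem hw i)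

/-- The subgroup `D` above `K` and one element. -/
theorem genD (hKD : K ≤ E₁ ⊓ E₂) (hKn : S ≤ Subgroup.normalizer (K : Set Ω))
    (hcD : Nat.card (E₁ ⊓ E₂ : Subgroup Ω) = p * Nat.card K) {c : Ω} (hc : c ∈ E₁ ⊓ E₂) (hcK : c ∉ K)
    {d : Ω} (hd : d ∈ E₁ ⊓ E₂) : ∃ k ∈ K, ∃ i : ℤ, d = k * c ^ i := by
  have := finite_le h.DS
  exact (⟨hKD, h.DS.trans hKn, hcD⟩ : Step p (E₁ ⊓ E₂ : Subgroup Ω) K).gen hc hcK hd

/-- Where `S` centralizes `T / N` and some automorphism inverting `E₁ / T` fixes it, `E₂ / N` is abelian. -/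
theorem comm_mod (hNn : S ≤ Subgroup.normalizer (N : Set Ω))
    (hcen : ∀ s ∈ S, ∀ t ∈ T, s * t * s⁻¹ * t⁻¹ ∈ N)
    (hcD : Nat.card (E₁ ⊓ E₂ : Subgroup Ω) = p * Nat.card T)
    (h₂ : ∀ a ∈ E₂, ∀ b ∈ E₂, a * b * a⁻¹ * b⁻¹ ∈ T)
    {δ : MulAut S} (hδ : δ ∈ F.autGroup S) (hq : ∀ x : S, ((δ x : S) : Ω) * (x : Ω)⁻¹ ∈ E₁)
    (hi : ∀ x : S, (x : Ω) ∈ E₁ → ((δ x : S) : Ω) * x ∈ T)
    (hfix : ∀ x : S, (x : Ω) ∈ T → ((δ x : S) : Ω) * (x : Ω)⁻¹ ∈ N) :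
    ∀ a ∈ E₂, ∀ b ∈ E₂, a * b * a⁻¹ * b⁻¹ ∈ N := by
  have hT_le := h.le
  have := finite_le h.DS
  haveI : (N.subgroupOf S).Normal := ⟨fun x hx g => conj_mem_E hNn g.2 hx⟩
  let π : S →* S ⧸ N.subgroupOf S := QuotientGroup.mk' _
  have hπ : ∀ a : S, π a = 1 ↔ (a : Ω) ∈ N := fun a => QuotientGroup.eq_one_iff a
  have hcen' : ∀ (t : S), (t : Ω) ∈ T → ∀ g, Commute (π t) g := by
    intro t ht g
    obtain ⟨s, rfl⟩ := QuotientGroup.mk'_surjective _ g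
    exact ((comm_iff hπ).2 (hcen _ s.2 _ ht)).symm
  obtain ⟨c₀, hc₀, hc₀T⟩ : ∃ c ∈ E₁ ⊓ E₂, c ∉ T := by
    by_contra hc
    push Not at hc
    exact h.ne_D (le_antisymm h.le hc)
  have hgen : ∀ d : S, (d : Ω) ∈ E₁ ⊓ E₂ → ∃ t : S, (t : Ω) ∈ T ∧ ∃ i : ℤ,
      π d = π t * π ⟨c₀, h.DS hc₀⟩ ^ i := by
    intro d hd
    obtain ⟨t, ht, i, hdi⟩ := h.genD h.le h.T_norm hcD hc₀ hc₀T hd
    refine ⟨⟨t, h.TS ht⟩, ht, i, ?_⟩
    rw [← map_zpow, ← map_mul]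
    exact congrArg π (Subtype.ext (by simpa using hdi))
  have hDD : ∀ a b : S, (a : Ω) ∈ E₁ ⊓ E₂ → (b : Ω) ∈ E₁ ⊓ E₂ → Commute (π a) (π b) := by
    intro a b ha hb
    obtain ⟨t, ht, i, e⟩ := hgen a ha
    obtain ⟨t', ht', j, e'⟩ := hgen b hb
    rw [e, e']
    exact (hcen' t ht _).mul_left
      ((hcen' t' ht' _).symm.mul_right ((Commute.refl _).zpow_zpow i j))
  have hkey : ∀ c x : S, (c : Ω) ∈ E₁ ⊓ E₂ → (x : Ω) ∈ E₂ → Commute (π c) (π x) := by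
    intro c x hc hx
    obtain ⟨y, hydef⟩ : ∃ y, y = c * x * c⁻¹ * x⁻¹ := ⟨_, rfl⟩
    have hyT : (y : Ω) ∈ T := by rw [hydef]; exact h₂ _ hc.2 _ hx
    have hy : π c * π x * (π c)⁻¹ * (π x)⁻¹ = π y := by
      rw [hydef, map_mul, map_mul, map_mul, map_inv, map_inv]
    obtain ⟨τ, hτ⟩ : ∃ τ, τ = δ c * c := ⟨_, rfl⟩
    obtain ⟨d, hd⟩ : ∃ d, d = δ x * x⁻¹ := ⟨_, rfl⟩
    have hτT : (τ : Ω) ∈ T := by rw [hτ]; exact hi c hc.1
    have hdD : (d : Ω) ∈ E₁ ⊓ E₂ := by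
      rw [hd]
      exact ⟨hq x, mul_mem (h.auto₂ δ hδ x hx) (Subgroup.inv_mem _ hx)⟩
    have e : π (δ y) = π y := (eq_iff hπ).2 (hfix y hyT)
    rw [hydef, map_mul δ, map_mul δ, map_mul δ, map_inv δ, map_inv δ,
      show δ c = τ * c⁻¹ by rw [hτ, mul_inv_cancel_right],
      show δ x = d * x by rw [hd, inv_mul_cancel_right], map_mul π, map_mul π (_ * _),
      map_mul π (τ * c⁻¹), map_inv π, map_inv π, map_mul π τ, map_mul π d, map_inv π,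
      comm_twist hy (hcen' τ hτT) (hcen' y hyT) (hDD d c hdD hc), ← hydef] at e
    have : π y = 1 := eq_one_of_sq h.pg h.odd hπ (by
      conv_lhs => arg 1; rw [← e]
      rw [inv_mul_cancel])
    refine (comm_iff hπ).2 ((hπ y).1 this |> fun h' => ?_)
    rw [hydef] at h'
    exact h'
  obtain ⟨x, hx, hxD⟩ := h.symm.exists_x₁
  intro a ha b hb
  have hdec : ∀ a : S, (a : Ω) ∈ E₂ → ∃ d : S, (d : Ω) ∈ E₁ ⊓ E₂ ∧ ∃ i : ℤ,
      π a = π d * π ⟨x, h.step₂.le hx⟩ ^ i := by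
    intro a ha
    obtain ⟨d, hd, i, hai⟩ := h.symm.gen₁ hx hxD ha
    rw [inf_comm] at hd
    refine ⟨⟨d, h.DS hd⟩, hd, i, ?_⟩
    rw [← map_zpow, ← map_mul]
    exact congrArg π (Subtype.ext (by simpa using hai))
  obtain ⟨d, hd, i, ea⟩ := hdec ⟨a, h.step₂.le ha⟩ ha
  obtain ⟨d', hd', j, eb⟩ := hdec ⟨b, h.step₂.le hb⟩ hb
  refine (comm_iff hπ (a := ⟨a, h.step₂.le ha⟩) (b := ⟨b, h.step₂.le hb⟩)).1 ?_
  rw [ea, eb]
  exact ((hDD d d' hd hd').mul_right ((hkey d _ hd hx).zpow_right j)).mul_left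
    (((hkey d' _ hd' hx).symm.zpow_left i).mul_right ((Commute.refl _).zpow_zpow i j))

end Config

end CfsgLib.Fusion.TwoEssential
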