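import Cfsg.Agent.Lib.Fusion.TwoEssential.Three

/-!
# `|S / T| = p³` with no element outside `T` centralizing `T / Φ(T)`
-/

set_option autoImplicit false

namespace CfsgLib.Fusion.TwoEssential

open Cfsg Cfsg.FusionSystem CfsgLib CfsgLib.Fusion CfsgLib.Fusion.RankThree CfsgLib.Fusion.NormalEssential
open scoped commutatorElement

variable {p : ℕ} [hp : Fact p.Prime] {Ω : Type*} [Group Ω] {S : Subgroup Ω} [Finite S]
  {F : FusionSystem S} {E₁ E₂ T : Subgroup Ω}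

omit hp [Finite S] in
/-- Commutators of elements twisted into inverses. -/
theorem comm_inv_twist {G : Type*} [Group G] {e f r a b : G} (hr : e * f * e⁻¹ * f⁻¹ = r)
    (hre : Commute r e) (hrf : Commute r f) (ha : ∀ g, Commute a g) (hb : ∀ g, Commute b g) :
    (a * e⁻¹) * (b * f⁻¹) * (a * e⁻¹)⁻¹ * (b * f⁻¹)⁻¹ = r := by
  rw [show (a * e⁻¹) * (b * f⁻¹) * (a * e⁻¹)⁻¹ * (b * f⁻¹)⁻¹ =
    a * (e⁻¹ * b * (f⁻¹ * e)) * a⁻¹ * f * b⁻¹ by group, (ha _).eq, mul_inv_cancel_right,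
    ((hb e⁻¹).symm).eq, show b * e⁻¹ * (f⁻¹ * e) * f * b⁻¹ = b * (e⁻¹ * f⁻¹ * (e * f * e⁻¹ * f⁻¹) *
      f * e) * b⁻¹ by group, hr, (hb _).eq, mul_inv_cancel_right, mul_assoc _ r f, hrf.eq,
    ← mul_assoc, inv_mul_cancel_right, mul_assoc, hre.eq, inv_mul_cancel_left]

namespace Config

variable (h : Config p F E₁ E₂ T)
include h

theorem phiT_le_CMod {A : Subgroup Ω} (hA : A ≤ S) : phi T ≤ CMod h.phiT_norm A ⊓ T :=
  fun _ hx => ⟨⟨h.TS (phi_le hx), fun a ha => by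
    rw [mul_assoc, mul_assoc, ← mul_assoc _ _ a⁻¹]
    exact mul_mem hx (h.phiTconj (hA ha) (inv_mem hx))⟩, phi_le hx⟩

theorem card_T_le : Nat.card T ≤ p ^ 3 * Nat.card (phi T) := by
  have := finite_le h.TS
  rw [phi, Subgroup.card_map_of_injective T.subtype_injective, ← (frattini T).card_mul_index,
    mul_comm (p ^ 3)]
  exact Nat.mul_le_mul_left _ (index_frattini_le h.pg h.sec h.TS)

/-- Where `C = T`, some commutator acts nontrivially. -/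
theorem moves_T (hC : h.C = T) :
    ∃ s ∈ S, ∃ x ∈ E₁, s * x * s⁻¹ * x⁻¹ ∉ h.C := by
  obtain ⟨s, hs, x, hx, hsx⟩ := h.moves h.not_thin
  exact ⟨s, hs, x, hx, fun h' => hsx (Subgroup.mem_sup_left (hC.le h'))⟩

/-- `|T / Φ(T)| = p³` and the series below it. -/
theorem exists_line (hC : h.C = T) :
    p ^ 2 * Nat.card (phi T) < Nat.card T ∧ ∃ L : Subgroup Ω, phi T ≤ L ∧ L ≤ T ∧
      Nat.card (phi T) < Nat.card L ∧ (∀ x ∈ L, x ∈ CMod h.phiT_norm S) ∧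
      ∀ s ∈ S, ∀ x ∈ S, ∀ t ∈ T, (s * x * s⁻¹ * x⁻¹) * t * (s * x * s⁻¹ * x⁻¹)⁻¹ * t⁻¹ ∈ L := by
  classical
  have hp' := hp.out
  have := finite_le h.TS
  have hTp := h.pg.to_le h.TS
  letI : CommGroup (T ⧸ frattini T) :=
    { (inferInstance : Group (T ⧸ frattini T)) with mul_comm := quot_comm hTp }
  have hV : IsPGroup p (T ⧸ frattini T) := hTp.to_quotient _
  have hcV : Nat.card (T ⧸ frattini T) ≤ p ^ 3 := index_frattini_le h.pg h.sec h.TS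
  have hcT : Nat.card T = Nat.card (T ⧸ frattini T) * Nat.card (phi T) := by
    rw [phi, Subgroup.card_map_of_injective T.subtype_injective,
      (frattini T).card_eq_card_quotient_mul_card_subgroup]
  have hbig : p ^ 2 * Nat.card (phi T) < Nat.card T := by
    by_contra hle
    push Not at hle
    rw [hcT] at hle
    have h2 : Nat.card (T ⧸ frattini T) ≤ p ^ 2 := Nat.le_of_mul_le_mul_right hle
      (have := finite_le (phi_le.trans h.TS : phi T ≤ S); Nat.card_pos)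
    obtain ⟨s, hs, x, hx, hsx⟩ := h.moves_T hC
    refine hsx ((h.act_eq_one_of_mem_C (s := ⁅(⟨s, hs⟩ : S), ⟨x, h.step₁.le hx⟩⁆)).1 ?_)
    exact (double_comm (f := act h.T_norm) h.pg hV hcV 1 _ _).2 h2
  refine ⟨hbig, ?_⟩
  obtain ⟨L, P, -, hLf, hPf, hf, -, hL1⟩ := exists_chain (f := act h.T_norm) h.pg hV hcV
  have hmk : ∀ {a b : T}, (a : T ⧸ frattini T) = (b : T ⧸ frattini T) ↔
      (a : Ω) * (b : Ω)⁻¹ ∈ phi T := fun {a b} => by
    rw [← mul_inv_eq_one, ← QuotientGroup.mk_inv, ← QuotientGroup.mk_mul, QuotientGroup.eq_one_iff]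
    exact mem_phi.symm
  obtain ⟨L', hL'⟩ : ∃ L', L' = (L.comap (QuotientGroup.mk' (frattini T))).map T.subtype := ⟨_, rfl⟩
  have hmem : ∀ {t : T}, (t : Ω) ∈ L' ↔ (t : T ⧸ frattini T) ∈ L := fun {t} => by
    rw [hL']
    exact Subgroup.mem_map_iff_mem T.subtype_injective
  have hL'T : L' ≤ T := hL' ▸ Subgroup.map_subtype_le _
  have hΦL : phi T ≤ L' := fun x hx => (hmem (t := ⟨x, phi_le hx⟩)).2 (by
    rw [(QuotientGroup.eq_one_iff _).2 (mem_phi.1 (hx : ((⟨x, phi_le hx⟩ : T) : Ω) ∈ phi T))]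
    exact one_mem _)
  refine ⟨L', hΦL, hL'T, ?_, fun x hx => ⟨h.TS (hL'T hx), fun s hs => comm_symm ?_⟩, ?_⟩
  · have := finite_le (hL'T.trans h.TS)
    refine lt_of_le_of_ne (Subgroup.card_le_of_le hΦL) fun e => ?_
    haveI : Nontrivial (T ⧸ frattini T) := by
      rw [← Finite.one_lt_card_iff_nontrivial]
      by_contra h1
      rw [hcT] at hbig
      have h2 := Nat.lt_of_mul_lt_mul_right hbig
      have h3 : 1 ≤ p ^ 2 := Nat.one_le_pow _ _ hp'.pos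
      omega
    obtain ⟨v, hv, hv1⟩ := (Subgroup.bot_or_exists_ne_one L).resolve_left (hL1 inferInstance)
    obtain ⟨t, rfl⟩ := QuotientGroup.mk'_surjective _ v
    refine hv1 ((QuotientGroup.eq_one_iff _).2 (mem_phi.1 ?_))
    rw [Subgroup.eq_of_le_of_card_ge hΦL e.ge]
    exact hmem.2 hv
  · have h1 := hLf ⟨s, hs⟩ _ ((hmem (t := ⟨x, hL'T hx⟩)).1 hx)
    rw [act_apply] at h1
    exact hmk.1 h1
  · intro s hs x hx t ht
    obtain ⟨c, hc⟩ : ∃ c : S, c = ⁅(⟨s, hs⟩ : S), ⟨x, hx⟩⁆ := ⟨_, rfl⟩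
    have h1 := ((comm_shift hLf hPf hf (⟨s, hs⟩ : S) ⟨x, hx⟩).2 ((⟨t, ht⟩ : T) : T ⧸ frattini T))
    rw [← hc, act_apply, mul_comm, ← QuotientGroup.mk_inv, ← QuotientGroup.mk_mul] at h1
    have h2 := hmem.2 h1
    rw [hc] at h2
    exact h2

set_option maxHeartbeats 800000 in
/-- `E₁` cannot fix just a line of `T / Φ(T)`. -/
theorem false_of_small (hc : Nat.card S = p ^ 3 * Nat.card T) (hC : h.C = T)
    (hlt : p * Nat.card (CMod h.phiT_norm E₁ ⊓ T : Subgroup Ω) < Nat.card T) : False := by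
  have hp' := hp.out
  have hS := h.pg
  have hES := h.step₁.le
  have := finite_le hES
  have := finite_le h.TS
  obtain ⟨hbig, L, hΦL, hLT, hcL, hLS, hcL'⟩ := h.exists_line hC
  obtain ⟨hcD, hcE⟩ := h.three_cards hc
  have hK0 := h.phi_le_T₁ hcE
  obtain ⟨hc₁, hp₁⟩ := h.mem_top₁ hK0
  obtain ⟨K, hK⟩ : ∃ K, K = CMod h.phiT_norm E₁ ⊓ T := ⟨_, rfl⟩
  rw [← hK] at hlt
  have hKT : K ≤ T := hK ▸ inf_le_right
  have := finite_le (hKT.trans h.TS)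
  have := finite_le ((phi_le (E := T)).trans h.TS)
  have hLK : L ≤ K := hK ▸ fun x hx => ⟨⟨h.TS (hLT hx), fun e he => (hLS x hx).2 e (hES he)⟩, hLT hx⟩
  -- orders
  obtain ⟨t, ht⟩ := (hS.to_le h.TS).exists_card_eq
  obtain ⟨k, hk⟩ := (hS.to_le (hKT.trans h.TS)).exists_card_eq
  obtain ⟨f, hf⟩ := (hS.to_le (phi_le.trans h.TS : phi T ≤ S)).exists_card_eq
  have hcK : Nat.card K = p * Nat.card (phi T) ∧ Nat.card T = p ^ 2 * Nat.card K := by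
    have h1 := h.card_T_le
    have h2 := hcL.trans_le (Subgroup.card_le_of_le hLK)
    have h3 := hbig
    rw [ht, hf, ← pow_add] at h1 h3
    rw [hk, hf] at h2
    rw [hk, ht, ← pow_succ'] at hlt
    have := (Nat.pow_le_pow_iff_right hp'.one_lt).1 h1
    have := (Nat.pow_lt_pow_iff_right hp'.one_lt).1 h2
    have := (Nat.pow_lt_pow_iff_right hp'.one_lt).1 h3
    have := (Nat.pow_lt_pow_iff_right hp'.one_lt).1 hlt
    rw [hk, hf, ht, ← pow_succ', ← pow_add]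
    exact ⟨congrArg _ (by omega), congrArg _ (by omega)⟩
  have hKL : L = K := by
    refine Subgroup.eq_of_le_of_card_ge hLK ?_
    have := finite_le (hLT.trans h.TS)
    obtain ⟨l, hl⟩ := (hS.to_le (hLT.trans h.TS)).exists_card_eq
    rw [hcK.1, hf, hl, ← pow_succ']
    rw [hl, hf] at hcL
    have := (Nat.pow_lt_pow_iff_right hp'.one_lt).1 hcL
    exact Nat.pow_le_pow_right hp'.pos (by omega)
  subst hKL
  have hKS : ∀ s ∈ S, ∀ x ∈ L, s * x * s⁻¹ * x⁻¹ ∈ phi T := fun s hs x hx =>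
    comm_symm ((hLS x hx).2 s hs)
  have hKi : Inv F E₁ L := by
    have h1 := (CMod_inv h.phiT_norm hES le_rfl (h.inv₁.phi h.T_le₁ hES) (inv_self E₁)).inf h.inv₁
    rwa [inf_assoc, inf_eq_right.2 h.T_le₁, ← hK] at h1
  have hKn : S ≤ Subgroup.normalizer (L : Set Ω) :=
    hKi.normalizer hES h.step₁.norm (hLT.trans h.T_le₁)
  have hTT : ∀ a ∈ T, ∀ b ∈ T, a * b * a⁻¹ * b⁻¹ ∈ phi T := fun a ha => (h.T_le_C ha).2
  -- `E₁` moves `T` into the line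
  have hEW : E₁ ≤ CMod hKn T := by
    refine (h.le_of_invD hK0 hcD (W := CMod hKn T ⊓ E₁) (fun d hd => ⟨?_, hd.1⟩) inf_le_right
      (CMod_inv hKn hES h.T_le₁ hKi h.inv₁)).trans inf_le_left
    obtain ⟨s, hs, x, hx, hsx⟩ := h.moves_T hC
    obtain ⟨u, hu, i, rfl⟩ := h.genD h.le h.T_norm hcD (h.comm_mem_D hs (hES hx))
      (fun h' => hsx (hC.ge h')) hd
    show _ ∈ CMod hKn T
    exact mul_mem (⟨h.TS hu, fun a ha => hΦL (hTT u hu a ha)⟩ : u ∈ CMod hKn T)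
      (zpow_mem (⟨h.DS (h.comm_mem_D hs (hES hx)), fun a ha => hcL' s hs x (hES hx) a ha⟩ :
        s * x * s⁻¹ * x⁻¹ ∈ CMod hKn T) i)
  obtain ⟨δ, hδ⟩ := h.exists_torus₁ hK0 hcE
  have hfix := hδ.fix hKi (h.inv₁.phi h.T_le₁ hES) (hLT.trans h.T_le₁) hKS
  have hTm : ∀ x : S, (x : Ω) ∈ T → ((δ x : S) : Ω) ∈ T := fun x hx => h.invS δ hδ.mem x hx
  haveI : ((phi T).subgroupOf S).Normal := ⟨fun x hx g => h.phiTconj g.2 hx⟩
  let π : S →* S ⧸ (phi T).subgroupOf S := QuotientGroup.mk' _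
  have hπ : ∀ a : S, π a = 1 ↔ (a : Ω) ∈ phi T := fun a => QuotientGroup.eq_one_iff a
  have hKc : ∀ z : S, (z : Ω) ∈ L → ∀ e : S, (e : Ω) ∈ E₁ → Commute (π z) (π e) :=
    fun z hz e he => (comm_iff hπ).2 (comm_symm (hKS _ e.2 _ hz))
  -- it inverts `T` modulo the line
  have hneg : ∀ u : S, (u : Ω) ∈ T → ((δ u : S) : Ω) * u ∈ L := by
    intro u hu
    rw [hK]
    refine ⟨⟨S.mul_mem (δ u).2 u.2, fun a ha => comm_symm ?_⟩, mul_mem (hTm u hu) hu⟩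
    obtain ⟨e, he⟩ : ∃ e : S, e = ⟨a, hES ha⟩ := ⟨_, rfl⟩
    have heE : (e : Ω) ∈ E₁ := he ▸ ha
    obtain ⟨X, hX⟩ : ∃ X, X = e * u * e⁻¹ * u⁻¹ := ⟨_, rfl⟩
    obtain ⟨X', hX'⟩ : ∃ X', X' = e * δ u * e⁻¹ * (δ u)⁻¹ := ⟨_, rfl⟩
    have hXL : (X : Ω) ∈ L := by rw [hX]; exact (hEW heE).2 _ hu
    have hX'L : (X' : Ω) ∈ L := by rw [hX']; exact (hEW heE).2 _ (hTm u hu)
    obtain ⟨τ, hτ⟩ : ∃ τ, τ = δ e * e := ⟨_, rfl⟩
    have hτT : (τ : Ω) ∈ T := by rw [hτ]; exact hδ.inv e heE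
    have hc1 : Commute (π τ) (π (δ u)) := (comm_iff hπ).2 (hTT _ hτT _ (hTm u hu))
    have hc2 : Commute (π τ) (π X'⁻¹) :=
      (comm_iff hπ).2 (hTT _ hτT _ (hLT (inv_mem hX'L)))
    have hc3 : Commute (π X'⁻¹) (π e) := hKc _ (inv_mem hX'L) e heE
    have hfixX : π (δ X) = π X := (eq_iff hπ).2 (hfix X hXL)
    rw [hX, map_mul δ, map_mul δ, map_mul δ, map_inv δ, map_inv δ,
      show δ e = τ * e⁻¹ by rw [hτ, mul_inv_cancel_right], ← hX,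
      show τ * e⁻¹ * δ u * (τ * e⁻¹)⁻¹ * (δ u)⁻¹ = τ * (e⁻¹ * X'⁻¹ * e) * (δ u) * τ⁻¹ * (δ u)⁻¹ by
        rw [hX']; group, map_mul, map_mul, map_mul, map_mul, map_mul, map_mul, map_inv π τ,
      map_inv π (δ u), map_inv π e, mul_assoc (π e)⁻¹, hc3.eq, inv_mul_cancel_left,
      (hc2.eq), mul_assoc (π X'⁻¹) (π τ), hc1.eq, ← mul_assoc, mul_inv_cancel_right,
      mul_inv_cancel_right, map_inv] at hfixX
    have hgoal : π (e * (δ u * u) * e⁻¹ * (δ u * u)⁻¹) = 1 := by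
      rw [show e * (δ u * u) * e⁻¹ * (δ u * u)⁻¹ =
        (e * δ u * e⁻¹ * (δ u)⁻¹) * (δ u * (e * u * e⁻¹ * u⁻¹) * (δ u)⁻¹) by group, ← hX, ← hX',
        map_mul, map_mul, map_mul, map_inv, ← hfixX,
        ((hKc X' hX'L (δ u) (h.T_le₁ (hTm u hu))).inv_left).symm.eq, mul_inv_cancel_right,
        mul_inv_cancel]
    have h2 := (hπ _).1 hgoal
    rw [he] at h2
    exact h2
  -- so `E₁ / L` is abelian
  haveI : (L.subgroupOf S).Normal := ⟨fun x hx g => conj_mem_E hKn g.2 hx⟩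
  let ρ : S →* S ⧸ L.subgroupOf S := QuotientGroup.mk' _
  have hρ : ∀ a : S, ρ a = 1 ↔ (a : Ω) ∈ L := fun a => QuotientGroup.eq_one_iff a
  have hab : ∀ a ∈ E₁, ∀ b ∈ E₁, a * b * a⁻¹ * b⁻¹ ∈ L := by
    intro a ha b hb
    obtain ⟨e, he⟩ : ∃ e : S, e = ⟨a, hES ha⟩ := ⟨_, rfl⟩
    obtain ⟨g, hg⟩ : ∃ g : S, g = ⟨b, hES hb⟩ := ⟨_, rfl⟩
    have heE : (e : Ω) ∈ E₁ := he ▸ ha
    have hgE : (g : Ω) ∈ E₁ := hg ▸ hb
    obtain ⟨r, hr⟩ : ∃ r, r = e * g * e⁻¹ * g⁻¹ := ⟨_, rfl⟩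
    have hrT : (r : Ω) ∈ T := by rw [hr]; exact hc₁ _ heE _ hgE
    have hcen : ∀ v : S, (v : Ω) ∈ T → ∀ w : S, (w : Ω) ∈ E₁ → Commute (ρ v) (ρ w) :=
      fun v hv w hw => (comm_iff hρ).2 (comm_symm ((hEW hw).2 _ hv))
    obtain ⟨τ, hτ⟩ : ∃ τ, τ = δ e * e := ⟨_, rfl⟩
    obtain ⟨τ', hτ'⟩ : ∃ τ', τ' = δ g * g := ⟨_, rfl⟩
    have hτT : (τ : Ω) ∈ T := by rw [hτ]; exact hδ.inv e heE
    have hτ'T : (τ' : Ω) ∈ T := by rw [hτ']; exact hδ.inv g hgE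
    let Ē : Subgroup (S ⧸ L.subgroupOf S) := (E₁.subgroupOf S).map ρ
    have hm : ∀ w : S, (w : Ω) ∈ E₁ → ρ w ∈ Ē := fun w hw => ⟨w, hw, rfl⟩
    have hcĒ : ∀ v : S, ∀ hv : (v : Ω) ∈ T, ∀ x : Ē, Commute (⟨ρ v, hm v (h.T_le₁ hv)⟩ : Ē) x := by
      intro v hv x
      obtain ⟨w, hw, hwx⟩ := x.2
      exact Subtype.ext (by rw [Subgroup.coe_mul, Subgroup.coe_mul, ← hwx]; exact hcen v hv w hw)
    have key := congrArg Subtype.val (comm_inv_twist (e := (⟨ρ e, hm e heE⟩ : Ē))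
      (f := ⟨ρ g, hm g hgE⟩) (r := ⟨ρ r, hm r (h.T_le₁ hrT)⟩)
      (Subtype.ext (by
        simp only [Subgroup.coe_mul, Subgroup.coe_inv]
        rw [← map_inv, ← map_inv, ← map_mul, ← map_mul, ← map_mul]
        exact congrArg ρ hr.symm))
      (hcĒ r hrT _) (hcĒ r hrT _) (hcĒ τ hτT) (hcĒ τ' hτ'T))
    simp only [Subgroup.coe_mul, Subgroup.coe_inv] at key
    have hρneg : ρ (δ r) * ρ r = 1 := by rw [← map_mul, hρ]; exact hneg r hrT
    rw [show δ r = (τ * e⁻¹) * (τ' * g⁻¹) * (τ * e⁻¹)⁻¹ * (τ' * g⁻¹)⁻¹ by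
        rw [hr, map_mul, map_mul, map_mul, map_inv, map_inv, hτ, hτ', mul_inv_cancel_right,
          mul_inv_cancel_right],
      map_mul ρ, map_mul ρ, map_mul ρ, map_inv ρ, map_inv ρ, map_mul ρ τ, map_mul ρ τ',
      map_inv ρ, map_inv ρ, key] at hρneg
    have h1 := (hρ r).1 (eq_one_of_sq hS h.odd hρ hρneg)
    rw [hr, he, hg] at h1
    exact h1
  have hpow : ∀ a ∈ E₁, a ^ p ∈ L := by
    intro a ha
    rw [hK]
    refine ⟨⟨pow_mem (hES ha) p, fun b hb => comm_symm ?_⟩, hp₁ a ha⟩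
    obtain ⟨e, he⟩ : ∃ e : S, e = ⟨a, hES ha⟩ := ⟨_, rfl⟩
    obtain ⟨g, hg⟩ : ∃ g : S, g = ⟨b, hES hb⟩ := ⟨_, rfl⟩
    have heE : (e : Ω) ∈ E₁ := he ▸ ha
    have hgE : (g : Ω) ∈ E₁ := hg ▸ hb
    obtain ⟨k, hk⟩ : ∃ k, k = g * e * g⁻¹ * e⁻¹ := ⟨_, rfl⟩
    have hkL : (k : Ω) ∈ L := by rw [hk]; exact hab _ hgE _ heE
    have h2 : π k ^ p = 1 := by
      rw [← map_pow, hπ, SubmonoidClass.coe_pow]
      exact mem_phi.2 (PGroups.pow_mem_frattini (hS.to_le h.TS) (⟨_, hLT hkL⟩ : T))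
    have h3 : Commute (π g) (π (e ^ p)) := by
      refine mul_inv_eq_iff_eq_mul.1 ?_
      rw [map_pow, ← conj_pow, show π g * π e * (π g)⁻¹ = π k * π e by
        rw [← map_inv, ← map_mul, ← map_mul, ← map_mul, hk, inv_mul_cancel_right],
        (hKc k hkL e heE).mul_pow, h2, one_mul]
    have h4 := (comm_iff hπ).1 h3
    rw [he, hg] at h4
    exact h4
  have hle := card_le_of_elementary_mod h.sec hES (hLT.trans h.T_le₁)
    (fun a ha x hx => conj_mem_E hKn (hES ha) hx) hab hpow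
  rw [hcE, hcK.2, ← mul_assoc, ← pow_add] at hle
  have h4 := Nat.le_of_mul_le_mul_right hle Nat.card_pos
  have := (Nat.pow_le_pow_iff_right hp'.one_lt).1 h4
  omega

/-- Some element outside `T` centralizes `T / Φ(T)`. -/
theorem false_of_three_trivial (hc : Nat.card S = p ^ 3 * Nat.card T) (hC : h.C = T) : False := by
  classical
  have hp' := hp.out
  have := finite_le h.TS
  obtain ⟨K₁, hK₁⟩ : ∃ K, K = CMod h.phiT_norm E₁ ⊓ T := ⟨_, rfl⟩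
  obtain ⟨K₂, hK₂⟩ : ∃ K, K = CMod h.phiT_norm E₂ ⊓ T := ⟨_, rfl⟩
  have hb₁ : Nat.card T ≤ p * Nat.card K₁ := not_lt.1 fun hlt => h.false_of_small hc hC (hK₁ ▸ hlt)
  have hb₂ : Nat.card T ≤ p * Nat.card K₂ :=
    not_lt.1 fun hlt => h.symm.false_of_small hc hC (hK₂ ▸ hlt)
  have hK₁T : K₁ ≤ T := hK₁ ▸ inf_le_right
  have hK₂T : K₂ ≤ T := hK₂ ▸ inf_le_right
  obtain ⟨s, hs, x, hx, hsx⟩ := h.moves_T hC
  have hcD := h.comm_mem_D hs (h.step₁.le hx)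
  refine hsx ?_
  by_cases hsup : T ≤ K₁ ⊔ K₂
  · -- the two axes generate
    have hle : K₁ ⊔ K₂ ≤ CMod h.phiT_norm (Subgroup.zpowers (s * x * s⁻¹ * x⁻¹)) := by
      refine sup_le (hK₁ ▸ fun y hy => ⟨hy.1.1, fun a ha => hy.1.2 a ?_⟩)
        (hK₂ ▸ fun y hy => ⟨hy.1.1, fun a ha => hy.1.2 a ?_⟩)
      · exact Subgroup.zpowers_le.2 hcD.1 ha
      · exact Subgroup.zpowers_le.2 hcD.2 ha
    exact ⟨h.DS hcD, fun t ht => comm_symm ((hle (hsup ht)).2 _ (Subgroup.mem_zpowers _))⟩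
  · -- a common axis
    obtain ⟨W, hW⟩ : ∃ W, W = K₁ ⊔ K₂ := ⟨_, rfl⟩
    rw [← hW] at hsup
    have hWT : W ≤ T := hW ▸ sup_le hK₁T hK₂T
    have := finite_le (hWT.trans h.TS)
    have := finite_le (hK₁T.trans h.TS)
    have := finite_le (hK₂T.trans h.TS)
    obtain ⟨t, ht⟩ := (h.pg.to_le h.TS).exists_card_eq
    obtain ⟨w, hw⟩ := (h.pg.to_le (hWT.trans h.TS)).exists_card_eq
    have hwt : w < t := (Nat.pow_lt_pow_iff_right hp'.one_lt).1 (ht ▸ hw ▸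
      lt_of_le_of_ne (Subgroup.card_le_of_le hWT) fun e =>
        hsup (Subgroup.eq_of_le_of_card_ge hWT e.ge).ge)
    have key : ∀ {Kᵢ : Subgroup Ω}, Kᵢ ≤ W → Nat.card T ≤ p * Nat.card Kᵢ → Finite Kᵢ →
        Kᵢ = W ∧ Nat.card T = p * Nat.card W := by
      intro Kᵢ hle hb _
      obtain ⟨k, hk⟩ := (h.pg.to_le (hle.trans (hWT.trans h.TS))).exists_card_eq
      have h1 := Subgroup.card_le_of_le hle
      rw [hk, ht, ← pow_succ'] at hb
      rw [hk, hw] at h1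
      have := (Nat.pow_le_pow_iff_right hp'.one_lt).1 hb
      have := (Nat.pow_le_pow_iff_right hp'.one_lt).1 h1
      refine ⟨Subgroup.eq_of_le_of_card_ge hle ?_, ?_⟩
      · rw [hk, hw]; exact Nat.pow_le_pow_right hp'.pos (by omega)
      · rw [ht, hw, ← pow_succ']; exact congrArg _ (by omega)
    obtain ⟨e₁, hcW⟩ := key (Kᵢ := K₁) (hW ▸ le_sup_left) hb₁ inferInstance
    obtain ⟨e₂, -⟩ := key (Kᵢ := K₂) (hW ▸ le_sup_right) hb₂ inferInstance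
    have hfix : ∀ g ∈ S, ∀ y ∈ W, g * y * g⁻¹ * y⁻¹ ∈ phi T := by
      intro g hg y hy
      obtain ⟨z, hz, hzD⟩ := h.symm.exists_x₁
      have hy1 : y ∈ CMod h.phiT_norm E₁ := (hK₁ ▸ e₁.symm ▸ hy : y ∈ CMod h.phiT_norm E₁ ⊓ T).1
      have hy2 : y ∈ CMod h.phiT_norm E₂ := (hK₂ ▸ e₂.symm ▸ hy : y ∈ CMod h.phiT_norm E₂ ⊓ T).1
      obtain ⟨e, he, i, rfl⟩ := h.step₁.gen (h.step₂.le hz) (fun h' => hzD ⟨hz, h'⟩) hg
      have hm : e * z ^ i ∈ CMod h.phiT_norm (Subgroup.zpowers y) := by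
        refine mul_mem (?_ : e ∈ CMod h.phiT_norm (Subgroup.zpowers y))
          (zpow_mem (?_ : z ∈ CMod h.phiT_norm (Subgroup.zpowers y)) i) <;>
          [refine ⟨h.step₁.le he, fun a ha => comm_symm ?_⟩;
           refine ⟨h.step₂.le hz, fun a ha => comm_symm ?_⟩]
        · have : a ∈ CMod h.phiT_norm E₁ := Subgroup.zpowers_le.2 hy1 ha
          exact this.2 e he
        · have : a ∈ CMod h.phiT_norm E₂ := Subgroup.zpowers_le.2 hy2 ha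
          exact this.2 z hz
      exact hm.2 y (Subgroup.mem_zpowers y)
    have hΦW : phi T ≤ W := fun y hy => hW ▸ Subgroup.mem_sup_left
      (hK₁ ▸ h.phiT_le_CMod h.step₁.le hy)
    have hWn : S ≤ Subgroup.normalizer (W : Set Ω) := le_normalizer_of_conj fun g hg y hy => by
      have := mul_mem (hΦW (hfix g hg y hy)) hy
      rwa [inv_mul_cancel_right] at this
    letI : CommGroup (T ⧸ frattini T) :=
      { (inferInstance : Group (T ⧸ frattini T)) with mul_comm := quot_comm (h.pg.to_le h.TS) }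
    refine (h.act_eq_one_of_mem_C (s := ⁅(⟨s, hs⟩ : S), ⟨x, h.step₁.le hx⟩⁆)).1 ?_
    refine comm_of_two_step (f := act h.T_norm)
      (K := (W.subgroupOf T).map (QuotientGroup.mk' (frattini T))) ?_ ?_ _ _
    · rintro g _ ⟨y, hy, rfl⟩
      refine (QuotientGroup.eq.2 ?_).symm
      have h1 := h.phiTconj (inv_mem (h.TS y.2)) (hfix g g.2 y hy)
      refine mem_phi.1 ?_
      simpa [mul_assoc] using h1
    · intro g v
      obtain ⟨y, rfl⟩ := QuotientGroup.mk'_surjective _ v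
      rw [QuotientGroup.mk'_apply, act_apply, ← QuotientGroup.mk_inv, ← QuotientGroup.mk_mul]
      refine ⟨_, ?_, rfl⟩
      have h1 := central_step h.pg hWT h.TS hWn h.T_norm hcW g.2 y.2
      have h2 := conj_mem_E hWn (inv_mem (h.TS y.2)) h1
      show (y : Ω)⁻¹ * ((g : Ω) * y * (g : Ω)⁻¹) ∈ W
      simpa [mul_assoc] using h2

end Config

end CfsgLib.Fusion.TwoEssential
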