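import Cfsg.Agent.Lib.Fusion.TwoEssential.Flag

/-!
# The element acting as `-1` on a natural section of a normal essential subgroup

If no line of a section `W / K` of order `p²` is invariant and `S` acts on it nontrivially, some
automorphism of `S` inverts `W / K`, is trivial on `S / E`, and restricts to `E` into every normal
subgroup of the automizer containing the automorphisms given by `S`.
-/

set_option autoImplicit false

namespace CfsgLib.Fusion.TwoEssential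

open Cfsg Cfsg.FusionSystem CfsgLib CfsgLib.Fusion CfsgLib.Fusion.RankThree CfsgLib.Fusion.NormalEssential
open CfsgLib.Fusion.TransvAut

variable {p : ℕ} [hp : Fact p.Prime] {Ω : Type*} [Group Ω] {S : Subgroup Ω} [Finite S]
  {F : FusionSystem S} {E K W : Subgroup Ω}

/-- An automorphism of `S` inverting `W / K`, trivial on `S / E`, whose restriction to `E` lies in the
normal closure of the automorphisms given by `S`. -/
structure Torus (F : FusionSystem S) (E K W : Subgroup Ω) (hES : E ≤ S)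
    (hn : S ≤ Subgroup.normalizer (E : Set Ω)) (δ : MulAut S) : Prop where
  mem : δ ∈ F.autGroup S
  quot : ∀ x : S, ((δ x : S) : Ω) * (x : Ω)⁻¹ ∈ E
  inv : ∀ x : S, (x : Ω) ∈ W → ((δ x : S) : Ω) * x ∈ K
  restrict : ∃ σ : F.autGroup E,
    (∀ M : Subgroup (F.autGroup E), M.Normal → (∀ s : S, toAut F hES hn s ∈ M) → σ ∈ M) ∧
    ∀ x : E, ((δ (Subgroup.inclusion hES x) : S) : Ω) = (((σ : MulAut E) x : E) : Ω)

omit [Finite S] hp in
theorem Torus.map_E {hES : E ≤ S} {hn : S ≤ Subgroup.normalizer (E : Set Ω)} {δ : MulAut S}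
    (h : Torus F E K W hES hn δ) {x : S} (hx : (x : Ω) ∈ E) : ((δ x : S) : Ω) ∈ E := by
  have := mul_mem (h.quot x) hx
  rwa [inv_mul_cancel_right] at this

set_option maxHeartbeats 1000000 in
/-- Existence. -/
theorem exists_torus (hS : IsPGroup p S) (hp2 : p ≠ 2) (hF : F.IsSaturated p)
    (hE : F.IsEssential p E) (hd : Step p S E) (hKW : K ≤ W) (hWE : W ≤ E) (hK : Inv F E K)
    (hW : Inv F E W) (hc : Nat.card W = p ^ 2 * Nat.card K)
    (hcomm : ∀ a ∈ W, ∀ b ∈ W, a * b * a⁻¹ * b⁻¹ ∈ K) (hexp : ∀ a ∈ W, a ^ p ∈ K)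
    (hcen : ∀ e ∈ E, ∀ w ∈ W, e * w * e⁻¹ * w⁻¹ ∈ K)
    (hne : ∃ s ∈ S, ∃ w ∈ W, s * w * s⁻¹ * w⁻¹ ∉ K)
    (hno : ∀ L : Subgroup Ω, K ≤ L → L ≤ W → Nat.card L = p * Nat.card K → ¬ Inv F E L) :
    ∃ δ : MulAut S, Torus F E K W hd.le hd.norm δ := by
  classical
  have hp' := hp.out
  have hES := hd.le
  have hWS := hWE.trans hES
  have := finite_le hES
  have := finite_le hWS
  have := finite_le (hKW.trans hWS)
  have := finite_mulAut_of_le (S := S) hES
  haveI hKn : (K.subgroupOf W).Normal := (Subgroup.normal_subgroupOf_iff_le_normalizer hKW).2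
    fun w hw => hK.normalizer hES hd.norm (hKW.trans hWE) (hWS hw)
  let π : W →* W ⧸ K.subgroupOf W := QuotientGroup.mk' _
  have hπ : ∀ {a : W}, π a = 1 ↔ (a : Ω) ∈ K := fun {a} => QuotientGroup.eq_one_iff a
  have hπeq : ∀ {a b : W}, (a : Ω) * (b : Ω)⁻¹ ∈ K → π a = π b := fun {a b} h => by
    rw [← mul_inv_eq_one, ← map_inv, ← map_mul]
    exact hπ.2 h
  have hVc : ∀ u v : W ⧸ K.subgroupOf W, u * v = v * u := fun u v => by
    obtain ⟨a, rfl⟩ := QuotientGroup.mk'_surjective _ u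
    obtain ⟨b, rfl⟩ := QuotientGroup.mk'_surjective _ v
    rw [← map_mul, ← map_mul]
    refine hπeq ?_
    rw [Subgroup.coe_mul, Subgroup.coe_mul, mul_inv_rev, ← mul_assoc]
    exact hcomm _ a.2 _ b.2
  letI : CommGroup (W ⧸ K.subgroupOf W) :=
    { (inferInstance : Group (W ⧸ K.subgroupOf W)) with mul_comm := hVc }
  have hVe : ∀ v : W ⧸ K.subgroupOf W, v ^ p = 1 := fun v => by
    obtain ⟨a, rfl⟩ := QuotientGroup.mk'_surjective _ v
    rw [← map_pow]
    exact hπ.2 (by rw [Subgroup.coe_pow]; exact hexp _ a.2)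
  have hVcard : Nat.card (W ⧸ K.subgroupOf W) = p ^ 2 := by
    have h := (K.subgroupOf W).card_eq_card_quotient_mul_card_subgroup
    rw [hc, Nat.card_congr (Subgroup.subgroupOfEquivOfLe hKW).toEquiv] at h
    exact (Nat.eq_of_mul_eq_mul_right Nat.card_pos h).symm
  let e := Subgroup.subgroupOfEquivOfLe hWE
  have hmapW : ∀ σ : F.autGroup E, (W.subgroupOf E).map ((σ : MulAut E)).toMonoidHom =
      W.subgroupOf E := fun σ => map_subgroupOf_eq hES (by
    rintro _ ⟨w, hw, rfl⟩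
    exact hW _ σ.2 w hw)
  let R : F.autGroup E →* MulAut W :=
    { toFun := fun σ => e.symm.trans ((((σ : MulAut E).subgroupMap (W.subgroupOf E)).trans
        (MulEquiv.subgroupCongr (hmapW σ))).trans e)
      map_one' := MulEquiv.ext fun v => Subtype.ext rfl
      map_mul' := fun σ τ => MulEquiv.ext fun v => Subtype.ext rfl }
  have hR : ∀ (σ : F.autGroup E) (a : W),
      ((R σ a : W) : Ω) = (((σ : MulAut E) ⟨a, hWE a.2⟩ : E) : Ω) := fun σ a => rfl
  have hmapK : ∀ σ : F.autGroup E, (K.subgroupOf W).map ((R σ : MulAut W) : W →* W) =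
      K.subgroupOf W := fun σ => Subgroup.eq_of_le_of_card_ge (by
    rintro _ ⟨a, ha, rfl⟩
    show ((R σ a : W) : Ω) ∈ K
    rw [hR]
    exact hK _ σ.2 ⟨a, hWE a.2⟩ ha)
    (le_of_eq (Subgroup.card_map_of_injective (MulEquiv.injective (R σ))).symm)
  let L : F.autGroup E →* MulAut (W ⧸ K.subgroupOf W) :=
    { toFun := fun σ => QuotientGroup.congr _ _ (R σ) (hmapK σ)
      map_one' := MulEquiv.ext fun v => by
        obtain ⟨a, rfl⟩ := QuotientGroup.mk'_surjective _ v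
        show π (R 1 a) = π a
        rw [map_one, MulAut.one_apply]
      map_mul' := fun σ τ => MulEquiv.ext fun v => by
        obtain ⟨a, rfl⟩ := QuotientGroup.mk'_surjective _ v
        show π (R (σ * τ) a) = π (R σ (R τ a))
        rw [map_mul, MulAut.mul_apply] }
  have hL : ∀ (σ : F.autGroup E) (a : W), L σ (π a) = π (R σ a) := fun σ a => rfl
  have htA : ∀ (g : S) (a : W),
      ((R (toAut F hES hd.norm g) a : W) : Ω) = (g : Ω) * a * (g : Ω)⁻¹ := fun g a => by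
    rw [hR, toAut_apply]
  obtain ⟨s, hs, w₀, hw₀, hsw⟩ := hne
  obtain ⟨z, hzdef⟩ : ∃ z, z = toAut F hES hd.norm ⟨s, hs⟩ := ⟨_, rfl⟩
  have hz1 : L z ≠ 1 := by
    intro h
    have h2 := DFunLike.congr_fun h (π ⟨w₀, hw₀⟩)
    rw [MulAut.one_apply, hL, ← mul_inv_eq_one, ← map_inv, ← map_mul] at h2
    refine hsw ?_
    have h3 := hπ.1 h2
    rwa [Subgroup.coe_mul, Subgroup.coe_inv, hzdef, htA] at h3
  have hinE : ∀ g : S, (g : Ω) ∈ E → L (toAut F hES hd.norm g) = 1 := fun g hg =>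
    MulEquiv.ext fun v => by
      obtain ⟨a, rfl⟩ := QuotientGroup.mk'_surjective _ v
      rw [MulAut.one_apply, hL]
      exact hπeq (by rw [htA]; exact hcen _ hg _ a.2)
  obtain ⟨k, hk⟩ : ∃ k : ℕ, (⟨s, hs⟩ : S) ^ p ^ k = 1 := hS _
  have hzk : L z ^ p ^ k = 1 := by rw [hzdef, ← map_pow, ← map_pow, hk, map_one, map_one]
  obtain ⟨a₀, ha₀, himg⟩ := exists_img_of_sq hVe hVcard hzk
  have hfix : L z a₀ = a₀ := fix_of_img hVe himg hzk
  obtain ⟨Ty, hTy, hTy'⟩ := exists_sylow hS hF hE hd.norm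
  have hTz : ∀ u ∈ (Ty : Subgroup (F.autGroup E)), L u ∈ Subgroup.zpowers (L z) := by
    intro u hu
    obtain ⟨g, rfl⟩ := hTy u hu
    obtain ⟨e', he', i, hgi⟩ := hd.gen hs (fun h => hz1 (hzdef ▸ hinE ⟨s, hs⟩ h)) g.2
    refine Subgroup.mem_zpowers_iff.2 ⟨i, ?_⟩
    rw [show g = ⟨e', hES he'⟩ * ⟨s, hs⟩ ^ i from Subtype.ext (by simpa using hgi), map_mul,
      map_mul, hinE ⟨e', hES he'⟩ he', one_mul, map_zpow, map_zpow, hzdef]
  have hzp : L z ^ p = 1 := by
    refine MulEquiv.ext fun v => ?_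
    obtain ⟨i, hi⟩ := Subgroup.mem_zpowers_iff.1 (himg v)
    rw [MulAut.one_apply]
    exact PGroups.Transvections.pow_fix (v := a₀ ^ i) (by rw [hi, mul_comm v, inv_mul_cancel_right])
      (by rw [map_zpow, hfix]) (hVe _)
  have hzo : orderOf (L z) = p := orderOf_eq_prime hzp hz1
  have T : Transv p L z a₀ :=
    ⟨hVe, himg, hfix, hz1, fun c h1 h2 => alone_of_sylow L Ty hTz hzo h1 h2⟩
  -- a conjugate outside `⟨z⟩`
  obtain ⟨g, hg⟩ : ∃ g : F.autGroup E, L g a₀ ∉ Subgroup.zpowers a₀ := by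
    by_contra h
    push Not at h
    obtain ⟨L₀, hL₀⟩ : ∃ L₀, L₀ = ((Subgroup.zpowers a₀).comap π).map W.subtype := ⟨_, rfl⟩
    have hmem : ∀ {a : W}, (a : Ω) ∈ L₀ ↔ π a ∈ Subgroup.zpowers a₀ := fun {a} => by
      rw [hL₀, Subgroup.mem_map]
      exact ⟨fun ⟨b, hb, hba⟩ => by obtain rfl : b = a := Subtype.ext hba; exact hb,
        fun h => ⟨a, h, rfl⟩⟩
    refine hno L₀ (fun x hx => (hmem (a := ⟨x, hKW hx⟩)).2 (by rw [hπ.2 hx]; exact one_mem _))
      (hL₀ ▸ Subgroup.map_subtype_le _) ?_ ?_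
    · rw [hL₀, Subgroup.card_map_of_injective W.subtype_injective]
      let f := π.comp ((Subgroup.zpowers a₀).comap π).subtype
      have hf : f.range = Subgroup.zpowers a₀ := by
        rw [MonoidHom.range_comp, Subgroup.range_subtype,
          Subgroup.map_comap_eq_self_of_surjective (QuotientGroup.mk'_surjective _)]
      have hfk : f.ker = (K.subgroupOf W).subgroupOf ((Subgroup.zpowers a₀).comap π) := by
        ext x
        rw [MonoidHom.mem_ker, Subgroup.mem_subgroupOf]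
        exact QuotientGroup.eq_one_iff _
      rw [f.ker.card_eq_card_quotient_mul_card_subgroup,
        Nat.card_congr (QuotientGroup.quotientKerEquivRange f).toEquiv, hf, Nat.card_zpowers,
        orderOf_eq_prime (hVe a₀) ha₀, hfk,
        Nat.card_congr (Subgroup.subgroupOfEquivOfLe (fun x hx => by
          show π x ∈ Subgroup.zpowers a₀
          rw [hπ.2 hx]; exact one_mem _)).toEquiv,
        Nat.card_congr (Subgroup.subgroupOfEquivOfLe hKW).toEquiv]
    · intro α hα x hx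
      have hxW : (x : Ω) ∈ W := (hL₀ ▸ Subgroup.map_subtype_le _ : L₀ ≤ W) hx
      obtain ⟨i, hi⟩ := Subgroup.mem_zpowers_iff.1 ((hmem (a := ⟨x, hxW⟩)).1 hx)
      have h2 : L ⟨α, hα⟩ (π ⟨x, hxW⟩) ∈ Subgroup.zpowers a₀ := by
        rw [← hi, map_zpow]; exact zpow_mem (h ⟨α, hα⟩) i
      exact (hmem (a := R ⟨α, hα⟩ ⟨x, hxW⟩)).2 h2
  have hgz : L (g * z * g⁻¹) ∉ Subgroup.zpowers (L z) := by
    intro h
    obtain ⟨i, hi⟩ := Subgroup.mem_zpowers_iff.1 h
    obtain ⟨v, hv⟩ : ∃ v, L z v * v⁻¹ ≠ 1 := by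
      by_contra h'
      push Not at h'
      exact hz1 (MulEquiv.ext fun v => by rw [MulAut.one_apply]; exact mul_inv_eq_one.1 (h' v))
    obtain ⟨j, hj⟩ := Subgroup.mem_zpowers_iff.1 (himg v)
    -- powers of `z` move along the line
    have hpow : ∀ (i : ℤ) (u : W ⧸ K.subgroupOf W),
        (L z ^ i) u * u⁻¹ ∈ Subgroup.zpowers a₀ := by
      intro i u
      obtain ⟨c, hc'⟩ := Subgroup.mem_zpowers_iff.1 (himg u)
      have : ∀ n : ℕ, (L z ^ n) u = u * (L z u * u⁻¹) ^ n := fun n => by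
        induction n with
        | zero => simp
        | succ n ih =>
          rw [pow_succ', MulAut.mul_apply, ih, map_mul, map_pow,
            show L z (L z u * u⁻¹) = L z u * u⁻¹ by rw [← hc', map_zpow, hfix],
            pow_succ', ← mul_assoc u, mul_comm u (L z u * u⁻¹), inv_mul_cancel_right]
      obtain ⟨n, hn⟩ : ∃ n : ℕ, L z ^ i = L z ^ n :=
        ⟨(i % (p : ℤ)).toNat, by
          rw [← zpow_natCast, Int.toNat_of_nonneg (Int.emod_nonneg _ (by exact_mod_cast hp'.ne_zero)),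
            ← hzo, zpow_mod_orderOf]⟩
      rw [hn, this, mul_comm u, mul_inv_cancel_right]
      exact pow_mem (himg u) n
    have hmove := hpow i (L g v)
    have hlg : L g (L g⁻¹ (L g v)) = L g v := by
      rw [← MulAut.mul_apply, ← map_mul, mul_inv_cancel, map_one, MulAut.one_apply]
    rw [hi, map_mul, map_mul, MulAut.mul_apply, MulAut.mul_apply, map_inv L g,
      MulAut.inv_apply_self, ← map_inv (L g), ← map_mul (L g), ← hj, map_zpow] at hmove
    have hj0 : ¬ (p : ℤ) ∣ j := by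
      rintro ⟨c, rfl⟩
      rw [zpow_mul, zpow_natCast, hVe, one_zpow] at hj
      exact hv hj.symm
    obtain ⟨a, b, hab⟩ := (Nat.prime_iff_prime_int.1 hp').coprime_iff_not_dvd.2 hj0
    refine hg ?_
    have h3 := zpow_mem hmove b
    rwa [← zpow_mul, show L g a₀ ^ (j * b) = L g a₀ ^ (a * (p : ℤ)) * L g a₀ ^ (b * j) by
      rw [mul_comm a, zpow_mul (L g a₀) (p : ℤ), zpow_natCast, hVe, one_zpow, one_mul, mul_comm],
      ← zpow_add, hab, zpow_one] at h3
  obtain ⟨h, -, -, htor⟩ := T.exists_elements hgz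
  obtain ⟨d, hd0, hd1, -, -, hdcl⟩ := htor (-1) (-1) (by simp)
  have hdv : ∀ v, L d v = v⁻¹ := by
    intro v
    have hsub : Subgroup.zpowers a₀ ⊔ Subgroup.zpowers (L g a₀) = ⊤ := by
      refine Subgroup.eq_top_of_le_card _ ?_
      rw [hVcard, (card_sup_zpowers_of_pow_mem (Z := Subgroup.zpowers a₀)
        (fun c _ => mul_comm c _) (by rw [hVe]; exact one_mem _) hg).1, Nat.card_zpowers,
        orderOf_eq_prime (hVe a₀) ha₀, sq]
    obtain ⟨x, hx, y, hy, rfl⟩ := Subgroup.mem_sup.1 (hsub.ge (Subgroup.mem_top v))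
    obtain ⟨i, rfl⟩ := Subgroup.mem_zpowers_iff.1 hx
    obtain ⟨j, rfl⟩ := Subgroup.mem_zpowers_iff.1 hy
    rw [map_mul, map_zpow, map_zpow, hd0, hd1, zpow_neg_one, zpow_neg_one, inv_zpow, inv_zpow,
      mul_inv]
  -- normalize the Sylow subgroup
  obtain ⟨M₀, hM₀⟩ : ∃ M₀, M₀ = Subgroup.normalClosure (Set.range (toAut F hES hd.norm)) := ⟨_, rfl⟩
  have hM₀n : M₀.Normal := hM₀ ▸ Subgroup.normalClosure_normal
  have hzM : z ∈ M₀ := hM₀ ▸ hzdef ▸ Subgroup.subset_normalClosure ⟨_, rfl⟩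
  have hdM : d ∈ M₀ := (Subgroup.closure_le M₀).2 (by
    rintro y (rfl | rfl)
    · exact hzM
    · exact hM₀n.conj_mem z hzM g) hdcl
  obtain ⟨N₁, hN₁⟩ : ∃ N₁, N₁ = M₀ ⊓ (Subgroup.zpowers (L z)).comap L := ⟨_, rfl⟩
  have hTN : (Ty : Subgroup (F.autGroup E)) ≤ N₁ := fun u hu => by
    rw [hN₁]
    refine ⟨?_, hTz u hu⟩
    obtain ⟨gg, rfl⟩ := hTy u hu
    exact hM₀ ▸ Subgroup.subset_normalClosure ⟨gg, rfl⟩
  have hcent : ∀ σ, L (d * σ * d⁻¹) = L σ := fun σ => by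
    rw [map_mul, map_mul, map_inv, mul_inv_eq_iff_eq_mul]
    refine MulEquiv.ext fun v => ?_
    rw [MulAut.mul_apply, MulAut.mul_apply, hdv, hdv, map_inv]
  have hdN : d ∈ Subgroup.normalizer (N₁ : Set (F.autGroup E)) := by
    rw [Subgroup.mem_normalizer_iff]
    intro σ
    simp only [hN₁, Subgroup.mem_inf, Subgroup.mem_comap, hcent]
    exact ⟨fun h => ⟨hM₀n.conj_mem _ h.1 d, h.2⟩, fun h => ⟨by
      have := hM₀n.conj_mem _ h.1 d⁻¹
      simpa [mul_assoc] using this, h.2⟩⟩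
  have hdT : ((d • Ty : Sylow p (F.autGroup E)) : Subgroup (F.autGroup E)) ≤ N₁ := by
    intro u hu
    rw [Sylow.coe_subgroup_smul] at hu
    obtain ⟨t, ht, rfl⟩ := Subgroup.mem_map.1 hu
    exact (Subgroup.mem_normalizer_iff.1 hdN t).1 (hTN ht)
  obtain ⟨n, hn⟩ := MulAction.exists_smul_eq N₁ ((d • Ty).subtype hdT) (Ty.subtype hTN)
  obtain ⟨n', hn'⟩ : ∃ n' : F.autGroup E, n' = n := ⟨_, rfl⟩
  have hn'N : n' ∈ N₁ := hn' ▸ n.2
  have hnorm : n' * d ∈ Subgroup.normalizer ((Ty : Subgroup (F.autGroup E)) : Set (F.autGroup E)) := by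
    refine (Sylow.smul_eq_iff_mem_normalizer (P := Ty)).1 ?_
    rw [mul_smul]
    refine Sylow.subtype_injective (hP := ?_) (hQ := hTN) ?_
    · intro u hu
      rw [Sylow.coe_subgroup_smul] at hu
      obtain ⟨t, ht, rfl⟩ := Subgroup.mem_map.1 hu
      exact mul_mem (mul_mem hn'N (hdT ht)) (inv_mem hn'N)
    · subst hn'
      exact ((Sylow.smul_subtype hdT n).symm.trans hn)
  rw [hN₁] at hn'N
  obtain ⟨i, hi⟩ := Subgroup.mem_zpowers_iff.1 hn'N.2
  obtain ⟨σ, hσ⟩ : ∃ σ, σ = z ^ (-i) * (n' * d) := ⟨_, rfl⟩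
  have hzT : z ∈ (Ty : Subgroup (F.autGroup E)) := hzdef ▸ hTy' _
  have hσnorm : σ ∈ Subgroup.normalizer ((Ty : Subgroup (F.autGroup E)) : Set (F.autGroup E)) :=
    hσ ▸ mul_mem (zpow_mem (Subgroup.le_normalizer hzT) _) hnorm
  have hσM : σ ∈ M₀ := hσ ▸ mul_mem (zpow_mem hzM _) (mul_mem hn'N.1 hdM)
  have hσv : ∀ v, L σ v = v⁻¹ := fun v => by
    rw [hσ, map_mul, map_mul, map_zpow, ← hi, ← mul_assoc, ← zpow_add, neg_add_cancel, zpow_zero,
      one_mul, hdv]
  have hσL : ∀ τ, L (σ * τ * σ⁻¹) = L τ := fun τ => by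
    rw [map_mul, map_mul, map_inv, mul_inv_eq_iff_eq_mul]
    refine MulEquiv.ext fun v => ?_
    rw [MulAut.mul_apply, MulAut.mul_apply, hσv, hσv, map_inv]
  -- extension to `S`
  obtain ⟨u, hu⟩ := hTy _ ((Subgroup.mem_normalizer_iff.1 hσnorm _).1 hzT)
  have hconj : ∀ g : S, conjAut (⟨(g : Ω), g.2, hd.norm g.2⟩ : normalizerIn S E) =
      ((toAut F hES hd.norm g : F.autGroup E) : MulAut E) := fun g =>
    MulEquiv.ext fun x => Subtype.ext rfl
  obtain ⟨ψ, hψ, hψE, r, hψs⟩ := centric_extend hS hF hE.1 (α := (σ : MulAut E)) σ.2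
    ⟨s, hs, hd.norm hs⟩ ⟨(u : Ω), u.2, hd.norm u.2⟩ (by
      rw [hconj ⟨s, hs⟩, hconj u, hu, ← hzdef]
      show _ = (σ : MulAut E) * (z : MulAut E) * (σ : MulAut E)⁻¹ * (σ : MulAut E)
      rw [inv_mul_cancel_right])
  have hsE : s ∉ E := fun h => hz1 (hzdef ▸ hinE ⟨s, hs⟩ h)
  have htop : E ⊔ Subgroup.zpowers s = S := le_antisymm
    (sup_le hES (Subgroup.zpowers_le.2 hs)) fun g hg => by
      obtain ⟨e', he', j, rfl⟩ := hd.gen hs hsE hg
      exact mul_mem (Subgroup.mem_sup_left he') (zpow_mem (Subgroup.mem_sup_right (Subgroup.mem_zpowers s)) j)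
  obtain ⟨φ, hφ, hφv⟩ : ∃ φ ∈ F.Hom S, ∀ (x : S) (hx : (x : Ω) ∈ E ⊔ Subgroup.zpowers s),
      φ x = ψ ⟨x, hx⟩ :=
    ⟨ψ.comp (Subgroup.inclusion htop.ge), restrict_mem hψ htop.ge, fun x hx => rfl⟩
  obtain ⟨δ, hδI, hδv⟩ := exists_iso hφ (hom_range_eq_self hφ)
  have hδE : ∀ x : E, ((δ (Subgroup.inclusion hES x) : S) : Ω) = (((σ : MulAut E) x : E) : Ω) :=
    fun x => by
      rw [hδv, hφv _ (Subgroup.mem_sup_left x.2)]
      exact hψE x
  have husE : (u : Ω) * s⁻¹ ∈ E := by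
    have h1 : L (toAut F hES hd.norm u) = L z := by rw [hu, hσL]
    obtain ⟨e', he', j, hj⟩ := hd.gen hs hsE u.2
    rw [show u = ⟨e', hES he'⟩ * ⟨s, hs⟩ ^ j from Subtype.ext (by simpa using hj), map_mul, map_mul,
      hinE ⟨e', hES he'⟩ he', one_mul, map_zpow, map_zpow, ← hzdef] at h1
    have h2 : (p : ℤ) ∣ j - 1 := by
      have : L z ^ (j - 1) = 1 := by rw [zpow_sub_one, h1, mul_inv_cancel]
      rw [← hzo]
      exact orderOf_dvd_iff_zpow_eq_one.2 this
    obtain ⟨c, hc'⟩ := h2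
    rw [hj, show j = (p : ℤ) * c + 1 by omega, zpow_add_one, zpow_mul, zpow_natCast, mul_assoc,
      mul_inv_cancel_right]
    exact mul_mem he' (zpow_mem (hd.pow_mem hs) c)
  refine ⟨δ, (mem_autGroup_iff_isoIn le_rfl).2 hδI, fun x => ?_, fun x hx => ?_, σ, ?_, hδE⟩
  · obtain ⟨e', he', j, hj⟩ := hd.gen hs hsE x.2
    have hx : x = ⟨e', hES he'⟩ * ⟨s, hs⟩ ^ j := Subtype.ext (by simpa using hj)
    have hs' : ((δ ⟨s, hs⟩ : S) : Ω) * s⁻¹ ∈ E := by
      rw [hδv, hφv _ (Subgroup.mem_sup_right (Subgroup.mem_zpowers s)), hψs, mul_assoc]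
      exact mul_mem r.2 husE
    haveI hEn : (E.subgroupOf S).Normal :=
      (Subgroup.normal_subgroupOf_iff_le_normalizer hES).2 hd.norm
    have e1 : QuotientGroup.mk' (E.subgroupOf S) (δ ⟨s, hs⟩) = QuotientGroup.mk' (E.subgroupOf S) ⟨s, hs⟩ := by
      rw [← mul_inv_eq_one, ← map_inv, ← map_mul]
      exact (QuotientGroup.eq_one_iff _).2 hs'
    have e2 : QuotientGroup.mk' (E.subgroupOf S) (δ x * x⁻¹) = 1 := by
      rw [hx, map_mul δ, map_zpow δ, map_mul, map_mul, map_inv, map_mul, map_zpow, map_zpow, e1,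
        show QuotientGroup.mk' (E.subgroupOf S) (δ ⟨e', hES he'⟩) = 1 from
          (QuotientGroup.eq_one_iff _).2 (by
            show ((δ (Subgroup.inclusion hES ⟨e', he'⟩) : S) : Ω) ∈ E
            rw [hδE]; exact Subtype.coe_prop _),
        show QuotientGroup.mk' (E.subgroupOf S) ⟨e', hES he'⟩ = 1 from
          (QuotientGroup.eq_one_iff _).2 he']
      group
    exact ((QuotientGroup.eq_one_iff (δ x * x⁻¹)).1 e2 : (δ x * x⁻¹) ∈ E.subgroupOf S)
  · rw [show x = Subgroup.inclusion hES ⟨x, hWE hx⟩ from rfl, hδE]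
    have h := hσv (π ⟨x, hx⟩)
    rw [hL, ← map_inv, ← mul_inv_eq_one, ← map_inv, ← map_mul, inv_inv] at h
    have h2 := hπ.1 h
    rwa [Subgroup.coe_mul, hR] at h2
  · intro M hM hall
    exact Subgroup.normalClosure_le_normal (by rintro _ ⟨g', rfl⟩; exact hall g') (hM₀ ▸ hσM)

end CfsgLib.Fusion.TwoEssential
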